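import Groth.Agent.EtCore.K301.NodeFibAlg
import Groth.Agent.Models.H58.NodalGlueGeo
import Groth.Agent.Sga7.H598.SNNode
import Groth.Agent.CurvesB.NodeCriterion
import Groth.Agent.CurvesB.NodeSch
import Groth.Agent.CohtopA.GmDivGen
import Groth.Agent.S2344

/-!
# Exactly two points of the normalization of a curve lie over a node
-/

set_option autoImplicit false
universe u

open CategoryTheory CategoryTheory.Limits AlgebraicGeometry TopologicalSpace IsLocalRing

namespace K301.NodeFib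

open Groth.Agent NodeFibAlg

theorem one_le_of_not_isField {R : Type u} [CommRing R] [IsDomain R] (h : ¬ IsField R) :
    (1 : WithBot ℕ∞) ≤ ringKrullDim R := by
  by_contra hlt
  have h2 : ringKrullDim R ≤ 0 := by
    have h3 : ringKrullDim R < ((0 : ℕ) : WithBot ℕ∞) + 1 := by
      rw [Nat.cast_zero, zero_add]
      exact not_le.1 hlt
    exact ENat.WithBot.lt_add_one_iff.1 h3
  have : Ring.KrullDimLE 0 R := Ring.krullDimLE_iff.2 h2
  exact h Ring.KrullDimLE.isField_of_isDomain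

theorem isIso_app_of_le {X X' : Scheme.{u}} (ν : X' ⟶ X) (U W : X.Opens) (h : W ≤ U)
    [IsIso (ν ∣_ U)] : IsIso (ν.app W) := by
  have hW : U.ι ''ᵁ (U.ι ⁻¹ᵁ W) = W := by
    rw [Scheme.Hom.image_preimage_eq_opensRange_inf, Scheme.Opens.opensRange_ι]
    exact inf_eq_right.2 h
  have h1 : IsIso ((ν ∣_ U).app (U.ι ⁻¹ᵁ W)) := inferInstance
  rw [morphismRestrict_app] at h1
  have h3 : ∀ {A B : X'.Opens} (e : A = B), IsIso (X'.presheaf.map (eqToHom e).op) := by
    rintro A _ rfl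
    rw [eqToHom_refl, op_id, CategoryTheory.Functor.map_id]
    infer_instance
  have h4 := h3 (show ν ⁻¹ᵁ U.ι ''ᵁ (U.ι ⁻¹ᵁ W) = (ν ⁻¹ᵁ U).ι ''ᵁ ((ν ∣_ U) ⁻¹ᵁ (U.ι ⁻¹ᵁ W)) from
    (image_morphismRestrict_preimage ν U (U.ι ⁻¹ᵁ W)).symm)
  have h2 : IsIso (ν.app (U.ι ''ᵁ (U.ι ⁻¹ᵁ W))) :=
    @IsIso.of_isIso_comp_right _ _ _ _ _ _ _ (h3 _) h1
  rwa [hW] at h2

/-- Sections over the preimage of an affine open have denominators. -/
theorem exists_denom_app {X X' : Scheme.{u}} (ν : X' ⟶ X) [IsIntegral X] [IsIntegral X']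
    [IsDominant ν] (U : X.Opens) (hU : (U : Set X).Nonempty) [IsIso (ν ∣_ U)] (V : X.Opens)
    (hV : IsAffineOpen V) (hVne : (V : Set X).Nonempty) (b : Γ(X', ν ⁻¹ᵁ V)) :
    ∃ s : Γ(X, V), s ≠ 0 ∧ ∃ a : Γ(X, V), ν.app V a = ν.app V s * b := by
  obtain ⟨x₀, hxV, hxU⟩ : ((V : Set X) ∩ (U : Set X)).Nonempty :=
    nonempty_preirreducible_inter V.2 U.2 hVne hU
  obtain ⟨s, hs, hxs⟩ := hV.exists_basicOpen_le ⟨x₀, hxU⟩ hxV
  have hV1 : Nonempty V := ⟨⟨x₀, hxV⟩⟩
  have hs0 : s ≠ 0 := by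
    rintro rfl
    rw [Scheme.basicOpen_zero] at hxs
    exact hxs
  have hsV : X.basicOpen s ≤ V := X.basicOpen_le s
  have hiso := isIso_app_of_le ν U (X.basicOpen s) hs
  have hbij : Function.Bijective (ν.app (X.basicOpen s)) := ConcreteCategory.bijective_of_isIso _
  let i : ν ⁻¹ᵁ (X.basicOpen s) ≤ ν ⁻¹ᵁ V := fun x hx => hsV hx
  obtain ⟨c, hc⟩ := hbij.2 ((X'.presheaf.map (homOfLE i).op).hom b)
  have hloc := hV.isLocalization_basicOpen s
  obtain ⟨⟨a, ⟨_, n, rfl⟩⟩, ha⟩ := IsLocalization.surj (M := Submonoid.powers s) c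
  have : Nonempty V := ⟨⟨x₀, hxV⟩⟩
  have hdom : IsDomain Γ(X, V) := inferInstance
  refine ⟨s ^ n, pow_ne_zero n hs0, a, ?_⟩
  -- restriction to the preimage of the basic open is injective
  have hne : Nonempty (ν ⁻¹ᵁ (X.basicOpen s)) := by
    obtain ⟨y, hy⟩ := ν.denseRange.exists_mem_open (X.basicOpen s).2 ⟨x₀, hxs⟩
    exact ⟨⟨y, hy⟩⟩
  apply map_injective_of_isIntegral X' (homOfLE i)
  have hnat : ∀ t : Γ(X, V), (X'.presheaf.map (homOfLE i).op).hom (ν.app V t) =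
      ν.app (X.basicOpen s) ((X.presheaf.map (homOfLE hsV).op).hom t) := fun t =>
    (ConcreteCategory.congr_hom (ν.naturality (homOfLE hsV).op) t).symm
  have ha' : c * (X.presheaf.map (homOfLE hsV).op).hom (s ^ n) =
    (X.presheaf.map (homOfLE hsV).op).hom a := ha
  have h4 := congrArg (ν.app (X.basicOpen s)).hom ha'
  rw [map_mul] at h4
  change (X'.presheaf.map (homOfLE i).op).hom _ = (X'.presheaf.map (homOfLE i).op).hom _
  rw [map_mul]
  rw [hnat, hnat]
  refine h4.symm.trans ?_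
  rw [mul_comm]
  congr 1

section

variable (k : Type u) [Field k] [IsAlgClosed k] (X : Scheme.{u}) [X.Over (Spec (CommRingCat.of k))]
  [LocallyOfFiniteType (X ↘ (Spec (CommRingCat.of k)))]
  [QuasiCompact (X ↘ (Spec (CommRingCat.of k)))] [IsIntegral X]

omit [IsAlgClosed k] [QuasiCompact (X ↘ (Spec (CommRingCat.of k)))] [IsIntegral X] in
theorem gorenstein_of_isNode (hdim : topologicalKrullDim X ≤ 1) (x : X) (hx : Curv2.IsNode k X x) :
    LocCoh.IsGorensteinLocalRing (X.presheaf.stalk x) := by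
  obtain ⟨-, xb, hxb, h⟩ := hx
  subst hxb
  have hNXK : IsLocallyNoetherian (Curv2.bc k X (AlgebraicClosure k)) :=
    Groth.Agent.CurvesB.NodeSch2.isLocallyNoetherian_of_locallyOfFiniteType (Curv2.bcSnd k X (AlgebraicClosure k))
  have hNX : IsLocallyNoetherian X :=
    Groth.Agent.CurvesB.NodeSch2.isLocallyNoetherian_of_locallyOfFiniteType (X ↘ (Spec (CommRingCat.of k)))
  let iO : (Curv2.bc k X (AlgebraicClosure k)).Over (Spec (CommRingCat.of (AlgebraicClosure k))) :=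
    ⟨Curv2.bcSnd k X (AlgebraicClosure k)⟩
  let iKO : Algebra (AlgebraicClosure k)
      ((Curv2.bc k X (AlgebraicClosure k)).presheaf.stalk xb) :=
    Curv2.stalkAlgebra (AlgebraicClosure k) (Curv2.bc k X (AlgebraicClosure k)) _
  let iA : Algebra (X.presheaf.stalk (Curv2.bcFst k X (AlgebraicClosure k) xb))
      ((Curv2.bc k X (AlgebraicClosure k)).presheaf.stalk xb) :=
    ((Curv2.bcFst k X (AlgebraicClosure k)).stalkMap _).hom.toAlgebra
  have : IsLocalHom (algebraMap (X.presheaf.stalk (Curv2.bcFst k X (AlgebraicClosure k) xb))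
      ((Curv2.bc k X (AlgebraicClosure k)).presheaf.stalk xb)) :=
    inferInstanceAs (IsLocalHom ((Curv2.bcFst k X (AlgebraicClosure k)).stalkMap _).hom)
  have : Module.Flat (X.presheaf.stalk (Curv2.bcFst k X (AlgebraicClosure k) xb))
      ((Curv2.bc k X (AlgebraicClosure k)).presheaf.stalk xb) :=
    Flat.stalkMap (Curv2.bcFst k X (AlgebraicClosure k)) _
  have : Ring.KrullDimLE 1 (X.presheaf.stalk (Curv2.bcFst k X (AlgebraicClosure k) xb)) :=
    Ring.krullDimLE_iff.2 ((CurvesB.DimPts.ringKrullDim_stalk_le _).trans hdim)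
  exact CurvesB.NodeSch.isGorensteinLocalRing_of_isOrdDoublePt
    (R := (Curv2.bc k X (AlgebraicClosure k)).presheaf.stalk xb) h

omit [IsAlgClosed k] [QuasiCompact (X ↘ (Spec (CommRingCat.of k)))] [IsIntegral X] in
theorem not_isPrincipal_of_isNode (x : X) (hx : Curv2.IsNode k X x) :
    ¬ (maximalIdeal (X.presheaf.stalk x)).IsPrincipal := by
  have h := ((CurvesB.Node.isNode_iff k X x).1 hx).2.not_principal 1 le_rfl
  rwa [pow_one] at h

omit [IsAlgClosed k] [QuasiCompact (X ↘ (Spec (CommRingCat.of k)))] in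
theorem ne_genericPoint (x : X) (hx : Curv2.IsNode k X x) : x ≠ genericPoint X := by
  rintro rfl
  apply not_isPrincipal_of_isNode k X _ hx
  have : IsField (X.presheaf.stalk (genericPoint X)) := Field.toIsField X.functionField
  rw [isField_iff_maximalIdeal_eq.1 this]
  exact bot_isPrincipal

/-- **Exactly two points lie over a node.** -/
theorem node_fibre (hdim : topologicalKrullDim X ≤ 1) {X' : Scheme.{u}} (ν : X' ⟶ X) [IsFinite ν]
    [IsIntegral X'] (hnorm : ∀ x' : X', IsIntegrallyClosed (X'.presheaf.stalk x'))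
    (U : X.Opens) (hU : (U : Set X).Nonempty) [IsIso (ν ∣_ U)] (z : X) (hz : Curv2.IsNode k X z) :
    ∃ x y : X', ν x = z ∧ ν y = z ∧ x ≠ y ∧ ∀ w : X', ν w = z → w = x ∨ w = y := by
  let f : X ⟶ Spec (CommRingCat.of k) := X ↘ (Spec (CommRingCat.of k))
  have hN : AlgebraicGeometry.IsNoetherian X := Models.H58.NodalGlueGeo.isNoetherian f
  have hN' : AlgebraicGeometry.IsNoetherian X' := Models.H58.NodalGlueGeo.isNoetherian (ν ≫ f)
  have hzc : IsClosed ({z} : Set X) := hz.1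
  have hdom : IsDominant ν := Models.H58.NodalGlueGeo.isDominant ν U (U.isOpen.dense hU)
  have hsd := IsSchemeTheoreticallyDominant.of_isDominant ν
  obtain ⟨V, hV, hzV, -⟩ := exists_isAffineOpen_mem_and_subset (U := (⊤ : X.Opens)) (x := z) trivial
  have hW : IsAffineOpen (ν ⁻¹ᵁ V) := hV.preimage ν
  let _ : Algebra Γ(X, V) Γ(X', ν ⁻¹ᵁ V) := (ν.app V).hom.toAlgebra
  let _ : Algebra Γ(X, V) (X.presheaf.stalk z) := X.presheaf.algebra_section_stalk ⟨z, hzV⟩
  let _ : Algebra k Γ(X, V) :=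
    ((f.appLE ⊤ V le_top).hom.comp (Scheme.ΓSpecIso (CommRingCat.of k)).inv.hom).toAlgebra
  have _ : Algebra.FiniteType k Γ(X, V) := Models.H58.NodalGlueGeo.finiteType_section f V hV
  have _ : Module.Finite Γ(X, V) Γ(X', ν ⁻¹ᵁ V) := ν.finite_app V hV
  have hloc : IsLocalization.AtPrime (X.presheaf.stalk z) (hV.primeIdealOf ⟨z, hzV⟩).asIdeal :=
    hV.isLocalization_stalk ⟨z, hzV⟩
  have hpmax := Dix.ClosedAlg.isMaximal_primeIdealOf z hzc V hV hzV
  have hNA : IsNoetherianRing Γ(X, V) := IsLocallyNoetherian.component_noetherian ⟨V, hV⟩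
  have hgen : ν (genericPoint X') = genericPoint X := by
    have h1 : IsGenericPoint (ν (genericPoint X')) (Set.univ : Set X) := by
      rw [← ν.denseRange.closure_range, ← Set.image_univ]
      exact (genericPoint_spec X').image ν.continuous
    exact h1.eq (genericPoint_spec X)
  have hzgen := ne_genericPoint k X z hz
  have hfibgen : ∀ w : X', ν w = z → ¬ IsField (X'.presheaf.stalk w) := by
    intro w hw hf
    apply hzgen
    have : genericPoint X' = w := CohtopA.GmDivGen.IsGen.eq_of_specializes (X := X') hf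
      (genericPoint_specializes w)
    rw [← hw, ← this, hgen]
  have hVne : (V : Set X).Nonempty := ⟨z, hzV⟩
  obtain ⟨g, hgV⟩ : ∃ y : X', y ∈ ν ⁻¹ᵁ V := by
    exact ν.denseRange.exists_mem_open V.2 hVne
  have hWne : Nonempty (ν ⁻¹ᵁ V) := ⟨⟨g, hgV⟩⟩
  -- the primes over `p`
  have hq : ∀ q : Ideal Γ(X', ν ⁻¹ᵁ V), ∀ hq : q.IsPrime,
      q.comap (algebraMap Γ(X, V) Γ(X', ν ⁻¹ᵁ V)) = (hV.primeIdealOf ⟨z, hzV⟩).asIdeal →
      ∃ (x : X') (hx : x ∈ ν ⁻¹ᵁ V), (hW.primeIdealOf ⟨x, hx⟩).asIdeal = q ∧ ν x = z := by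
    intro q hq hqp
    obtain ⟨⟨x, hx⟩, hxq⟩ := Sga67.BlowReg.exists_primeIdealOf_eq hW ⟨q, hq⟩
    have hxq' : (hW.primeIdealOf ⟨x, hx⟩).asIdeal = q := congrArg PrimeSpectrum.asIdeal hxq
    refine ⟨x, hx, hxq', ?_⟩
    have h1 := IsAffineOpen.comap_primeIdealOf_appLE V hV (ν ⁻¹ᵁ V) hW le_rfl hx
    rw [Scheme.Hom.appLE_eq_app] at h1
    have h2 := congr_arg PrimeSpectrum.asIdeal h1
    have h3 : (hV.primeIdealOf ⟨ν x, hx⟩).asIdeal = (hV.primeIdealOf ⟨z, hzV⟩).asIdeal := by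
      rw [← hqp, ← hxq']
      exact h2.symm
    have h4 := PrimeSpectrum.ext h3
    have h5 := congrArg hV.fromSpec h4
    rwa [hV.fromSpec_primeIdealOf, hV.fromSpec_primeIdealOf] at h5
  have hback : ∀ (x : X') (hx : x ∈ ν ⁻¹ᵁ V), ν x = z →
      (hW.primeIdealOf ⟨x, hx⟩).asIdeal.comap (algebraMap Γ(X, V) Γ(X', ν ⁻¹ᵁ V)) =
        (hV.primeIdealOf ⟨z, hzV⟩).asIdeal := by
    intro x hx hxz
    have h1 := IsAffineOpen.comap_primeIdealOf_appLE V hV (ν ⁻¹ᵁ V) hW le_rfl hx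
    rw [Scheme.Hom.appLE_eq_app] at h1
    have h2 := congr_arg PrimeSpectrum.asIdeal h1
    refine h2.trans ?_
    subst hxz
    rfl
  have hdimz : ringKrullDim (X.presheaf.stalk z) ≤ 1 :=
    (CurvesB.DimPts.ringKrullDim_stalk_le z).trans hdim
  obtain ⟨q₁, q₂, hq₁, hq₂, hp₁, hp₂, hne, hall⟩ := exists_two (A₀ := Γ(X, V))
    (B₀ := Γ(X', ν ⁻¹ᵁ V)) (O := X.presheaf.stalk z)
    (hV.primeIdealOf ⟨z, hzV⟩).asIdeal (ν.app_injective V)
    (fun q hqP hqp b => Models.H58.NodalGlueGeo.exists_const_mod (k := k)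
      (hV.primeIdealOf ⟨z, hzV⟩).asIdeal q hqp b)
    (fun b => exists_denom_app ν U hU V hV hVne b)
    (by
      intro q hqP hqp
      obtain ⟨x, hx, rfl, hxz⟩ := hq q hqP hqp
      have h1 : IsDomain (X'.presheaf.stalk x) := inferInstance
      have h2 := hnorm x
      have h3 : ringKrullDim (X'.presheaf.stalk x) ≤ 1 :=
        (CurvesB.DimPts.ringKrullDim_stalk_le x).trans
          ((EtpbcA.CharPDim.dim_le_of_isIntegralHom ν).trans hdim)
      have h4 : IsRegularLocalRing (X'.presheaf.stalk x) :=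
        Groth.Agent.S2344.isRegular_of_normal _ h3
      have h5 : IsDiscreteValuationRing (X'.presheaf.stalk x) :=
        VarietyA.SmoothReg.isDiscreteValuationRing_of_isRegularLocalRing _
          (le_antisymm h3 (one_le_of_not_isField (hfibgen x hxz)))
      have e := Sga67.BlowReg.stalkEquiv hW hx
      have hd := e.toMulEquiv.isDomain (B := X'.presheaf.stalk x)
      exact ⟨hd, _root_.IsDiscreteValuationRing.RingEquivClass.isDiscreteValuationRing e.symm⟩)
    (gorenstein_of_isNode k X hdim z hz) hdimz (Sga7.H598.SNNode.sn_of_isNode k X z hz)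
    (not_isPrincipal_of_isNode k X z hz)
  obtain ⟨x, hx, hxq, hxz⟩ := hq q₁ hq₁ hp₁
  obtain ⟨y, hy, hyq, hyz⟩ := hq q₂ hq₂ hp₂
  have hinj : ∀ (a : X') (ha : a ∈ ν ⁻¹ᵁ V) (b : X') (hb : b ∈ ν ⁻¹ᵁ V),
      (hW.primeIdealOf ⟨a, ha⟩).asIdeal = (hW.primeIdealOf ⟨b, hb⟩).asIdeal → a = b := by
    intro a ha b hb h
    have h5 := congrArg hW.fromSpec (PrimeSpectrum.ext h)
    rwa [hW.fromSpec_primeIdealOf, hW.fromSpec_primeIdealOf] at h5
  refine ⟨x, y, hxz, hyz, ?_, ?_⟩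
  · rintro rfl
    exact hne (hxq.symm.trans hyq)
  · intro w hw
    have hwV : w ∈ ν ⁻¹ᵁ V := by
      change ν w ∈ V
      rw [hw]
      exact hzV
    rcases hall _ inferInstance (hback w hwV hw) with h | h
    · left
      exact hinj w hwV x hx (h.trans hxq.symm)
    · right
      exact hinj w hwV y hy (h.trans hyq.symm)

end

end K301.NodeFib
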