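import Groth.Agent.EtCore.K301.GmDivRLoc
import Groth.Agent.CohtopA.GmDivFinal

/-!
# The divisor sequence on an integral scheme, without quasi-compactness
-/

set_option autoImplicit false
universe u

open CategoryTheory CategoryTheory.Limits AlgebraicGeometry Opposite TopologicalSpace

namespace K301.GmDivRFinal

open Groth.Agent.CohtopA GmDivFun GmDivEval GmDivD GmDivGen GmDivColim GmDivSch GmDivRK GmDivRLoc
open Groth.Agent.Etbase.EtColim
open GmDivPt hiding evK_congr evU evU_map evU_specializes evU_gmK evU_bijective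
open GmDivVal hiding Φ Φ_apply gmK_Φ
open GmDivLoc hiding evU_specializes_val finite_support exists_unit_germ Φ_map_apply exists_gm_lift_integral exists_section
open GmDivFinal (exists_integral_nhds eq_zero_of_local dim_hom)

attribute [local instance 3000] hasSheafify_et wEqualsLocallyBijective_et hasSheafCompose_et
  isGrothendieckAbelian_et hasExt_et hasPullbacks_et

attribute [local instance] GmDivFinal.etale_hom

variable {X : Scheme.{u}}

section

variable [IsIntegral X] [ELF X]

/-- Locally the divisor of a section is finitely supported. -/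
lemma exists_TT {U : X.Etale} (s : EtCoh.sect (K X) U) (u : U.left) :
    ∃ (V : X.Etale) (g : V ⟶ U), (∃ v : V.left, g.left v = u) ∧
      ∃ (T : J X) (d : EtCoh.sect (dSheaf X ℤ (TT X T)) V),
        (dι X ℤ (TT X T)).hom.app (op V) d = (Φ X).hom.app (op V) ((K X).obj.map g.op s) := by
  classical
  obtain ⟨W, hu, h1, h2⟩ := exists_integral_nhds U u
  let V := resE U W
  let s' : EtCoh.sect (K X) V := (K X).obj.map (resι U W).op s
  have hF := finite_support s'
  refine ⟨V, resι U W, ⟨(⟨u, hu⟩ : W), rfl⟩,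
    hF.toFinset.image (fun y => ULift.up.{u + 1} (V.hom y)), ?_⟩
  refine ⟨(⟨fun y => ULift.up (ordPt y (evU y s')), ?_⟩ : dSub X ℤ _ V), rfl⟩
  intro y hy
  have hy' : ordPt y (evU y s') ≠ 0 := fun h => hy (congrArg ULift.up h)
  refine ⟨?_, Finset.mem_image.2 ⟨y, by simpa using hy', rfl⟩⟩
  rw [← dim_hom y]
  by_contra hd
  exact hy' (by rw [ordPt_of_not y hd]; rfl)

/-- A section of the sheaf of divisors is locally the divisor of a rational function. -/
lemma exists_section_local {T : J X} {U : X.Etale} (d : EtCoh.sect (dSheaf X ℤ (TT X T)) U)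
    (u : U.left) :
    ∃ (V : X.Etale) (g : V ⟶ U), (∃ v : V.left, g.left v = u) ∧ ∃ s : EtCoh.sect (K X) V,
      (Φ X).hom.app (op V) s =
        (dι X ℤ (TT X T)).hom.app (op V) ((dSheaf X ℤ (TT X T)).obj.map g.op d) := by
  obtain ⟨W, hu, h1, h2⟩ := exists_integral_nhds U u
  let V₁ := resE U W
  let v₁ : V₁.left := (⟨u, hu⟩ : W)
  let d₁ : dSub X ℤ (TT X T) V₁ := (dSheaf X ℤ (TT X T)).obj.map (resι U W).op d
  have hqc : QuasiCompact (X := V₁.left) (Y := X) V₁.hom := by
    exact quasiCompact_of_noetherianSpace_source (X := V₁.left) (Y := X) V₁.hom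
  have hqf : LocallyQuasiFinite (X := V₁.left) (Y := X) V₁.hom :=
    Groth.Agent.Desc.LQF.of_etale (X := V₁.left) (Y := X) V₁.hom
  have hfin : {y : V₁.left | (d₁.1 y).down ≠ 0}.Finite := by
    refine (Scheme.Hom.finite_preimage (X := V₁.left) (Y := X) V₁.hom (finite_TT X T)).subset ?_
    intro y hy
    exact d₁.2 y (fun h => hy (by rw [h]; rfl))
  obtain ⟨W₂, hv₂, s, hs⟩ := exists_section (V := V₁) (fun y => (d₁.1 y).down) hfin (by
    intro y hy
    rw [dim_hom y]
    exact (d₁.2 y (fun h => hy (by rw [h]; rfl))).1) v₁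
  refine ⟨resE V₁ W₂, resι V₁ W₂ ≫ resι U W, ⟨(⟨v₁, hv₂⟩ : W₂), rfl⟩,
    (K X).obj.map (resι V₁ W₂).op s, ?_⟩
  funext y
  change ULift.up (ordPt y (evU y ((K X).obj.map (resι V₁ W₂).op s))) = _
  rw [Φ_map_apply]
  have h3 := hs ((resι V₁ W₂).left y) y.2
  rw [h3]
  rfl

variable (X)

theorem Φ_coker : Φ X ≫ cokernel.π (D'ι X) = 0 := by
  ext U s
  refine eq_zero_of_local (X := X) (U := U.unop) _ (fun u => ?_)
  obtain ⟨V, g, hv, T, d, hd⟩ := exists_TT s u
  refine ⟨V, g, hv, ?_⟩
  have e1 : (cokernel (D'ι X)).obj.map g.op ((Φ X ≫ cokernel.π (D'ι X)).hom.app U s) =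
      (cokernel.π (D'ι X)).hom.app (op V) ((Φ X).hom.app (op V) ((K X).obj.map g.op s)) :=
    (ConcreteCategory.congr_hom ((Φ X ≫ cokernel.π (D'ι X)).hom.naturality g.op) s).symm
  refine e1.trans ?_
  rw [← hd]
  have e2 : dι X ℤ (TT X T) ≫ cokernel.π (D'ι X) = 0 := by
    rw [← D'in_D'ι, Category.assoc, cokernel.condition, comp_zero]
  exact congrArg (fun f => f.hom.app (op V) d) e2

theorem exists_Φ' : ∃ Φ' : K X ⟶ D' X, Φ' ≫ D'ι X = Φ X := by
  have := mono_D'ι X
  let S : ShortComplex (EtCoh.Ab X) := ShortComplex.mk (D'ι X) (cokernel.π (D'ι X)) (cokernel.condition _)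
  have hS : S.Exact := ShortComplex.exact_of_g_is_cokernel _ (cokernelIsCokernel _)
  have : Mono S.f := mono_D'ι X
  exact ⟨hS.lift (Φ X) (Φ_coker X), hS.lift_f _ _⟩

/-- The divisor morphism with values in the sheaf of divisors. -/
noncomputable def Φ' : K X ⟶ D' X := (exists_Φ' X).choose

lemma Φ'_D'ι : Φ' X ≫ D'ι X = Φ X := (exists_Φ' X).choose_spec

instance epi_Φ' : Epi (Φ' X) := by
  refine Preadditive.epi_of_cancel_zero _ (fun {Z} q hq => ?_)
  apply D'_hom_ext
  intro T
  rw [comp_zero]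
  ext U d
  refine eq_zero_of_local (X := X) (U := U.unop) _ (fun u => ?_)
  obtain ⟨V, g, hv, s, hs⟩ := exists_section_local d u
  refine ⟨V, g, hv, ?_⟩
  have e1 : Z.obj.map g.op ((D'in X T ≫ q).hom.app U d) =
      q.hom.app (op V) ((D'in X T).hom.app (op V) ((dSheaf X ℤ (TT X T)).obj.map g.op d)) :=
    (ConcreteCategory.congr_hom ((D'in X T ≫ q).hom.naturality g.op) d).symm
  refine e1.trans ?_
  have e2 : (D'in X T).hom.app (op V) ((dSheaf X ℤ (TT X T)).obj.map g.op d) =
      (Φ' X).hom.app (op V) s := by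
    have := mono_D'ι X
    apply Groth.Agent.Dix.PointExact.sect_injective_of_mono (D'ι X)
    have e3 : (D'ι X).hom.app (op V) ((Φ' X).hom.app (op V) s) = (Φ X).hom.app (op V) s :=
      congrArg (fun f => f.hom.app (op V) s) (Φ'_D'ι X)
    refine Eq.trans ?_ e3.symm
    refine Eq.trans ?_ hs.symm
    exact congrArg (fun f => f.hom.app (op V) ((dSheaf X ℤ (TT X T)).obj.map g.op d)) (D'in_D'ι X T)
  rw [e2]
  exact congrArg (fun f => f.hom.app (op V) s) hq

instance mono_gmK : Mono (gmK X) := by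
  apply mono_of_injective
  intro U
  rw [injective_iff_map_eq_zero]
  intro s hs
  apply toUnit_injective
  apply Units.ext
  refine TopCat.Presheaf.section_ext U.left.sheaf ⊤ _ _ (fun u hu => ?_)
  have h1 := evU_gmK u s
  rw [hs, map_zero] at h1
  have h2 := congrArg (fun z : Additive (FractionRing (U.left.presheaf.stalk u))ˣ =>
    (z.toMul : FractionRing (U.left.presheaf.stalk u))) h1
  have h3 : (1 : FractionRing (U.left.presheaf.stalk u)) =
      algebraMap (U.left.presheaf.stalk u) (FractionRing (U.left.presheaf.stalk u))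
        ((U.left.presheaf.germ ⊤ u trivial).hom (toUnit s)) := h2
  rw [← map_one (algebraMap (U.left.presheaf.stalk u)
    (FractionRing (U.left.presheaf.stalk u)))] at h3
  have h4 := IsFractionRing.injective (U.left.presheaf.stalk u)
    (FractionRing (U.left.presheaf.stalk u)) h3
  refine h4.symm.trans ?_
  exact (map_one (U.left.presheaf.germ ⊤ u trivial).hom).symm

lemma gmK_Φ' : gmK X ≫ Φ' X = 0 := by
  have := mono_D'ι X
  rw [← cancel_mono (D'ι X), Category.assoc, Φ'_D'ι, gmK_Φ, zero_comp]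

/-- Local lifting of sections without divisor to `G_m`. -/
lemma exists_gm_lift {U : X.Etale} (s : EtCoh.sect (K X) U)
    (hs : (Φ X).hom.app (op U) s = 0) (u : U.left) :
    ∃ (V : X.Etale) (g : V ⟶ U), (∃ v : V.left, g.left v = u) ∧
      ∃ r : EtCoh.sect (EtCoh.Gm X) V, (gmK X).hom.app (op V) r = (K X).obj.map g.op s := by
  obtain ⟨W, hu, h1, h2⟩ := exists_integral_nhds U u
  let V₁ := resE U W
  let v₁ : V₁.left := (⟨u, hu⟩ : W)
  let s₁ : EtCoh.sect (K X) V₁ := (K X).obj.map (resι U W).op s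
  have hs₁ : ∀ y : V₁.left, ordPt y (evU y s₁) = 0 := by
    intro y
    rw [Φ_map_apply]
    exact congrArg ULift.down (congrFun (α := U.left) (β := fun _ => ULift.{u + 1} ℤ) hs _)
  obtain ⟨W₂, hv₂, r, hr⟩ := exists_gm_lift_integral s₁ hs₁ v₁
  refine ⟨resE V₁ W₂, resι V₁ W₂ ≫ resι U W, ⟨(⟨v₁, hv₂⟩ : W₂), rfl⟩, r, hr.trans ?_⟩
  rw [op_comp, Functor.map_comp]
  rfl

/-- The divisor sequence. -/
noncomputable def divSeq : ShortComplex (EtCoh.Ab X) := ShortComplex.mk (gmK X) (Φ' X) (gmK_Φ' X)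

theorem shortExact_divSeq : (divSeq X).ShortExact where
  exact := by
    rw [ShortComplex.exact_iff_epi_kernel_lift]
    rw [Groth.Agent.Dix.EtaleSieve.epi_iff]
    intro U t u
    let s : EtCoh.sect (K X) U := (kernel.ι (Φ' X)).hom.app (op U) t
    have hs : (Φ X).hom.app (op U) s = 0 := by
      have e : kernel.ι (Φ' X) ≫ Φ X = 0 := by
        rw [← Φ'_D'ι, ← Category.assoc, kernel.condition, zero_comp]
      exact congrArg (fun f => f.hom.app (op U) t) e
    obtain ⟨V, g, hv, r, hr⟩ := exists_gm_lift X s hs u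
    refine ⟨V, g, hv, r, ?_⟩
    apply Groth.Agent.Dix.PointExact.sect_injective_of_mono (kernel.ι (Φ' X))
    have e1 : (kernel.ι (Φ' X)).hom.app (op V)
        ((kernel.lift (divSeq X).g (divSeq X).f (divSeq X).zero).hom.app (op V) r) =
        (gmK X).hom.app (op V) r :=
      congrArg (fun f => f.hom.app (op V) r)
        (kernel.lift_ι (divSeq X).g (divSeq X).f (divSeq X).zero)
    refine e1.trans (hr.trans ?_)
    exact (ConcreteCategory.congr_hom ((kernel.ι (Φ' X)).hom.naturality g.op) t).symm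
  mono_f := mono_gmK X
  epi_g := epi_Φ' X


end

end K301.GmDivRFinal
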