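import Groth.Agent.CohtopA.GmDivColim
import Groth.Agent.Sga4B.ConstLC
import Groth.Agent.Desc.LQF

/-!
# The sheaf of divisors as the coproduct of the skyscraper sheaves at the points of codimension one
-/

set_option autoImplicit false
universe u

open CategoryTheory CategoryTheory.Limits AlgebraicGeometry Opposite TopologicalSpace

namespace K301.GmDivRSum

open Groth.Agent.CohtopA GmDivFun GmDivEval GmDivD GmDivH GmDivColim
open Groth.Agent.Sga4B.ConstLC

section Pt

variable (Y : Scheme.{u}) (A : Type) [AddCommGroup A]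

/-- Locally constant functions are functions. -/
noncomputable def lcFun : LC Y (ULift.{u + 1} A) ⟶ funSheaf Y A :=
  ⟨{ app := fun U => AddCommGrpCat.ofHom
      (show LocallyConstant U.unop.left (ULift.{u + 1} A) →+ (U.unop.left → ULift.{u + 1} A) from
        { toFun := fun f => f
          map_zero' := rfl
          map_add' := fun _ _ => rfl })
     naturality := by
      intro U V g
      rfl }⟩

lemma discreteTopology_aux {Y U : Scheme.{u}} [Subsingleton Y] (f : U ⟶ Y)
    [LocallyQuasiFinite f] : DiscreteTopology U := by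
  rcases isEmpty_or_nonempty U with h3 | ⟨⟨y⟩⟩
  · exact Subsingleton.discreteTopology
  have h := f.isDiscrete_preimage_singleton (f y)
  have h2 : f ⁻¹' {f y} = Set.univ := by
    ext x
    simp only [Set.mem_preimage, Set.mem_singleton_iff, Set.mem_univ, iff_true]
    exact Subsingleton.elim (α := Y) _ _
  rw [h2] at h
  exact isDiscrete_univ_iff.mp h

lemma discreteTopology_of_etale [Subsingleton Y] (U : Y.Etale) : DiscreteTopology U.left := by
  have h1 : Etale (X := U.left) (Y := Y) U.hom := U.prop
  have h2 : LocallyQuasiFinite (X := U.left) (Y := Y) U.hom :=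
    Groth.Agent.Desc.LQF.of_etale (X := U.left) (Y := Y) U.hom
  exact discreteTopology_aux (Y := Y) U.hom

instance isIso_lcFun [Subsingleton Y] : IsIso (lcFun Y A) := by
  refine isIso_of_bijective _ (fun U => ⟨?_, ?_⟩)
  · intro a b h
    exact LocallyConstant.ext (fun x => congrFun (α := U.left) (β := fun _ => ULift.{u + 1} A) h x)
  · intro f
    have := discreteTopology_of_etale Y U
    exact ⟨(⟨f, IsLocallyConstant.of_discrete _⟩ : LocallyConstant U.left (ULift.{u + 1} A)), rfl⟩

/-- The constant sheaf on a point is the sheaf of all functions. -/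
noncomputable def constFun [Subsingleton Y] : EtCoh.const Y A ≅ funSheaf Y A :=
  constIso Y A ≪≫ asIso (lcFun Y A)

end Pt

variable (X : Scheme.{u})

instance (x : X) : Subsingleton (Spec (X.residueField x)) :=
  inferInstanceAs (Subsingleton (PrimeSpectrum (X.residueField x)))

/-- The skyscraper sheaf. -/
noncomputable abbrev sky (x : X) : EtCoh.Ab X :=
  (EtCoh.push (X.fromSpecResidueField x)).obj (EtCoh.const (Spec (X.residueField x)) ℤ)

/-- The skyscraper sheaf as a sheaf of functions. -/
noncomputable def skyIso (x : X) : sky X x ≅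
    (EtCoh.push (X.fromSpecResidueField x)).obj (funSheaf (Spec (X.residueField x)) ℤ) :=
  (EtCoh.push (X.fromSpecResidueField x)).mapIso (constFun (Spec (X.residueField x)) ℤ)

lemma range_sub {T : Set X} {x : X} (hx : x ∈ T) :
    Set.range (X.fromSpecResidueField x) ⊆ T := by
  rw [Scheme.range_fromSpecResidueField]
  simpa using hx

/-- Extension by zero. -/
noncomputable def up (x : X) (T : Set X) (hx : x ∈ T) : sky X x ⟶ dSheaf X ℤ T :=
  (skyIso X x).hom ≫ pb X ℤ (X.fromSpecResidueField x) T (range_sub X hx)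

/-- Restriction to the fibre. -/
noncomputable def down (x : X) : funSheaf X ℤ ⟶ sky X x :=
  pa X ℤ (X.fromSpecResidueField x) ≫ (skyIso X x).inv

lemma down_up_apply (x : X) (T : Set X) (hx : x ∈ T) (U : X.Etale)
    (d : EtCoh.sect (funSheaf X ℤ) U) (v : U.left) :
    ((down X x ≫ up X x T hx).hom.app (op U) d : dSub X ℤ T U).1 v =
      open Classical in
      if U.hom v = x then (d : U.left → ULift.{u + 1} ℤ) v else 0 := by
  have h1 : down X x ≫ up X x T hx = pa X ℤ (X.fromSpecResidueField x) ≫
      pb X ℤ (X.fromSpecResidueField x) T (range_sub X hx) := by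
    rw [down, up, Category.assoc, Iso.inv_hom_id_assoc]
  rw [h1, pa_pb_apply, Scheme.range_fromSpecResidueField]
  rfl

lemma up_down (x : X) (T : Set X) (hx : x ∈ T) : up X x T hx ≫ dι X ℤ T ≫ down X x = 𝟙 _ := by
  have h1 : pb X ℤ (X.fromSpecResidueField x) T (range_sub X hx) ≫ dι X ℤ T ≫
      pa X ℤ (X.fromSpecResidueField x) = 𝟙 _ := by
    ext U d
    funext z
    exact pbFun_of X ℤ (X.fromSpecResidueField x) U.unop d z
  rw [up, down, Category.assoc, ← Category.assoc (dι X ℤ T),
    ← Category.assoc (pb X ℤ (X.fromSpecResidueField x) T (range_sub X hx)), h1,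
    Category.id_comp, Iso.hom_inv_id]

lemma dι_down_eq_zero (x : X) (T : Set X) (hx : x ∉ T) : dι X ℤ T ≫ down X x = 0 := by
  have h1 : dι X ℤ T ≫ pa X ℤ (X.fromSpecResidueField x) = 0 := by
    ext U d
    funext z
    change (d : dSub X ℤ T U.unop).1 (fstE (X.fromSpecResidueField x) U.unop z) = 0
    by_contra h
    have h2 := (d : dSub X ℤ T U.unop).2 _ h
    have h3 : U.unop.hom (fstE (X.fromSpecResidueField x) U.unop z) ∈
        Set.range (X.fromSpecResidueField x) :=
      (exists_fstE_iff (X.fromSpecResidueField x) U.unop _).1 ⟨z, rfl⟩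
    rw [Scheme.range_fromSpecResidueField] at h3
    exact hx (h3 ▸ h2)
  rw [down, ← Category.assoc, h1, zero_comp]

variable (c : Cofan fun x : {x : X // ringKrullDim (X.presheaf.stalk x) = 1} => sky X x.1)

/-- The component at a point of the inverse. -/
noncomputable def comp (y : X) : funSheaf X ℤ ⟶ c.pt := by
  classical
  exact if h : ringKrullDim (X.presheaf.stalk y) = 1 then down X y ≫ c.inj ⟨y, h⟩ else 0

lemma comp_of (y : X) (h : ringKrullDim (X.presheaf.stalk y) = 1) :
    comp X c y = down X y ≫ c.inj ⟨y, h⟩ := by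
  rw [comp, dif_pos h]

lemma comp_of_not (y : X) (h : ringKrullDim (X.presheaf.stalk y) ≠ 1) :
    comp X c y = 0 := by
  rw [comp, dif_neg h]

lemma dι_comp_eq_zero {T : J X} (y : X) (hy : ULift.up y ∉ T) :
    dι X ℤ (TT X T) ≫ comp X c y = 0 := by
  by_cases h : ringKrullDim (X.presheaf.stalk y) = 1
  · rw [comp_of X c y h, ← Category.assoc, dι_down_eq_zero X y _ (fun h' => hy h'.2), zero_comp]
  · rw [comp_of_not X c y h, comp_zero]

/-- The inverse on a finite stage. -/
noncomputable def γT (T : J X) : dSheaf X ℤ (TT X T) ⟶ c.pt :=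
  ∑ y ∈ T, dι X ℤ (TT X T) ≫ comp X c y.down

lemma dMap_γT {T T' : J X} (h : T ≤ T') : dMap X ℤ (TT_mono X h) ≫ γT X c T' = γT X c T := by
  rw [γT, γT, Preadditive.comp_sum]
  symm
  have : ∀ y : ULift.{u + 1} X, dMap X ℤ (TT_mono X h) ≫ dι X ℤ (TT X T') ≫ comp X c y.down =
      dι X ℤ (TT X T) ≫ comp X c y.down := by
    intro y
    rw [← Category.assoc, dMap_dι]
  simp only [this]
  refine Finset.sum_subset h (fun y _ hy => ?_)
  exact dι_comp_eq_zero X c y.down hy

/-- The inverse. -/
noncomputable def γ : D' X ⟶ c.pt :=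
  colimit.desc (DF X)
    { pt := c.pt
      ι := { app := fun T => γT X c T
             naturality := fun T T' f => by
              rw [Functor.const_obj_map]
              exact (dMap_γT X c (leOfHom f)).trans (Category.comp_id _).symm } }

lemma D'in_γ (T : J X) : D'in X T ≫ γ X c = γT X c T := colimit.ι_desc _ _

/-- The component of the morphism from the coproduct. -/
noncomputable def βx (x : {x : X // ringKrullDim (X.presheaf.stalk x) = 1}) : sky X x.1 ⟶ D' X :=
  up X x.1 (TT X {ULift.up x.1}) ⟨x.2, Finset.mem_singleton_self _⟩ ≫ D'in X {ULift.up x.1}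

lemma βx_γ (x : {x : X // ringKrullDim (X.presheaf.stalk x) = 1}) : βx X x ≫ γ X c = c.inj x := by
  rw [βx, Category.assoc, D'in_γ, γT, Finset.sum_singleton, comp_of X c x.1 x.2,
    ← Category.assoc (dι X ℤ _), ← Category.assoc, up_down, Category.id_comp]

variable {c} (hc : IsColimit c)

/-- The morphism from the coproduct. -/
noncomputable def β : c.pt ⟶ D' X := Cofan.IsColimit.desc hc (βx X)

lemma inj_β (x : {x : X // ringKrullDim (X.presheaf.stalk x) = 1}) : c.inj x ≫ β X hc = βx X x :=
  Cofan.IsColimit.fac hc (βx X) x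

lemma β_γ : β X hc ≫ γ X c = 𝟙 _ := by
  refine Cofan.IsColimit.hom_ext hc _ _ (fun x => ?_)
  rw [← Category.assoc, inj_β, βx_γ, Category.comp_id]

lemma γ_β : γ X c ≫ β X hc = 𝟙 _ := by
  have := mono_D'ι X
  rw [← cancel_mono (D'ι X)]
  apply D'_hom_ext
  intro T
  rw [Category.id_comp, D'in_D'ι, Category.assoc, ← Category.assoc, D'in_γ, γT,
    Preadditive.sum_comp]
  have h : ∀ y : ULift.{u + 1} X, (dι X ℤ (TT X T) ≫ comp X c y.down) ≫ β X hc ≫ D'ι X =
      dι X ℤ (TT X T) ≫ comp X c y.down ≫ β X hc ≫ D'ι X := fun y => Category.assoc _ _ _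
  simp only [h]
  ext U d
  funext v
  classical
  have h2 : ∀ (s : Finset (ULift.{u + 1} X)) (f : ULift.{u + 1} X → (dSheaf X ℤ (TT X T) ⟶
      funSheaf X ℤ)), ((∑ i ∈ s, f i).hom.app U d : U.unop.left → ULift.{u + 1} ℤ) v =
        ∑ i ∈ s, ((f i).hom.app U d : U.unop.left → ULift.{u + 1} ℤ) v := by
    intro s f
    induction s using Finset.induction_on with
    | empty => rfl
    | insert i s hi ih =>
      rw [Finset.sum_insert hi, Finset.sum_insert hi, ← ih]
      rfl
  refine (h2 _ _).trans ?_
  have h3 : ∀ y : ULift.{u + 1} X,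
      ((dι X ℤ (TT X T) ≫ comp X c y.down ≫ β X hc ≫ D'ι X).hom.app U d :
        U.unop.left → ULift.{u + 1} ℤ) v =
      if ringKrullDim (X.presheaf.stalk y.down) = 1 ∧ U.unop.hom v = y.down then
        (d : dSub X ℤ (TT X T) U.unop).1 v else 0 := by
    intro y
    by_cases hy : ringKrullDim (X.presheaf.stalk y.down) = 1
    · have e : dι X ℤ (TT X T) ≫ comp X c y.down ≫ β X hc ≫ D'ι X =
          dι X ℤ (TT X T) ≫ (down X y.down ≫ up X y.down (TT X {ULift.up y.down})
            ⟨hy, Finset.mem_singleton_self _⟩) ≫ dι X ℤ (TT X {ULift.up y.down}) := by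
        rw [comp_of X c y.down hy, Category.assoc, ← Category.assoc (c.inj _), inj_β, βx]
        simp only [Category.assoc]
        rw [D'in_D'ι]
      rw [e]
      refine (down_up_apply X y.down (TT X {ULift.up y.down})
            ⟨hy, Finset.mem_singleton_self _⟩ U.unop ((dι X ℤ (TT X T)).hom.app U d) v).trans ?_
      simp only [hy, true_and]
      rfl
    · rw [comp_of_not X c y.down hy, zero_comp, comp_zero, if_neg (fun h => hy h.1)]
      rfl
  simp only [h3]
  change _ = (d : dSub X ℤ (TT X T) U.unop).1 v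
  by_cases hv : (d : dSub X ℤ (TT X T) U.unop).1 v = 0
  · rw [hv]
    exact Finset.sum_eq_zero (fun i _ => by split <;> rfl)
  · have hT := (d : dSub X ℤ (TT X T) U.unop).2 v hv
    refine (Finset.sum_eq_single (ULift.up (U.unop.hom v)) ?_ ?_).trans ?_
    rotate_left 2
    · rw [if_pos ⟨hT.1, rfl⟩]
    · intro y _ hy
      rw [if_neg]
      rintro ⟨-, h5⟩
      exact hy (ULift.ext _ _ h5.symm)
    · intro h'
      exact absurd hT.2 h'

/-- **The sheaf of divisors is the coproduct of the skyscraper sheaves.** -/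
noncomputable def sumIso : D' X ≅ c.pt where
  hom := γ X c
  inv := β X hc
  hom_inv_id := γ_β X hc
  inv_hom_id := β_γ X hc

end K301.GmDivRSum
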