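import Groth.Agent.Etbase.EtSigma

/-!
# Coproducts in the small étale site and sections of sheaves

* `isColimitSig`: `EtSigma.sig` is a coproduct in the small étale site;
* `sect_bijective`: sections of a sheaf of sets over any (small) coproduct in the small étale site are families of
  sections;
* `jointly_surjective`: the inclusions of a coproduct are jointly surjective.
-/

set_option autoImplicit false
set_option backward.isDefEq.respectTransparency false
set_option backward.isDefEq.respectTransparency.types false
universe v u w w'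

open CategoryTheory CategoryTheory.Limits AlgebraicGeometry Opposite
open Groth.Agent.Etbase Groth.Agent.Etbase.EtRep Groth.Agent.Etbase.EtSigma

namespace K301.SigmaCofan

variable {X : Scheme.{u}} {ι : Type w'} [Small.{u} ι]

lemma sig_hom_ext (U : ι → X.Etale) {T : X.Etale} (a b : sig U ⟶ T)
    (h : ∀ i, sin U i ≫ a = sin U i ≫ b) : a = b := by
  apply RepSheaf.hom_ext
  apply Sigma.hom_ext
  intro i
  exact congrArg (fun k => k.left) (h i)

/-- `EtSigma.sig` is a coproduct. -/
noncomputable def isColimitSig (U : ι → X.Etale) : IsColimit (Cofan.mk (sig U) (sin U)) :=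
  mkCofanColimit _ (fun s => sdesc U s.inj) (fun s i => sin_sdesc U s.inj i)
    (fun s m h => sig_hom_ext U _ _ fun i => (h i).trans (sin_sdesc U s.inj i).symm)

/-- sections of a sheaf of sets on the standard coproduct -/
theorem sect_sig_bijective {F : (X.Etale)ᵒᵖ ⥤ Type w} (hF : Presieve.IsSheaf X.smallEtaleTopology F)
    (U : ι → X.Etale) :
    Function.Bijective (fun (s : F.obj (op (sig U))) (i : ι) => F.map (sin U i).op s) := by
  constructor
  · intro s t hst
    apply sheaf_ext hF
    intro z
    obtain ⟨i, z', hz'⟩ := cover U z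
    exact ⟨U i, sin U i, z', hz', congrFun hst i⟩
  · intro s
    obtain ⟨t, ht⟩ := exists_sect hF U s
    exact ⟨t, funext ht⟩

/-- sections of a sheaf of sets on a coproduct -/
theorem sect_bijective {F : (X.Etale)ᵒᵖ ⥤ Type w} (hF : Presieve.IsSheaf X.smallEtaleTopology F)
    {U : ι → X.Etale} {c : Cofan U} (hc : IsColimit c) :
    Function.Bijective (fun (s : F.obj (op c.pt)) (i : ι) => F.map (c.inj i).op s) := by
  let e : c.pt ≅ sig U := hc.coconePointUniqueUpToIso (isColimitSig U)
  have he : ∀ i, c.inj i ≫ e.hom = sin U i := fun i =>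
    IsColimit.comp_coconePointUniqueUpToIso_hom hc (isColimitSig U) ⟨i⟩
  have he' : ∀ i, sin U i ≫ e.inv = c.inj i := fun i => by
    rw [← he i, Category.assoc, e.hom_inv_id, Category.comp_id]
  have h1 := sect_sig_bijective hF U
  have h2 : (fun (s : F.obj (op c.pt)) (i : ι) => F.map (c.inj i).op s) =
      (fun (s : F.obj (op (sig U))) (i : ι) => F.map (sin U i).op s) ∘
        (F.map e.inv.op) := by
    funext s i
    simp only [Function.comp_apply]
    rw [map_map, he']
  rw [h2]
  refine h1.comp ?_
  constructor
  · intro a b hab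
    have := congrArg (F.map e.hom.op) hab
    rwa [map_map, map_map, e.hom_inv_id, map_id', map_id'] at this
  · intro a
    exact ⟨F.map e.hom.op a, by rw [map_map, e.inv_hom_id, map_id']⟩

/-- the inclusions into a coproduct are jointly surjective -/
theorem jointly_surjective {U : ι → X.Etale} {c : Cofan U} (hc : IsColimit c) (t : c.pt.left) :
    ∃ (i : ι) (t' : (U i).left), (c.inj i).left t' = t := by
  let e : c.pt ≅ sig U := hc.coconePointUniqueUpToIso (isColimitSig U)
  have he' : ∀ i, sin U i ≫ e.inv = c.inj i := fun i =>
    IsColimit.comp_coconePointUniqueUpToIso_inv hc (isColimitSig U) ⟨i⟩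
  obtain ⟨i, y, hy⟩ := cover U (e.hom.left t)
  refine ⟨i, y, ?_⟩
  have h1 : (c.inj i).left y = e.inv.left ((sin U i).left y) := by
    rw [← he' i]; rfl
  rw [h1, hy]
  have h2 : (e.hom ≫ e.inv).left t = t := by rw [e.hom_inv_id]; rfl
  exact h2

end K301.SigmaCofan
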