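import Groth.Agent.Flat2E.AIC5
import Mathlib.AlgebraicGeometry.ResidueField
import Mathlib.AlgebraicGeometry.Limits
import Mathlib.AlgebraicGeometry.Morphisms.QuasiSeparated
import Mathlib.AlgebraicGeometry.Morphisms.UnderlyingMap

/-!
# Covers with algebraically closed residue fields

* `isIntegral_residueFieldMap`: for `f : X ⟶ Y` with `X` affine and `Γ(Y) → Γ(X)` integral, the residue field
  extensions are integral.
* `exists_affine_cover`: every qcqs scheme has an affine quasi-compact cover whose residue fields are algebraic closures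
  of the residue fields below.
-/

set_option autoImplicit false
universe u

open CategoryTheory CategoryTheory.Limits AlgebraicGeometry
open Groth.Agent.Flat2E

namespace K301.AICCover

theorem exists_evaluation {X : Scheme.{u}} [IsAffine X] (x : X) (y : X.residueField x) :
    ∃ b s : Γ(X, ⊤), X.Γevaluation x s ≠ 0 ∧ y = X.Γevaluation x b * (X.Γevaluation x s)⁻¹ := by
  obtain ⟨z, rfl⟩ := X.residue_surjective x y
  let _ := X.presheaf.algebra_section_stalk (U := ⊤) ⟨x, trivial⟩
  have h := (isAffineOpen_top X).isLocalization_stalk ⟨x, trivial⟩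
  obtain ⟨⟨b, s⟩, hb⟩ := IsLocalization.surj ((isAffineOpen_top X).primeIdealOf ⟨x, trivial⟩).asIdeal.primeCompl z
  have hs : IsUnit (algebraMap Γ(X, ⊤) (X.presheaf.stalk x) s) := IsLocalization.map_units _ s
  have h1 : X.Γevaluation x (s : Γ(X, ⊤)) = X.residue x (algebraMap Γ(X, ⊤) (X.presheaf.stalk x) s) := rfl
  have h2 : X.Γevaluation x b = X.residue x (algebraMap Γ(X, ⊤) (X.presheaf.stalk x) b) := rfl
  have h3 : X.Γevaluation x (s : Γ(X, ⊤)) ≠ 0 := by
    rw [h1]
    exact (hs.map (X.residue x).hom).ne_zero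
  refine ⟨b, s, h3, ?_⟩
  rw [eq_mul_inv_iff_mul_eq₀ h3, h1, h2, ← hb]
  exact (map_mul (X.residue x).hom _ _).symm

theorem isIntegral_residueFieldMap {X Y : Scheme.{u}} [IsAffine X] (f : X ⟶ Y)
    (hf : f.appTop.hom.IsIntegral) (x : X) : (f.residueFieldMap x).hom.IsIntegral := by
  let _ : Algebra (Y.residueField (f x)) (X.residueField x) := (f.residueFieldMap x).hom.toAlgebra
  have key : ∀ b : Γ(X, ⊤), IsIntegral (Y.residueField (f x)) (X.Γevaluation x b) := by
    intro b
    obtain ⟨p, hp, hb⟩ := hf b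
    refine ⟨p.map (Y.Γevaluation (f x)).hom, hp.map _, ?_⟩
    rw [Polynomial.eval₂_map]
    have h1 : (algebraMap (Y.residueField (f x)) (X.residueField x)).comp (Y.Γevaluation (f x)).hom =
        (X.Γevaluation x).hom.comp f.appTop.hom := by
      ext a
      exact Scheme.Γevaluation_naturality_apply f x a
    rw [h1]
    have h2 := congrArg (X.Γevaluation x).hom hb
    rw [Polynomial.hom_eval₂, map_zero] at h2
    exact h2
  intro y
  obtain ⟨b, s, hs, rfl⟩ := exists_evaluation x y
  exact (key b).mul (key s).inv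

theorem isIntegral_residueFieldMap_comp {X Y Z : Scheme.{u}} (f : X ⟶ Y) (g : Y ⟶ Z) (x : X)
    (hf : (f.residueFieldMap x).hom.IsIntegral) (hg : (g.residueFieldMap (f x)).hom.IsIntegral) :
    ((f ≫ g).residueFieldMap x).hom.IsIntegral := by
  have e : ((f ≫ g).residueFieldMap x).hom = (f.residueFieldMap x).hom.comp (g.residueFieldMap (f x)).hom :=
    congrArg CommRingCat.Hom.hom (Scheme.residueFieldMap_comp f g x)
  have h := RingHom.IsIntegral.trans _ _ hg hf
  exact (congrArg (fun (φ : Z.residueField (g (f x)) →+* X.residueField x) => φ.IsIntegral) e).mpr h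

theorem isIntegral_residueFieldMap_of_comp {X Y Z : Scheme.{u}} (f : X ⟶ Y) (g : Y ⟶ Z) (x : X)
    (h : ((f ≫ g).residueFieldMap x).hom.IsIntegral) : (g.residueFieldMap (f x)).hom.IsIntegral := by
  have e : ((f ≫ g).residueFieldMap x).hom = (f.residueFieldMap x).hom.comp (g.residueFieldMap (f x)).hom :=
    congrArg CommRingCat.Hom.hom (Scheme.residueFieldMap_comp f g x)
  have h' : ((f.residueFieldMap x).hom.comp (g.residueFieldMap (f x)).hom).IsIntegral :=
    (congrArg (fun (φ : Z.residueField (g (f x)) →+* X.residueField x) => φ.IsIntegral) e).mp h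
  intro y
  obtain ⟨p, hp, h0⟩ := h' ((f.residueFieldMap x).hom y)
  refine ⟨p, hp, ?_⟩
  apply (f.residueFieldMap x).hom.injective
  rw [map_zero, Polynomial.hom_eval₂]
  exact h0

theorem isAlgClosed_of_isAIC {K : Type u} [Field K] (h : AIC1.IsAIC K) : IsAlgClosed K :=
  IsAlgClosed.of_exists_root _ fun p hp hirr => h p hp hirr.natDegree_pos.ne'

theorem isAlgClosed_residueField_spec (B : Type u) [CommRing B] (h : AIC1.IsAIC B)
    (x : Spec (CommRingCat.of B)) : IsAlgClosed ((Spec (CommRingCat.of B)).residueField x) := by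
  let A : Type u := (Spec (CommRingCat.of B)).presheaf.stalk x
  let _ : Algebra B A := StructureSheaf.stalkAlgebra B x
  have : IsLocalization x.asIdeal.primeCompl A := StructureSheaf.IsLocalization.to_stalk B x
  have h1 : AIC1.IsAIC A := h.of_isLocalization x.asIdeal.primeCompl
  exact isAlgClosed_of_isAIC (h1.of_surjective ((Spec (CommRingCat.of B)).residue x).hom
    ((Spec (CommRingCat.of B)).residue_surjective x))

/-- Every ring has an integral extension, surjective on spectra, which is absolutely integrally closed. -/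
theorem exists_aic (A : Type u) [CommRing A] :
    ∃ (B : Type u) (_ : CommRing B) (φ : A →+* B), AIC1.IsAIC B ∧ φ.IsIntegral ∧
      Function.Surjective (PrimeSpectrum.comap φ) := by
  let K : PrimeSpectrum A → Type u := fun p => AlgebraicClosure p.asIdeal.ResidueField
  refine ⟨integralClosure A (Π p, K p), inferInstance, algebraMap _ _, AIC5.isAIC_integralClosure_pi K,
    algebraMap_isIntegral_iff.mpr inferInstance, fun p => ?_⟩
  let g : integralClosure A (Π p, K p) →+* K p :=
    (Pi.evalRingHom K p).comp (algebraMap (integralClosure A (Π p, K p)) (Π p, K p))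
  refine ⟨⟨RingHom.ker g, RingHom.ker_isPrime g⟩, ?_⟩
  apply PrimeSpectrum.ext
  ext a
  change g (algebraMap A (integralClosure A (Π p, K p)) a) = 0 ↔ _
  change algebraMap A (K p) a = 0 ↔ _
  rw [IsScalarTower.algebraMap_apply A p.asIdeal.ResidueField (K p),
    map_eq_zero_iff _ (algebraMap p.asIdeal.ResidueField (K p)).injective,
    Ideal.algebraMap_residueField_eq_zero]

theorem exists_spec (Y : Scheme.{u}) [IsAffine Y] :
    ∃ (B : Type u) (_ : CommRing B) (f : Spec (CommRingCat.of B) ⟶ Y), AIC1.IsAIC B ∧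
      f.appTop.hom.IsIntegral ∧ Surjective f := by
  obtain ⟨B, hB, φ, h1, h2, h3⟩ := exists_aic Γ(Y, ⊤)
  have hs : Surjective (Spec.map (CommRingCat.ofHom φ)) := ⟨h3⟩
  refine ⟨B, hB, Spec.map (CommRingCat.ofHom φ) ≫ Y.isoSpec.inv, h1, ?_, inferInstance⟩
  have e1 : (Spec.map (CommRingCat.ofHom φ) ≫ Y.isoSpec.inv).appTop =
      Y.isoSpec.inv.appTop ≫ (Spec.map (CommRingCat.ofHom φ)).appTop := rfl
  have e2 : (Spec.map (CommRingCat.ofHom φ)).appTop =
      (Scheme.ΓSpecIso _).hom ≫ CommRingCat.ofHom φ ≫ (Scheme.ΓSpecIso _).inv := by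
    rw [← Category.assoc, Iso.eq_comp_inv]
    exact Scheme.ΓSpecIso_naturality _
  rw [e1, e2]
  simp only [CommRingCat.hom_comp]
  have i0 : IsIso Y.isoSpec.inv.appTop := inferInstanceAs (IsIso (Y.isoSpec.inv.app ⊤))
  have i1 := RingHom.isIntegral_of_surjective Y.isoSpec.inv.appTop.hom
    (ConcreteCategory.bijective_of_isIso Y.isoSpec.inv.appTop).2
  have i2 := RingHom.isIntegral_of_surjective (Scheme.ΓSpecIso (CommRingCat.of Γ(Y, ⊤))).hom.hom
    (ConcreteCategory.bijective_of_isIso (Scheme.ΓSpecIso (CommRingCat.of Γ(Y, ⊤))).hom).2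
  have i3 := RingHom.isIntegral_of_surjective (Scheme.ΓSpecIso (CommRingCat.of B)).inv.hom
    (ConcreteCategory.bijective_of_isIso (Scheme.ΓSpecIso (CommRingCat.of B)).inv).2
  exact RingHom.IsIntegral.trans _ _ i1 (RingHom.IsIntegral.trans _ _ i2
    (RingHom.IsIntegral.trans _ _ h2 i3))

/-- A qcqs scheme has an affine quasi-compact surjective cover whose residue fields are algebraic closures. -/
theorem exists_affine_cover (X : Scheme.{u}) [CompactSpace X] [QuasiSeparatedSpace X] :
    ∃ (X' : Scheme.{u}) (f : X' ⟶ X), IsAffine X' ∧ QuasiCompact f ∧ Surjective f ∧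
      ∀ x' : X', IsAlgClosed (X'.residueField x') ∧ (f.residueFieldMap x').hom.IsIntegral := by
  let 𝒰 := X.affineCover.finiteSubcover
  have haff : ∀ i, IsAffine (𝒰.X i) := fun i => inferInstance
  choose B hB g h1 h2 h3 using fun i => exists_spec (𝒰.X i)
  let Z : 𝒰.I₀ → Scheme.{u} := fun i => Spec (CommRingCat.of (B i))
  let f : (∐ Z) ⟶ X := Sigma.desc fun i => g i ≫ 𝒰.f i
  have hX' : IsAffine (∐ Z) := inferInstance
  have hf : ∀ i, Sigma.ι Z i ≫ f = g i ≫ 𝒰.f i := fun i => Sigma.ι_desc _ _
  refine ⟨∐ Z, f, hX', (quasiCompact_iff_compactSpace f).2 inferInstance, ⟨fun x => ?_⟩, fun x' => ?_⟩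
  · obtain ⟨y, hy⟩ := 𝒰.covers x
    obtain ⟨z, hz⟩ := (h3 (𝒰.idx x)).surj y
    refine ⟨Sigma.ι Z (𝒰.idx x) z, ?_⟩
    rw [← Scheme.Hom.comp_apply, hf, Scheme.Hom.comp_apply, hz, hy]
  · obtain ⟨i, z, rfl⟩ : ∃ (i : 𝒰.I₀) (z : Z i), Sigma.ι Z i z = x' :=
      (sigmaOpenCover Z).exists_eq x'
    have hiso : IsIso ((Sigma.ι Z i).residueFieldMap z) := inferInstance
    have hac := isAlgClosed_residueField_spec (B i) (h1 i) z
    constructor
    · exact IsAlgClosed.of_ringEquiv _ _
        (asIso ((Sigma.ι Z i).residueFieldMap z)).commRingCatIsoToRingEquiv.symm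
    · apply isIntegral_residueFieldMap_of_comp (Sigma.ι Z i) f z
      rw [hf]
      exact isIntegral_residueFieldMap_comp (g i) (𝒰.f i) z (isIntegral_residueFieldMap (g i) (h2 i) z)
        (RingHom.isIntegral_of_surjective _
          (ConcreteCategory.bijective_of_isIso ((𝒰.f i).residueFieldMap (g i z))).2)

end K301.AICCover
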