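import Groth.Agent.FlatA.GlueTwo
import Groth.Agent.Etbase.RepSheaf

/-!
# Doubling an étale `X`-scheme along an open subscheme

`exists_double`: for an open immersion `g : V ⟶ U` of étale `X`-schemes, the scheme obtained by gluing two copies of
`U` along `V` is an étale `X`-scheme.
-/

set_option autoImplicit false
universe u

open CategoryTheory CategoryTheory.Limits AlgebraicGeometry Opposite
open Groth.Agent.Etbase Groth.Agent.FlatA.GlueTwo

namespace K301.Double

attribute [local instance] hasPushout isOpenImmersion_inl isOpenImmersion_inr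

theorem exists_of_inl_eq_inr {Z Y₁ Y₂ : Scheme.{u}} (f₁ : Z ⟶ Y₁) (f₂ : Z ⟶ Y₂)
    [IsOpenImmersion f₁] [IsOpenImmersion f₂] (y₁ : Y₁) (y₂ : Y₂)
    (h : pushout.inl f₁ f₂ y₁ = pushout.inr f₁ f₂ y₂) : ∃ z : Z, f₁ z = y₁ ∧ f₂ z = y₂ := by
  have {i j : WalkingSpan} (t : i ⟶ j) := isOpenImmersion_span_map f₁ f₂ t
  have h' : colimit.ι (span f₁ f₂) WalkingSpan.left y₁ = colimit.ι (span f₁ f₂) WalkingSpan.right y₂ := h
  obtain ⟨k, fi, fj, x, h1, h2⟩ := (Scheme.IsLocallyDirected.ι_eq_ι_iff (span f₁ f₂)).1 h'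
  obtain (_ | (_ | _)) := k
  · obtain rfl : fi = WalkingSpan.Hom.fst := Subsingleton.elim _ _
    obtain rfl : fj = WalkingSpan.Hom.snd := Subsingleton.elim _ _
    exact ⟨x, h1, h2⟩
  · nomatch fj
  · nomatch fi

variable {X : Scheme.{u}}

/-- Doubling an étale `X`-scheme along an open subscheme. -/
theorem exists_double {U V : X.Etale} (g : V ⟶ U) [IsOpenImmersion g.left] :
    ∃ (W : X.Etale) (a b : U ⟶ W), Mono a ∧ Mono b ∧ g ≫ a = g ≫ b ∧
      (∀ w : W.left, (∃ u : U.left, a.left u = w) ∨ ∃ u : U.left, b.left u = w) ∧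
      ∀ (Z : X.Etale) (p q : Z ⟶ U), p ≫ a = q ≫ b → ∃ r : Z ⟶ V, r ≫ g = p ∧ r ≫ g = q := by
  have hU : Etale U.hom := U.prop
  let D : Scheme.{u} := pushout g.left g.left
  let i₁ : U.left ⟶ D := pushout.inl g.left g.left
  let i₂ : U.left ⟶ D := pushout.inr g.left g.left
  have ho₁ : IsOpenImmersion i₁ := isOpenImmersion_inl _ _
  have ho₂ : IsOpenImmersion i₂ := isOpenImmersion_inr _ _
  have hc : g.left ≫ i₁ = g.left ≫ i₂ := pushout.condition
  let π : D ⟶ X := pushout.desc U.hom U.hom rfl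
  have h₁ : i₁ ≫ π = U.hom := pushout.inl_desc _ _ _
  have h₂ : i₂ ≫ π = U.hom := pushout.inr_desc _ _ _
  have hs : ∀ w : D, (∃ y : U.left, i₁ y = w) ∨ (∃ y : U.left, i₂ y = w) :=
    jointly_surjective g.left g.left
  have hπ : Etale π := by
    let 𝒰 : D.OpenCover :=
      { I₀ := Bool
        X := fun _ => U.left
        f := fun c => bif c then i₁ else i₂
        mem₀ := by
          rw [Scheme.presieve₀_mem_precoverage_iff]
          refine ⟨fun w => ?_, fun c => ?_⟩
          · obtain ⟨y, hy⟩ | ⟨y, hy⟩ := hs w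
            · exact ⟨true, y, hy⟩
            · exact ⟨false, y, hy⟩
          · cases c
            · exact ho₂
            · exact ho₁ }
    rw [IsZariskiLocalAtSource.iff_of_openCover (P := @Etale) 𝒰]
    rintro (_ | _)
    · change Etale (i₂ ≫ π)
      rw [h₂]; exact hU
    · change Etale (i₁ ≫ π)
      rw [h₁]; exact hU
  let W : X.Etale := Scheme.Etale.mk π
  let a : U ⟶ W := MorphismProperty.Over.homMk i₁ h₁ trivial
  let b : U ⟶ W := MorphismProperty.Over.homMk i₂ h₂ trivial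
  have ha : Mono a := ⟨fun p q h => by
    apply RepSheaf.hom_ext
    rw [← cancel_mono i₁]
    exact congrArg (fun k => k.left) h⟩
  have hb : Mono b := ⟨fun p q h => by
    apply RepSheaf.hom_ext
    rw [← cancel_mono i₂]
    exact congrArg (fun k => k.left) h⟩
  refine ⟨W, a, b, ha, hb, RepSheaf.hom_ext hc, hs, ?_⟩
  intro Z p q hpq
  have hpq' : p.left ≫ i₁ = q.left ≫ i₂ := congrArg (fun k => k.left) hpq
  have hr : Set.range p.left ⊆ Set.range g.left := by
    rintro _ ⟨z, rfl⟩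
    have h3 : i₁ (p.left z) = i₂ (q.left z) := by
      rw [← Scheme.Hom.comp_apply, ← Scheme.Hom.comp_apply, hpq']
    obtain ⟨v, hv, -⟩ := exists_of_inl_eq_inr g.left g.left _ _ h3
    exact ⟨v, hv⟩
  let r' : Z.left ⟶ V.left := IsOpenImmersion.lift g.left p.left hr
  have hr' : r' ≫ g.left = p.left := IsOpenImmersion.lift_fac _ _ _
  have hgw : g.left ≫ U.hom = V.hom := Over.w g.hom
  have hpw : p.left ≫ U.hom = Z.hom := Over.w p.hom
  let r : Z ⟶ V := MorphismProperty.Over.homMk r' (by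
    rw [← hgw, ← Category.assoc, hr', hpw]) trivial
  have hrg : r ≫ g = p := RepSheaf.hom_ext hr'
  refine ⟨r, hrg, ?_⟩
  rw [← cancel_mono b, ← hpq, Category.assoc, ← (RepSheaf.hom_ext hc : g ≫ a = g ≫ b),
    ← Category.assoc, hrg]

end K301.Double
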