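import Groth.Agent.Etcore.HQ
import Groth.Agent.Sga4h.InjRestr
import Groth.Agent.EtCore.K301.Double
import Groth.Agent.Etbase.EtRep
import Groth.Agent.Etcore.RpushLoc

/-!
# Étale-flasque sheaves: restriction to open subschemes is surjective on sections

* `app_surjective`: if `0 → F → G → Q → 0` is exact and `H^1(W, F) = 0` then `G(W) → Q(W)` is surjective.
* `map_surjective`: if `H^1(W, F) = 0` for all étale `W` and `V ⟶ U` is an open immersion then `F(U) → F(V)` is
  surjective.
-/

set_option autoImplicit false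
universe u

open CategoryTheory CategoryTheory.Limits AlgebraicGeometry Opposite
open Groth.Agent.Etcore Groth.Agent.Etbase Groth.Agent.Etcore.HQ

namespace K301.FlasqueLift

variable {X : Scheme.{u}}

theorem app_surjective {S : ShortComplex (EtCoh.Ab X)} (hS : S.ShortExact) (W : X.Etale)
    (h : ∀ x : HQ S.X₁ W.hom 1, x = 0) : Function.Surjective (S.g.hom.app (op W)) := by
  intro s
  obtain ⟨y, hy⟩ := exists_map_eq hS W.hom 0 (sec S.X₃ W.hom (𝟙 W.left) (Category.id_comp _) s) (h _)
  obtain ⟨t, rfl⟩ := (sec_bijective S.X₂ W).2 y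
  rw [map_sec] at hy
  exact ⟨t, (sec_bijective S.X₃ W).1 hy⟩

theorem isSheaf_forget (F : EtCoh.Ab X) :
    Presieve.IsSheaf X.smallEtaleTopology (F.obj ⋙ forget AddCommGrpCat.{u + 1}) :=
  (isSheaf_iff_isSheaf_of_type _ _).1
    ((Presheaf.isSheaf_iff_isSheaf_forget _ _ (forget AddCommGrpCat.{u + 1})).1 F.property)

theorem res_res (F : EtCoh.Ab X) {A B C : X.Etale} (f : A ⟶ B) (g : B ⟶ C) (s : EtCoh.sect F C) :
    F.obj.map f.op (F.obj.map g.op s) = F.obj.map (f ≫ g).op s := by
  rw [op_comp, F.obj.map_comp]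
  rfl

theorem nat_app {F G : EtCoh.Ab X} (φ : F ⟶ G) {A B : X.Etale} (f : A ⟶ B) (s : EtCoh.sect F B) :
    φ.hom.app (op A) (F.obj.map f.op s) = G.obj.map f.op (φ.hom.app (op B) s) :=
  ConcreteCategory.congr_hom (φ.hom.naturality f.op) s

/-- Sections of the kernel. -/
theorem exists_of_g_eq_zero {S : ShortComplex (EtCoh.Ab X)} (hS : S.ShortExact) (W : X.Etale)
    (s : EtCoh.sect S.X₂ W) (h : S.g.hom.app (op W) s = 0) :
    ∃ t : EtCoh.sect S.X₁ W, S.f.hom.app (op W) t = s := by
  have h1 := ((sheafSections X.smallEtaleTopology AddCommGrpCat.{u + 1}).obj (op W))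
  have := hS.mono_f
  have hE : (S.map ((sheafSections X.smallEtaleTopology AddCommGrpCat.{u + 1}).obj (op W))).Exact := by
    have hm : PreservesFiniteLimits ((sheafSections X.smallEtaleTopology AddCommGrpCat.{u + 1}).obj (op W)) := by
      have : ((sheafSections X.smallEtaleTopology AddCommGrpCat.{u + 1}).obj (op W)) =
        sheafToPresheaf _ _ ⋙ (evaluation _ _).obj (op W) := rfl
      rw [this]
      infer_instance
    exact hS.exact.map_of_mono_of_preservesKernel _ hS.mono_f inferInstance
  rw [ShortComplex.ab_exact_iff] at hE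
  exact hE s h

theorem map_surjective (F : EtCoh.Ab X) (hF : ∀ (W : X.Etale) (x : HQ F W.hom 1), x = 0)
    {U V : X.Etale} (g : V ⟶ U) [IsOpenImmersion g.left] :
    Function.Surjective (F.obj.map g.op) := by
  intro s
  have hg : Mono g := ⟨fun p q h => by
    apply RepSheaf.hom_ext
    rw [← cancel_mono g.left]
    exact congrArg (fun k => k.left) h⟩
  obtain ⟨W, a, b, ha, hb, hab, hcov, hlift⟩ := Double.exists_double g
  let S := RpushLoc.injSeq F
  have hS : S.ShortExact := RpushLoc.injSeq_shortExact F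
  have hI : Injective S.X₂ := inferInstanceAs (Injective (Injective.under F))
  -- lift `s` to a section `t` of `I` over `U`
  obtain ⟨t, ht⟩ := Groth.Agent.Sga4h.InjRestr.surjective_map_of_mono g S.X₂ (S.f.hom.app (op V) s)
  have hts : (S.X₃).obj.map g.op (S.g.hom.app (op U) t) = 0 := by
    rw [← nat_app, ht]
    have := congrArg (fun k => k.hom.app (op V) s) S.zero
    exact this
  -- glue `(g t, 0)` to a section of `Q` over the double
  let s' : Bool → EtCoh.sect S.X₃ U := fun c => bif c then S.g.hom.app (op U) t else 0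
  let m : Bool → (U ⟶ W) := fun c => bif c then a else b
  obtain ⟨q, hq, -⟩ := EtRep.sheaf_glue (isSheaf_forget S.X₃) (U := fun _ : Bool => U) m
    (fun w => by
      obtain ⟨y, hy⟩ | ⟨y, hy⟩ := hcov w
      · exact ⟨true, y, hy⟩
      · exact ⟨false, y, hy⟩) s' (by
      rintro (_ | _) (_ | _) Z gi gj hgg
      · have : gi = gj := by
          rw [← cancel_mono b]; exact hgg
        rw [this]
      · obtain ⟨r, hr1, hr2⟩ := hlift Z gj gi hgg.symm
        change (S.X₃).obj.map gi.op (0 : EtCoh.sect S.X₃ U) = (S.X₃).obj.map gj.op (S.g.hom.app (op U) t)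
        rw [← hr1, ← res_res, hts, map_zero, map_zero]
      · obtain ⟨r, hr1, hr2⟩ := hlift Z gi gj hgg
        change (S.X₃).obj.map gi.op (S.g.hom.app (op U) t) = (S.X₃).obj.map gj.op (0 : EtCoh.sect S.X₃ U)
        rw [← hr1, ← res_res, hts, map_zero, map_zero]
      · have : gi = gj := by
          rw [← cancel_mono a]; exact hgg
        rw [this])
  have hqa : (S.X₃).obj.map a.op q = S.g.hom.app (op U) t := hq true
  have hqb : (S.X₃).obj.map b.op q = 0 := hq false
  obtain ⟨x, hx⟩ := app_surjective hS W (hF W) q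
  obtain ⟨y, hy⟩ := exists_of_g_eq_zero hS U ((S.X₂).obj.map b.op x) (by
    rw [nat_app, hx, hqb])
  obtain ⟨z, hz⟩ := exists_of_g_eq_zero hS U (t - (S.X₂).obj.map a.op x) (by
    rw [map_sub, nat_app, hx, hqa, sub_self])
  refine ⟨z + y, ?_⟩
  have hmono := hS.mono_f
  have hinj : Function.Injective (S.f.hom.app (op V)) := by
    have h1 : Mono (S.f.hom) := inferInstanceAs (Mono ((sheafToPresheaf _ _).map S.f))
    have h2 : Mono (S.f.hom.app (op V)) := inferInstance
    exact (AddCommGrpCat.mono_iff_injective _).1 h2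
  apply hinj
  have e1 : S.f.hom.app (op V) (F.obj.map g.op (z + y)) =
      (S.X₂).obj.map g.op (S.f.hom.app (op U) (z + y)) := nat_app S.f g (z + y)
  refine e1.trans ?_
  rw [map_add, hz, hy, map_add, map_sub, res_res, res_res, hab, ht]
  exact sub_add_cancel _ _

end K301.FlasqueLift
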