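import Groth.Agent.CohtopA.GmDivPt

/-!
# Rational functions on an integral scheme as a direct image from the generic point
-/

set_option autoImplicit false
universe u

open CategoryTheory CategoryTheory.Limits AlgebraicGeometry Opposite TopologicalSpace

namespace K301.GmDivRK

open Groth.Agent.CohtopA GmDivGen GmDivEval GmDivPt GmDivK

/-- The direct image of `G_m` from the spectrum of the local ring at the generic point. -/
noncomputable def K (X : Scheme.{u}) [IsIntegral X] : EtCoh.Ab X :=
  (EtCoh.push (X.fromSpecStalk (genericPoint X))).obj (EtCoh.Gm _)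

/-- The canonical morphism. -/
noncomputable def gmK (X : Scheme.{u}) [IsIntegral X] : EtCoh.Gm X ⟶ K X :=
  gmPush (X.fromSpecStalk (genericPoint X))

variable {X : Scheme.{u}} [IsIntegral X]

/-- Auxiliary version of the evaluation with given lift. -/
noncomputable def evK' {L : Type u} [Field L] {U : X.Etale}
    (t : Spec (.of L) ⟶ U.left) (t' : Spec (.of L) ⟶ Spec (X.presheaf.stalk (genericPoint X)))
    (h : t ≫ U.hom = t' ≫ X.fromSpecStalk (genericPoint X)) (s : EtCoh.sect (K X) U) : Lˣ :=
  evP (X.fromSpecStalk (genericPoint X)) t t' h s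

lemma evK'_unique {L : Type u} [Field L] {U : X.Etale}
    (t : Spec (.of L) ⟶ U.left) {t₁ t₂ : Spec (.of L) ⟶ Spec (X.presheaf.stalk (genericPoint X))}
    (h₁ : t ≫ U.hom = t₁ ≫ X.fromSpecStalk (genericPoint X))
    (h₂ : t ≫ U.hom = t₂ ≫ X.fromSpecStalk (genericPoint X)) (s : EtCoh.sect (K X) U) :
    evK' t t₁ h₁ s = evK' t t₂ h₂ s := by
  have e' : t₁ = t₂ := by
    rw [← cancel_mono (X.fromSpecStalk (genericPoint X)), ← h₁, h₂]
  subst e'
  rfl

lemma eq_genericPoint {x : X} (hx : IsGen X x) : x = genericPoint X :=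
  (hx.eq_of_specializes (genericPoint_specializes x)).symm

lemma isGen_of_specializes [LF X] {x : X} (h : x ⤳ genericPoint X) : IsGen X x := by
  apply isGen_of_forall
  intro y hy
  exact (hy.antisymm (h.trans (genericPoint_specializes y))).eq

omit [IsIntegral X] in
lemma exists_lift_aux {L : Type u} [Field L] (f : Spec (.of L) ⟶ X) {x y : X}
    (e : x = y) (t : Spec (.of L) ⟶ Spec (X.presheaf.stalk x))
    (h : f = t ≫ X.fromSpecStalk x) :
    ∃ t' : Spec (.of L) ⟶ Spec (X.presheaf.stalk y), f = t' ≫ X.fromSpecStalk y := by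
  subst e
  exact ⟨t, h⟩

lemma exists_lift [ELF X] {L : Type u} [Field L] {U : X.Etale} (t : Spec (.of L) ⟶ U.left)
    (ht : ∀ p : Spec (.of L), IsGen U.left (t p)) :
    ∃ (t' : Spec (.of L) ⟶ Spec (X.presheaf.stalk (genericPoint X))),
      t ≫ U.hom = t' ≫ X.fromSpecStalk (genericPoint X) := by
  have hU : Etale (X := U.left) (Y := X) U.hom := U.prop
  have h := (isGen_apply_iff (X := X) (Y := U.left) U.hom _).1 (ht (IsLocalRing.closedPoint L))
  rw [← Scheme.Hom.comp_apply] at h
  exact exists_lift_aux (X := X) (t ≫ U.hom) (eq_genericPoint (X := X) h)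
    (Spec.map (Scheme.stalkClosedPointTo (t ≫ U.hom)))
    (Scheme.Spec_stalkClosedPointTo_fromSpecStalk (t ≫ U.hom)).symm

variable [ELF X]

/-- Evaluation of a section of the sheaf of rational functions at a generic field valued point. -/
noncomputable def evK {L : Type u} [Field L] {U : X.Etale} (t : Spec (.of L) ⟶ U.left)
    (ht : ∀ p : Spec (.of L), IsGen U.left (t p)) : EtCoh.sect (K X) U →+ Additive Lˣ where
  toFun s := Additive.ofMul (evK' t _ (exists_lift t ht).choose_spec s)
  map_zero' := by
    apply Additive.toMul.injective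
    change evP _ _ _ _ 0 = 1
    rw [evP]
    change Units.map _ 1 = 1
    rw [map_one]
  map_add' s s' := by
    apply Additive.toMul.injective
    exact evP_add _ _ _ _ _ _

lemma evK_eq {L : Type u} [Field L] {U : X.Etale}
    (t : Spec (.of L) ⟶ U.left) (ht : ∀ p : Spec (.of L), IsGen U.left (t p))
    {t' : Spec (.of L) ⟶ Spec (X.presheaf.stalk (genericPoint X))}
    (h : t ≫ U.hom = t' ≫ X.fromSpecStalk (genericPoint X)) (s : EtCoh.sect (K X) U) :
    evK t ht s = Additive.ofMul (evK' t t' h s) :=
  congrArg Additive.ofMul (evK'_unique t _ h s)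

lemma evK_map {L : Type u} [Field L] {U V : X.Etale} (g : V ⟶ U)
    (t : Spec (.of L) ⟶ V.left) (ht : ∀ p : Spec (.of L), IsGen V.left (t p))
    (ht' : ∀ p : Spec (.of L), IsGen U.left ((t ≫ g.left) p))
    (s : EtCoh.sect (K X) U) :
    evK t ht ((K X).obj.map g.op s) = evK (t ≫ g.left) ht' s := by
  obtain ⟨t', h⟩ := exists_lift t ht
  have hw : g.left ≫ U.hom = V.hom := CategoryTheory.Over.w g.hom
  have h' : (t ≫ g.left) ≫ U.hom = t' ≫ X.fromSpecStalk (genericPoint X) := by
    rw [Category.assoc, hw, h]
  rw [evK_eq t ht h, evK_eq _ ht' h']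
  congr 1
  exact evP_map _ g t t' h h' s

lemma evK_Spec_map {L L' : Type u} [Field L] [Field L'] {U : X.Etale}
    (t : Spec (.of L) ⟶ U.left) (ht : ∀ p : Spec (.of L), IsGen U.left (t p)) (φ : L →+* L')
    (ht' : ∀ p : Spec (.of L'), IsGen U.left ((Spec.map (CommRingCat.ofHom φ) ≫ t) p))
    (s : EtCoh.sect (K X) U) :
    evK (Spec.map (CommRingCat.ofHom φ) ≫ t) ht' s =
      (Units.map φ.toMonoidHom).toAdditive (evK t ht s) := by
  obtain ⟨t', h⟩ := exists_lift t ht
  have h' : (Spec.map (CommRingCat.ofHom φ) ≫ t) ≫ U.hom =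
      (Spec.map (CommRingCat.ofHom φ) ≫ t') ≫ X.fromSpecStalk (genericPoint X) := by
    rw [Category.assoc, h, Category.assoc]
  rw [evK_eq t ht h, evK_eq _ ht' h']
  exact congrArg Additive.ofMul (evP_Spec_map _ (CommRingCat.ofHom φ) t t' h h' _)

lemma evK_gmK {L : Type u} [Field L] {U : X.Etale} (t : Spec (.of L) ⟶ U.left)
    (ht : ∀ p : Spec (.of L), IsGen U.left (t p)) (s : EtCoh.sect (EtCoh.Gm X) U) :
    evK t ht ((gmK X).hom.app (op U) s) =
      Additive.ofMul (Units.map (evalHom t : _ →* _) (toUnit s)) := by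
  obtain ⟨t', h⟩ := exists_lift t ht
  rw [evK_eq t ht h, ← evP_gmPush (X.fromSpecStalk (genericPoint X)) t t' h]
  rfl

/-- The lift to the fibre product is an isomorphism. -/
lemma isIso_lift {L : Type u} [Field L] {V : X.Etale} (t : Spec (.of L) ⟶ V.left) [Flat t] [Mono t]
    (hu : ∀ v : V.left, IsGen V.left v → v ∈ Set.range t)
    (t' : Spec (.of L) ⟶ Spec (X.presheaf.stalk (genericPoint X)))
    (h : t ≫ V.hom = t' ≫ X.fromSpecStalk (genericPoint X)) :
    IsIso ((isPullback_E (X.fromSpecStalk (genericPoint X)) V).lift t t' h) := by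
  let a := (isPullback_E (X.fromSpecStalk (genericPoint X)) V).lift t t' h
  let m := fstE (X.fromSpecStalk (genericPoint X)) V
  have ham : a ≫ m = t := (isPullback_E (X.fromSpecStalk (genericPoint X)) V).lift_fst t t' h
  have hx : IsPreimmersion (X.fromSpecStalk (genericPoint X)) := inferInstance
  have hm : IsPreimmersion m :=
    MorphismProperty.of_isPullback (P := @IsPreimmersion)
      (isPullback_E (X.fromSpecStalk (genericPoint X)) V).flip hx
  have hmm : Mono m := inferInstance
  have : Mono (a ≫ m) := by rw [ham]; infer_instance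
  have : Flat (a ≫ m) := by rw [ham]; infer_instance
  have h1 : Mono a := mono_of_mono a m
  have h2 : Flat a := flat_of_comp_mono a m
  have h3 : Surjective a := by
    refine ⟨fun w => ?_⟩
    have hU : Etale (X := V.left) (Y := X) V.hom := V.prop
    have h4 : V.hom (m w) ⤳ genericPoint X := by
      have h6 : V.hom (m w) ∈ Set.range (X.fromSpecStalk (genericPoint X)) := by
        refine ⟨sndE (X.fromSpecStalk (genericPoint X)) V w, ?_⟩
        have := congrArg (fun f => f w) (isPullback_E (X.fromSpecStalk (genericPoint X)) V).w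
        simpa using this.symm
      rwa [Scheme.range_fromSpecStalk] at h6
    have h5 : IsGen V.left (m w) := by
      rw [isGen_apply_iff (X := X) (Y := V.left) V.hom]
      exact isGen_of_specializes h4
    obtain ⟨p, hp⟩ := hu _ h5
    refine ⟨p, m.isEmbedding.injective ?_⟩
    rw [← hp, ← ham]
    rfl
  exact Flat.isIso_of_surjective_of_mono a

theorem evK_bijective {L : Type u} [Field L] {V : X.Etale} (t : Spec (.of L) ⟶ V.left) [Flat t]
    [Mono t] (ht : ∀ p : Spec (.of L), IsGen V.left (t p))
    (hu : ∀ v : V.left, IsGen V.left v → v ∈ Set.range t) :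
    Function.Bijective (evK t ht) := by
  obtain ⟨t', h⟩ := exists_lift t ht
  have hiso := isIso_lift t hu t' h
  have hb := evalHom_bijective_of_isIso
    ((isPullback_E (X.fromSpecStalk (genericPoint X)) V).lift t t' h)
  let e := (RingEquiv.ofBijective _ hb)
  constructor
  · rw [injective_iff_map_eq_zero]
    intro s hs
    rw [evK_eq t ht h] at hs
    have hs' : evP (X.fromSpecStalk (genericPoint X)) t t' h s = 1 := hs
    rw [evP] at hs'
    apply toUnitP_injective (X.fromSpecStalk (genericPoint X))
    apply Units.ext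
    apply hb.1
    have := congrArg Units.val hs'
    rw [Units.coe_map] at this
    refine this.trans ?_
    symm
    exact map_one _
  · intro f
    let a : (Γ(((EtCoh.bc (X.fromSpecStalk (genericPoint X))).obj V).left, ⊤))ˣ :=
      Units.map (e.symm : _ →* _) f.toMul
    refine ⟨ofUnitP (X.fromSpecStalk (genericPoint X)) a, ?_⟩
    rw [evK_eq t ht h, evK']
    rw [evP, toUnitP_ofUnitP]
    apply Additive.toMul.injective
    apply Units.ext
    exact e.apply_symm_apply _

section evU

/-- Evaluation in the fraction field of the local ring at a point. -/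
noncomputable def evU {U : X.Etale} (u : U.left) :
    EtCoh.sect (K X) U →+ Additive (FractionRing (U.left.presheaf.stalk u))ˣ :=
  evK (tU U.left u) (isGen_tU u)

lemma evK_congr {L : Type u} [Field L] {U : X.Etale} {t t' : Spec (.of L) ⟶ U.left} (e : t = t')
    (ht : ∀ p : Spec (.of L), IsGen U.left (t p)) (ht' : ∀ p : Spec (.of L), IsGen U.left (t' p))
    (s : EtCoh.sect (K X) U) : evK t ht s = evK t' ht' s := by
  subst e
  rfl

lemma evU_map {U V : X.Etale} (g : V ⟶ U) (v : V.left) (s : EtCoh.sect (K X) U) :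
    evU v ((K X).obj.map g.op s) =
      (Units.map (fracMap g.left v).toMonoidHom).toAdditive (evU (g.left v) s) := by
  have h := evK_map g (tU V.left v) (isGen_tU v) (isGen_comp g _ (isGen_tU v)) s
  have h1 := isGen_precomp (tU U.left (g.left v)) (isGen_tU (g.left v))
    (CommRingCat.ofHom (fracMap g.left v))
  exact (h.trans (evK_congr (tU_map g.left v).symm _ h1 s)).trans
    (evK_Spec_map (tU U.left (g.left v)) (isGen_tU _) (fracMap g.left v) h1 s)

lemma evU_specializes {U : X.Etale} {x y : U.left} (h : y ⤳ x) (s : EtCoh.sect (K X) U) :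
    evU y s = (Units.map (fracSp h).toMonoidHom).toAdditive (evU x s) := by
  have h1 := isGen_precomp (tU U.left x) (isGen_tU x) (CommRingCat.ofHom (fracSp h))
  exact (evK_congr (tU_specializes h).symm _ h1 s).trans
    (evK_Spec_map (tU U.left x) (isGen_tU _) (fracSp h) h1 s)

lemma evU_gmK {U : X.Etale} (u : U.left) (s : EtCoh.sect (EtCoh.Gm X) U) :
    evU u ((gmK X).hom.app (op U) s) = Additive.ofMul (Units.map
      ((algebraMap (U.left.presheaf.stalk u) (FractionRing (U.left.presheaf.stalk u))).comp
        (U.left.presheaf.germ ⊤ u trivial).hom).toMonoidHom (toUnit s)) := by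
  rw [evU, evK_gmK]
  congr 1
  ext
  exact evalHom_tU u _

/-- If `V` is irreducible then evaluation is bijective. -/
lemma evU_bijective {V : X.Etale} (hV : ∀ v w : V.left, IsGen V.left v → IsGen V.left w → v = w)
    (v : V.left) :
    Function.Bijective (evU (X := X) v) := by
  have := mono_tU v
  have := flat_tU v
  exact evK_bijective _ _ (fun w hw => ⟨IsLocalRing.closedPoint _, hV _ _ (isGen_tU v _) hw⟩)

end evU

end K301.GmDivRK
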