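import Groth.Agent.EtCore.K301.GmDivRK
import Groth.Agent.CohtopA.GmDivLoc

/-!
# The divisor morphism on an integral scheme, without finiteness assumptions
-/

set_option autoImplicit false
universe u

open CategoryTheory CategoryTheory.Limits AlgebraicGeometry Opposite TopologicalSpace

namespace K301.GmDivRLoc

open Groth.Agent.CohtopA GmDivGen GmDivEval GmOrdAlg GmDivFun GmDivSch GmDivRK
open GmDivPt hiding evK_congr evU evU_map evU_specializes evU_gmK evU_bijective
open GmDivVal hiding Φ Φ_apply gmK_Φ
open GmDivLoc hiding evU_specializes_val finite_support exists_unit_germ Φ_map_apply exists_gm_lift_integral exists_section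

section Phi

variable (X : Scheme.{u}) [IsIntegral X] [ELF X]

/-- The divisor morphism. -/
noncomputable def Φ : K X ⟶ funSheaf X ℤ :=
  ⟨{ app := fun U => AddCommGrpCat.ofHom
      (show EtCoh.sect (K X) U.unop →+ (U.unop.left → ULift.{u + 1} ℤ) from
      { toFun := fun s v => ULift.up (ordPt v (evU v s))
        map_zero' := by
          funext v
          rw [map_zero, map_zero]
          rfl
        map_add' := fun s t => by
          funext v
          rw [map_add, map_add]
          rfl })
     naturality := by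
      intro U V g
      ext s
      funext v
      change ULift.up (ordPt v (evU v ((K X).obj.map g.unop.op s))) =
        ULift.up (ordPt (g.unop.left v) (evU (g.unop.left v) s))
      rw [evU_map, ordPt_map] }⟩

variable {X}

lemma Φ_apply {U : X.Etale} (s : EtCoh.sect (K X) U) (v : U.left) :
    ((Φ X).hom.app (op U) s : U.left → ULift.{u + 1} ℤ) v = ULift.up (ordPt v (evU v s)) := rfl

lemma gmK_Φ : gmK X ≫ Φ X = 0 := by
  ext U s
  funext v
  change ULift.up (ordPt v (evU v ((gmK X).hom.app (op U.unop) s))) = ULift.up 0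
  rw [evU_gmK]
  congr 1
  refine ordPt_eq_zero_of_unit v _ (U.unop.left.presheaf.germ ⊤ v trivial (toUnit s)) ?_ rfl
  exact (toUnit s).isUnit.map (U.unop.left.presheaf.germ ⊤ v trivial).hom

end Phi

variable {X : Scheme.{u}} [IsIntegral X] [ELF X]

lemma evU_specializes_val {U : X.Etale} {x y : U.left} (h : y ⤳ x) (s : EtCoh.sect (K X) U) :
    ((evU y s).toMul : FractionRing (U.left.presheaf.stalk y)) =
      fracSp h ((evU x s).toMul : FractionRing (U.left.presheaf.stalk x)) := by
  rw [evU_specializes h s]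
  rfl

/-- The support of the divisor of a section over an integral Noetherian scheme is finite. -/
lemma finite_support {V : X.Etale} [IsIntegral V.left] [NoetherianSpace V.left]
    (s : EtCoh.sect (K X) V) : {y : V.left | ordPt y (evU y s) ≠ 0}.Finite := by
  let ξ : V.left := genericPoint V.left
  have hξ : IsGen V.left ξ := isGen_genericPoint
  obtain ⟨n, d, hd, hnd⟩ := IsFractionRing.div_surjective
    (A := V.left.presheaf.stalk ξ) ((evU ξ s).toMul : FractionRing (V.left.presheaf.stalk ξ))
  obtain ⟨W₁, h₁, n', hn'⟩ := V.left.presheaf.exists_germ_eq n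
  obtain ⟨W₂, h₂, d', hd'⟩ := V.left.presheaf.exists_germ_eq d
  have hd0 : d ≠ 0 := nonZeroDivisors.ne_zero hd
  have hd1 : algebraMap (V.left.presheaf.stalk ξ) (FractionRing (V.left.presheaf.stalk ξ)) d ≠ 0 := by
    rwa [Ne, IsFractionRing.to_map_eq_zero_iff]
  have hn0 : n ≠ 0 := by
    rintro rfl
    rw [map_zero, zero_div] at hnd
    exact (evU ξ s).toMul.ne_zero hnd.symm
  have hnd' : ((evU ξ s).toMul : FractionRing (V.left.presheaf.stalk ξ)) *
      algebraMap _ _ d = algebraMap _ _ n := by
    rw [← hnd, div_mul_cancel₀ _ hd1]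
  let D : V.left.Opens := V.left.basicOpen n' ⊓ V.left.basicOpen d'
  have hun : IsUnit ((V.left.presheaf.germ W₁ ξ h₁).hom n') := by
    have : (V.left.presheaf.germ W₁ ξ h₁).hom n' = n := hn'
    rw [this]
    obtain ⟨b, hb⟩ := hξ.mul_inv_cancel hn0
    exact IsUnit.of_mul_eq_one b hb
  have hud : IsUnit ((V.left.presheaf.germ W₂ ξ h₂).hom d') := by
    have : (V.left.presheaf.germ W₂ ξ h₂).hom d' = d := hd'
    rw [this]
    obtain ⟨b, hb⟩ := hξ.mul_inv_cancel hd0
    exact IsUnit.of_mul_eq_one b hb
  have hξD : ξ ∈ D := ⟨(Scheme.mem_basicOpen _ _ _ h₁).2 hun, (Scheme.mem_basicOpen _ _ _ h₂).2 hud⟩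
  refine (finite_of_isClosed (Y := V.left) (Dᶜ : Set V.left) D.isOpen.isClosed_compl ?_).subset ?_
  · intro z hz hg
    exact hz (by rwa [← eq_of_isIntegral hξ hg])
  · intro y hy
    refine ⟨fun hyD => hy ?_, ?_⟩
    · have hy₁ : y ∈ W₁ := V.left.basicOpen_le _ hyD.1
      have hy₂ : y ∈ W₂ := V.left.basicOpen_le _ hyD.2
      have hyn := (Scheme.mem_basicOpen _ _ _ hy₁).1 hyD.1
      have hyd := (Scheme.mem_basicOpen _ _ _ hy₂).1 hyD.2
      have hsp : ξ ⤳ y := genericPoint_specializes y
      have key : ((evU y s).toMul : FractionRing (V.left.presheaf.stalk y)) *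
          algebraMap _ _ ((V.left.presheaf.germ W₂ y hy₂).hom d') =
          algebraMap _ _ ((V.left.presheaf.germ W₁ y hy₁).hom n') := by
        apply (fracSp hsp).injective
        rw [map_mul, ← evU_specializes_val, fracSp_algebraMap, fracSp_algebraMap]
        have e1 := germ_sp hsp hy₂ h₂ d'
        have e2 := germ_sp hsp hy₁ h₁ n'
        rw [e1, e2]
        exact (congrArg _ (congrArg _ hd')).trans (hnd'.trans (congrArg _ hn').symm)
      refine ordPt_eq_zero_of_unit y _ (hyn.unit * hyd.unit⁻¹ : (V.left.presheaf.stalk y)ˣ)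
        (Units.isUnit _) ?_
      have h3 : algebraMap (V.left.presheaf.stalk y) (FractionRing (V.left.presheaf.stalk y))
          ((V.left.presheaf.germ W₂ y hy₂).hom d') ≠ 0 := (hyd.map _).ne_zero
      apply mul_right_cancel₀ h3
      rw [key, ← map_mul, Units.val_mul, mul_assoc]
      congr 1
      have : (↑hyd.unit⁻¹ : V.left.presheaf.stalk y) *
        ((V.left.presheaf.germ W₂ y hy₂).hom d') = 1 := hyd.val_inv_mul
      rw [this, mul_one]
      rfl
    · by_contra h
      exact hy (by rw [ordPt_of_not y h]; rfl)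

/-- Hartogs: a section without divisor near `v` is a unit at `v`. -/
lemma exists_unit_germ {V : X.Etale} (s : EtCoh.sect (K X) V) (v : V.left)
    (hs : ∀ y : V.left, y ⤳ v → ordPt y (evU y s) = 0) :
    ∃ r : (V.left.presheaf.stalk v)ˣ, algebraMap (V.left.presheaf.stalk v)
      (FractionRing (V.left.presheaf.stalk v)) r = (evU v s).toMul := by
  apply exists_unit_of_forall_prime
  intro p hp
  have hq : (Ideal.span {p}).IsPrime := (Ideal.span_singleton_prime hp.ne_zero).2 hp
  have hdim := dim_ptOf_prime p hp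
  have h : ptOf v (Ideal.span {p}) ⤳ v := ptOf_specializes v _
  obtain ⟨r, hr⟩ := (ordPt_eq_zero_iff _ hdim _).1 (hs _ h)
  obtain ⟨b, c, hc, hbc⟩ := exists_frac h r
  have hmem : ∀ a : V.left.presheaf.stalk v, p ∣ a → ¬ IsUnit (sp h a) := by
    intro a ha hu
    have h1 : a ∈ qI h := by
      rw [qI_ptOf]
      exact Ideal.mem_span_singleton.2 ha
    exact (IsLocalRing.mem_maximalIdeal _).1 h1 hu
  refine ⟨b, c, fun hb => hmem b hb ?_, fun hc' => hmem c hc' hc, ?_⟩
  · rw [← hbc]
    exact r.isUnit.mul hc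
  · apply (fracSp h).injective
    rw [map_mul, ← evU_specializes_val, fracSp_algebraMap, fracSp_algebraMap]
    have e := congrArg (algebraMap _ (FractionRing (V.left.presheaf.stalk
      (ptOf v (Ideal.span {p}))))) hbc
    rw [map_mul, hr] at e
    exact e

lemma Φ_map_apply {U V : X.Etale} (g : V ⟶ U) (s : EtCoh.sect (K X) U) (v : V.left) :
    ordPt v (evU v ((K X).obj.map g.op s)) = ordPt (g.left v) (evU (g.left v) s) := by
  rw [evU_map, ordPt_map]

/-- Local lifting of sections without divisor to `G_m`, on an integral scheme. -/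
lemma exists_gm_lift_integral {V : X.Etale} [IsIntegral V.left] (s : EtCoh.sect (K X) V)
    (hs : ∀ y : V.left, ordPt y (evU y s) = 0) (v : V.left) :
    ∃ (W : V.left.Opens) (_ : v ∈ W) (r : EtCoh.sect (EtCoh.Gm X) (resE V W)),
      (gmK X).hom.app (op (resE V W)) r = (K X).obj.map (resι V W).op s := by
  obtain ⟨r, hr⟩ := exists_unit_germ s v (fun y _ => hs y)
  obtain ⟨W₁, h₁, r', hr'⟩ := V.left.presheaf.exists_germ_eq (r : V.left.presheaf.stalk v)
  let W := V.left.basicOpen r'
  have hv : v ∈ W := by
    refine (Scheme.mem_basicOpen _ _ _ h₁).2 ?_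
    have : (V.left.presheaf.germ W₁ v h₁).hom r' = r := hr'
    rw [this]
    exact r.isUnit
  have hW : W ≤ W₁ := V.left.basicOpen_le _
  let r₂ : Γ(V.left, W) := (V.left.presheaf.map (homOfLE hW).op).hom r'
  have hr₂ : IsUnit r₂ := RingedSpace.isUnit_res_basicOpen _ r'
  have hr₂' : (V.left.presheaf.germ W v hv).hom r₂ = r := by
    refine Eq.trans ?_ hr'
    exact ConcreteCategory.congr_hom (V.left.presheaf.germ_res (homOfLE hW) v hv) r'
  have hle : (⊤ : (resE V W).left.Opens) ≤ (resι V W).left ⁻¹ᵁ W := by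
    intro x _
    exact x.2
  have hr₃ : IsUnit (((resι V W).left.appLE W ⊤ hle).hom r₂) := hr₂.map _
  refine ⟨W, hv, ofUnit hr₃.unit, ?_⟩
  have hint : IsIntegral (resE V W).left := by
    have : Nonempty W := ⟨⟨v, hv⟩⟩
    exact inferInstanceAs (IsIntegral (W : Scheme.{u}))
  have hinj := (evU_bijective (X := X) (V := resE V W)
    (fun _ _ h₁ h₂ => eq_of_isIntegral h₁ h₂) (⟨v, hv⟩ : W)).1
  apply hinj
  rw [evU_gmK, evU_map]
  apply Additive.toMul.injective
  apply Units.ext
  let w : (resE V W).left := (⟨v, hv⟩ : W)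
  change _ = fracMap (resι V W).left w ((evU v s).toMul : FractionRing (V.left.presheaf.stalk v))
  have e3 : fracMap (resι V W).left w
        ((evU v s).toMul : FractionRing (V.left.presheaf.stalk v)) =
        fracMap (resι V W).left w (algebraMap (V.left.presheaf.stalk v)
          (FractionRing (V.left.presheaf.stalk v)) r) := congrArg _ hr.symm
  refine Eq.trans ?_ e3.symm
  have e4 := fracMap_algebraMap (resι V W).left w (r : V.left.presheaf.stalk v)
  refine Eq.trans ?_ e4.symm
  have e5 := germ_appLE (resι V W).left W hle w hv r₂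
  rw [← hr₂']
  exact congrArg (algebraMap ((resE V W).left.presheaf.stalk w)
    (FractionRing ((resE V W).left.presheaf.stalk w))) e5

/-- Local surjectivity: a finitely supported function on points of codimension one is locally a
divisor. -/
lemma exists_section {V : X.Etale} [IsIntegral V.left] [NoetherianSpace V.left]
    (d : V.left → ℤ) (hd : {y | d y ≠ 0}.Finite)
    (hd' : ∀ y, d y ≠ 0 → ringKrullDim (V.left.presheaf.stalk y) = 1) (v : V.left) :
    ∃ (W : V.left.Opens) (_ : v ∈ W) (s : EtCoh.sect (K X) V),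
      ∀ y ∈ W, ordPt y (evU y s) = d y := by
  classical
  choose π hπ0 hπ using exists_prime' (Y := V.left) v
  have hπ1 : ∀ w, algebraMap (V.left.presheaf.stalk v) (FractionRing (V.left.presheaf.stalk v))
      (π w) ≠ 0 := fun w => by
    rw [Ne, IsFractionRing.to_map_eq_zero_iff]
    exact hπ0 w
  let P : V.left → Additive (FractionRing (V.left.presheaf.stalk v))ˣ :=
    fun w => Additive.ofMul (Units.mk0 _ (hπ1 w))
  let T : Finset V.left := hd.toFinset.filter (fun w => w ⤳ v)
  obtain ⟨s, hs⟩ := (evU_bijective (X := X) (V := V)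
    (fun _ _ h₁ h₂ => eq_of_isIntegral h₁ h₂) v).2 (∑ w ∈ T, (-d w) • P w)
  have key : ∀ y : V.left, y ⤳ v → ordPt y (evU y s) = d y := by
    intro y hy
    by_cases hdim : ringKrullDim (V.left.presheaf.stalk y) = 1
    · rw [evU_specializes hy s, hs, map_sum, map_sum]
      have h1 : ∀ w ∈ T, w ≠ y → ordPt y ((Units.map (fracSp hy).toMonoidHom).toAdditive
          ((-d w) • P w)) = 0 := by
        intro w hw hne
        have hw1 : d w ≠ 0 := by simpa using (Finset.mem_filter.1 hw).1
        have hw2 : w ⤳ v := (Finset.mem_filter.1 hw).2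
        rw [map_zsmul, map_zsmul]
        rw [ordPt_eq_zero_of_unit y ((Units.map (fracSp hy).toMonoidHom).toAdditive (P w)) (sp hy (π w)) ((hπ w hw2 (hd' w hw1)).2 y hy hdim hne.symm)
          (fracSp_algebraMap hy (π w)).symm, smul_zero]
      by_cases hyT : y ∈ T
      · rw [Finset.sum_eq_single y h1 (fun h => absurd hyT h), map_zsmul, map_zsmul,
          ordPt_uniformizer y hdim
            ((Units.map (fracSp hy).toMonoidHom).toAdditive (P y)) (sp hy (π y)) (hπ y hy hdim).1
            (fracSp_algebraMap hy (π y)).symm]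
        simp
      · rw [Finset.sum_eq_zero (fun w hw => h1 w hw (fun h => hyT (h ▸ hw)))]
        by_contra h2
        exact hyT (Finset.mem_filter.2 ⟨by simpa using (fun h3 => h2 h3.symm), hy⟩)
    · rw [ordPt_of_not y hdim]
      by_contra h2
      exact hdim (hd' y (fun h3 => h2 h3.symm))
  have hB : {y : V.left | ordPt y (evU y s) ≠ d y}.Finite := by
    refine ((finite_support s).union hd).subset ?_
    intro y hy
    by_contra h
    rw [Set.mem_union, not_or] at h
    have h1 : ordPt y (evU y s) = 0 := not_not.1 h.1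
    have h2 : d y = 0 := not_not.1 h.2
    exact hy (h1.trans h2.symm)
  let Z : Set V.left := ⋃ y ∈ {y : V.left | ordPt y (evU y s) ≠ d y}, closure {y}
  have hZ : IsClosed Z := hB.isClosed_biUnion fun y _ => isClosed_closure
  refine ⟨⟨Zᶜ, hZ.isOpen_compl⟩, ?_, s, ?_⟩
  · intro hv
    obtain ⟨y, hy, hyv⟩ := Set.mem_iUnion₂.1 hv
    exact hy (key y (specializes_iff_mem_closure.2 hyv))
  · intro y hy
    by_contra h
    exact hy (Set.mem_iUnion₂.2 ⟨y, h, subset_closure rfl⟩)

end K301.GmDivRLoc
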