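import Mathlib.GroupTheory.FreeAbelianGroup
import Mathlib.Data.Fin.Tuple.Basic
import Mathlib.Algebra.BigOperators.Fin
import Mathlib.Tactic.Abel

/-!
# The bar complex of a set with a right action: local contraction
-/

set_option autoImplicit false
set_option linter.unusedSectionVars false
universe w s s'

namespace K301.HSBarAlg

open FreeAbelianGroup

variable {G : Type w} [Group G]

section

variable {S : Type s} (a : S → G → S) {S' : Type s'} (a' : S' → G → S')

/-- The differential of the bar complex. -/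
def bd (n : ℕ) : FreeAbelianGroup ((Fin (n + 1) → G) × S) →+ FreeAbelianGroup ((Fin n → G) × S) :=
  FreeAbelianGroup.lift (fun x => of ((fun i => x.1 i.succ), a x.2 (x.1 0)) +
    ∑ j : Fin (n + 1), (-1 : ℤ) ^ ((j : ℕ) + 1) • of (Fin.contractNth j (· * ·) x.1, x.2))

lemma bd_of (n : ℕ) (x : (Fin (n + 1) → G) × S) :
    bd a n (of x) = of ((fun i => x.1 i.succ), a x.2 (x.1 0)) +
      ∑ j : Fin (n + 1), (-1 : ℤ) ^ ((j : ℕ) + 1) • of (Fin.contractNth j (· * ·) x.1, x.2) :=
  FreeAbelianGroup.lift_apply_of _ _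

/-- Functoriality of the terms. -/
def mp (φ : S → S') (n : ℕ) : FreeAbelianGroup ((Fin n → G) × S) →+
    FreeAbelianGroup ((Fin n → G) × S') :=
  FreeAbelianGroup.map (Prod.map id φ)

@[simp] lemma mp_of (φ : S → S') (n : ℕ) (x : (Fin n → G) × S) :
    mp φ n (of x) = of (x.1, φ x.2) := FreeAbelianGroup.map_of_apply _

variable {a a'} in
lemma bd_mp (φ : S → S') (hφ : ∀ s g, φ (a s g) = a' (φ s) g) (n : ℕ)
    (z : FreeAbelianGroup ((Fin (n + 1) → G) × S)) :
    bd a' n (mp φ (n + 1) z) = mp φ n (bd a n z) := by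
  have : (bd a' n).comp (mp φ (n + 1)) = (mp φ n).comp (bd a n) := by
    refine FreeAbelianGroup.lift_ext _ _ fun x => ?_
    rw [AddMonoidHom.comp_apply, AddMonoidHom.comp_apply, mp_of, bd_of, bd_of, map_add, map_sum, mp_of,
      hφ]
    simp only [map_zsmul, mp_of]
  exact DFunLike.congr_fun this z

lemma mp_injective (φ : S → S') (hφ : Function.Injective φ) (n : ℕ) :
    Function.Injective (mp (G := G) φ n) := by
  classical
  rcases isEmpty_or_nonempty S with hS | hS
  · have : IsEmpty ((Fin n → G) × S) := inferInstance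
    intro x y _
    have h1 : ∀ z : FreeAbelianGroup ((Fin n → G) × S), z = 0 := by
      intro z
      induction z using FreeAbelianGroup.induction_on with
      | zero => rfl
      | of x => exact (this.false x).elim
      | neg x _ => exact (this.false x).elim
      | add x y hx hy => rw [hx, hy, add_zero]
    rw [h1 x, h1 y]
  · obtain ⟨ψ, hψ⟩ := hφ.hasLeftInverse
    refine Function.LeftInverse.injective (g := mp ψ n) fun z => ?_
    have : (mp (G := G) ψ n).comp (mp φ n) = AddMonoidHom.id _ := by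
      refine FreeAbelianGroup.lift_ext _ _ fun x => ?_
      rw [AddMonoidHom.comp_apply, mp_of, mp_of, hψ x.2]
      rfl
    exact DFunLike.congr_fun this z

variable (G S) in
/-- The augmentation. -/
def eps : FreeAbelianGroup ((Fin 0 → G) × S) →+ ℤ := FreeAbelianGroup.lift (fun _ => 1)

@[simp] lemma eps_of (x : (Fin 0 → G) × S) : eps G S (of x) = 1 := FreeAbelianGroup.lift_apply_of _ _

lemma eps_mp (φ : S → S') (z : FreeAbelianGroup ((Fin 0 → G) × S)) :
    eps G S' (mp φ 0 z) = eps G S z := by
  have : (eps G S').comp (mp φ 0) = eps G S := by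
    refine FreeAbelianGroup.lift_ext _ _ fun x => ?_
    rw [AddMonoidHom.comp_apply, mp_of, eps_of, eps_of]
  exact DFunLike.congr_fun this z

lemma eps_bd (z : FreeAbelianGroup ((Fin 1 → G) × S)) : eps G S (bd a 0 z) = 0 := by
  have : (eps G S).comp (bd a 0) = 0 := by
    refine FreeAbelianGroup.lift_ext _ _ fun x => ?_
    rw [AddMonoidHom.comp_apply, bd_of, map_add, eps_of, Fin.sum_univ_one]
    simp
  exact DFunLike.congr_fun this z

end

/-- The contraction for `S = G`. -/
def cn (n : ℕ) : FreeAbelianGroup ((Fin n → G) × G) →+ FreeAbelianGroup ((Fin (n + 1) → G) × G) :=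
  FreeAbelianGroup.map (fun x => ((Fin.cons x.2 x.1 : Fin (n + 1) → G), 1))

@[simp] lemma cn_of (n : ℕ) (x : (Fin n → G) × G) :
    cn n (of x) = of ((Fin.cons x.2 x.1 : Fin (n + 1) → G), 1) := FreeAbelianGroup.map_of_apply _

lemma contractNth_zero_cons (n : ℕ) (h : G) (g : Fin (n + 1) → G) :
    Fin.contractNth 0 (· * ·) (Fin.cons h g : Fin (n + 2) → G) =
      (Fin.cons (h * g 0) (fun i => g i.succ) : Fin (n + 1) → G) := by
  funext k
  induction k using Fin.cases with
  | zero =>
    rw [Fin.cons_zero, Fin.contractNth_apply_of_eq _ _ _ _ (by simp)]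
    simp
  | succ k =>
    rw [Fin.cons_succ, Fin.contractNth_apply_of_gt _ _ _ _ (by simp)]
    simp

lemma contractNth_succ_cons (n : ℕ) (h : G) (g : Fin (n + 1) → G) (j : Fin (n + 1)) :
    Fin.contractNth j.succ (· * ·) (Fin.cons h g : Fin (n + 2) → G) =
      (Fin.cons h (Fin.contractNth j (· * ·) g) : Fin (n + 1) → G) := by
  funext k
  induction k using Fin.cases with
  | zero =>
    rw [Fin.cons_zero, Fin.contractNth_apply_of_lt _ _ _ _ (by simp)]
    simp
  | succ k =>
    rw [Fin.cons_succ]
    rcases lt_trichotomy (k : ℕ) (j : ℕ) with hk | hk | hk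
    · rw [Fin.contractNth_apply_of_lt _ _ _ _ (by simpa using hk),
        Fin.contractNth_apply_of_lt _ _ _ _ hk, ← Fin.succ_castSucc, Fin.cons_succ]
    · rw [Fin.contractNth_apply_of_eq _ _ _ _ (by simpa using hk),
        Fin.contractNth_apply_of_eq _ _ _ _ hk, ← Fin.succ_castSucc, Fin.cons_succ, Fin.cons_succ]
    · rw [Fin.contractNth_apply_of_gt _ _ _ _ (by simpa using hk),
        Fin.contractNth_apply_of_gt _ _ _ _ hk, Fin.cons_succ]

theorem bd_cn (n : ℕ) (z : FreeAbelianGroup ((Fin (n + 1) → G) × G)) :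
    bd (fun s g : G => s * g) (n + 1) (cn (n + 1) z) = z - cn n (bd (fun s g : G => s * g) n z) := by
  have : (bd (fun s g : G => s * g) (n + 1)).comp (cn (n + 1)) =
      AddMonoidHom.id _ - (cn n).comp (bd (fun s g : G => s * g) n) := by
    refine FreeAbelianGroup.lift_ext _ _ fun x => ?_
    rw [AddMonoidHom.sub_apply, AddMonoidHom.comp_apply, AddMonoidHom.comp_apply, cn_of, bd_of, bd_of,
      map_add, map_sum, cn_of, Fin.sum_univ_succ]
    simp only [map_zsmul, cn_of, AddMonoidHom.id_apply]
    rw [contractNth_zero_cons]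
    simp only [contractNth_succ_cons, Fin.cons_succ, Fin.cons_zero, one_mul, Fin.val_succ]
    have h1 : ∀ j : Fin (n + 1), (-1 : ℤ) ^ ((j : ℕ) + 1 + 1) = -((-1 : ℤ) ^ ((j : ℕ) + 1)) := fun j => by
      rw [pow_succ, mul_neg_one]
    simp only [h1, neg_smul, Finset.sum_neg_distrib]
    simp only [Fin.val_zero, zero_add, pow_one, neg_smul, one_smul]
    abel
  exact DFunLike.congr_fun this z

theorem bd_cn_zero (z : FreeAbelianGroup ((Fin 0 → G) × G)) (hz : eps G G z = 0) :
    bd (fun s g : G => s * g) 0 (cn 0 z) = z := by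
  have : (bd (fun s g : G => s * g) 0).comp (cn 0) + ((zmultiplesHom _ (of ((default : Fin 0 → G), (1 : G)))).comp
      (eps G G)) = AddMonoidHom.id _ := by
    refine FreeAbelianGroup.lift_ext _ _ fun x => ?_
    rw [AddMonoidHom.add_apply, AddMonoidHom.comp_apply, AddMonoidHom.comp_apply, cn_of, bd_of, eps_of,
      Fin.sum_univ_one]
    have h1 : ∀ y : Fin 0 → G, y = default := fun y => Subsingleton.elim _ _
    rw [h1 (Fin.contractNth _ _ _)]
    simp
  have h := DFunLike.congr_fun this z
  rw [AddMonoidHom.add_apply, AddMonoidHom.comp_apply, AddMonoidHom.comp_apply, hz, map_zero, add_zero] at h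
  exact h

end K301.HSBarAlg
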