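import Groth.Agent.EtCore.K301.HSTors
import Groth.Agent.EtCore.K301.HSBarAlg
import Groth.Agent.Hyper.K311.HomCech
import Mathlib.RepresentationTheory.Homological.GroupCohomology.Functoriality

/-!
# The bar complex of free abelian presheaves of an object with a group action

For `Y` in the small étale site of `X` and `σ : G →* Aut Y`, `P σ` is the chain complex of presheaves with
`P_n(V) = ℤ[G^n × Hom(V, Y)]`; for a presheaf `M`, `Hom(P_•, M)` is the complex of inhomogeneous cochains of `G` with
values in `M(Y)`.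
-/

set_option autoImplicit false
set_option linter.unusedSectionVars false
universe u

open CategoryTheory CategoryTheory.Limits AlgebraicGeometry Opposite
open K301.HSBarAlg

noncomputable section

namespace K301.HSBar

variable {X : Scheme.{u}} {Y : X.Etale} {G : Type (u + 1)} [Group G] (σ : G →* Aut Y)

/-- The right action of `G` on morphisms to `Y`. -/
abbrev act (V : X.Etale) : (V ⟶ Y) → G → (V ⟶ Y) := fun y g => y ≫ (σ g).inv

variable (Y G) in
/-- The terms of the bar complex. -/
def Q (n : ℕ) : (X.Etale)ᵒᵖ ⥤ AddCommGrpCat.{u + 1} where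
  obj V := AddCommGrpCat.of (FreeAbelianGroup ((Fin n → G) × (V.unop ⟶ Y)))
  map {V W} f := AddCommGrpCat.ofHom (mp (fun y => f.unop ≫ y) n)
  map_id V := by
    refine AddCommGrpCat.hom_ext (FreeAbelianGroup.lift_ext _ _ fun x => ?_)
    refine (mp_of _ _ _).trans ?_
    exact congrArg (fun t => FreeAbelianGroup.of (x.1, t)) (Category.id_comp x.2)
  map_comp {V W Z} f g := by
    refine AddCommGrpCat.hom_ext (FreeAbelianGroup.lift_ext _ _ fun x => ?_)
    refine (mp_of _ _ _).trans ?_
    refine Eq.trans ?_ (congrArg (mp (G := G) (fun y => g.unop ≫ y) n) (mp_of (fun y => f.unop ≫ y) n x)).symm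
    refine Eq.trans ?_ (mp_of _ _ _).symm
    exact congrArg (fun t => FreeAbelianGroup.of (x.1, t)) (Category.assoc g.unop f.unop x.2)

/-- The differential. -/
def dQ (n : ℕ) : Q Y G (n + 1) ⟶ Q Y G n where
  app V := AddCommGrpCat.ofHom (bd (act σ V.unop) n)
  naturality V W f := by
    refine AddCommGrpCat.hom_ext (AddMonoidHom.ext fun z => ?_)
    exact bd_mp (a := act σ V.unop) (a' := act σ W.unop) (fun y => f.unop ≫ y)
      (fun y g => (Category.assoc f.unop y (σ g).inv).symm) n z

lemma dQ_app (n : ℕ) (V : X.Etale) (z : FreeAbelianGroup ((Fin (n + 1) → G) × (V ⟶ Y))) :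
    (dQ σ n).app (op V) z = bd (act σ V) n z := rfl

variable (M : (X.Etale)ᵒᵖ ⥤ AddCommGrpCat.{u + 1})

/-- The map out of `P_n` attached to a cochain. -/
def lin (n : ℕ) (s : (Fin n → G) → M.obj (op Y)) (V : X.Etale) :
    FreeAbelianGroup ((Fin n → G) × (V ⟶ Y)) →+ M.obj (op V) :=
  FreeAbelianGroup.lift (fun x => M.map x.2.op (s x.1))

@[simp] lemma lin_of (n : ℕ) (s : (Fin n → G) → M.obj (op Y)) (V : X.Etale) (x : (Fin n → G) × (V ⟶ Y)) :
    lin M n s V (FreeAbelianGroup.of x) = M.map x.2.op (s x.1) := FreeAbelianGroup.lift_apply_of _ _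

lemma map_map_apply {U V W : X.Etale} (f : V ⟶ U) (g : W ⟶ V) (x : M.obj (op U)) :
    M.map g.op (M.map f.op x) = M.map (g ≫ f).op x := by
  rw [op_comp, M.map_comp]
  rfl

lemma map_id_apply {U : X.Etale} (x : M.obj (op U)) : M.map (𝟙 U).op x = x := by
  rw [op_id, M.map_id]
  rfl

/-- Cochains as morphisms. -/
def L (n : ℕ) : ((Fin n → G) → M.obj (op Y)) →+ (Q Y G n ⟶ M) where
  toFun s :=
    { app := fun V => AddCommGrpCat.ofHom (lin M n s V.unop)
      naturality := fun V W f => by
        refine AddCommGrpCat.hom_ext (FreeAbelianGroup.lift_ext _ _ fun x => ?_)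
        change lin M n s W.unop (mp (fun y => f.unop ≫ y) n (FreeAbelianGroup.of x)) =
          M.map f (lin M n s V.unop (FreeAbelianGroup.of x))
        rw [mp_of, lin_of, lin_of]
        exact (map_map_apply M x.2 f.unop (s x.1)).symm }
  map_zero' := by
    ext V z
    change lin M n 0 V.unop z = 0
    have : lin M n (0 : (Fin n → G) → M.obj (op Y)) V.unop = 0 := by
      refine FreeAbelianGroup.lift_ext _ _ fun x => ?_
      rw [lin_of]
      exact map_zero _
    rw [this]
    rfl
  map_add' s t := by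
    ext V z
    change lin M n (s + t) V.unop z = lin M n s V.unop z + lin M n t V.unop z
    have : lin M n (s + t) V.unop = lin M n s V.unop + lin M n t V.unop := by
      refine FreeAbelianGroup.lift_ext _ _ fun x => ?_
      rw [AddMonoidHom.add_apply, lin_of, lin_of, lin_of]
      exact map_add _ _ _
    rw [this]
    rfl

lemma L_app (n : ℕ) (s : (Fin n → G) → M.obj (op Y)) (V : X.Etale)
    (z : FreeAbelianGroup ((Fin n → G) × (V ⟶ Y))) :
    (L M n s).app (op V) z = lin M n s V z := rfl

lemma L_gen (n : ℕ) (s : (Fin n → G) → M.obj (op Y)) (g : Fin n → G) :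
    (L M n s).app (op Y) (FreeAbelianGroup.of (g, 𝟙 Y)) = s g := by
  refine (lin_of M n s Y (g, 𝟙 Y)).trans ?_
  exact map_id_apply M _

lemma hom_ext {n : ℕ} {a b : Q Y G n ⟶ M}
    (h : ∀ g : Fin n → G, a.app (op Y) (FreeAbelianGroup.of (g, 𝟙 Y)) =
      b.app (op Y) (FreeAbelianGroup.of (g, 𝟙 Y))) : a = b := by
  ext V z
  have key : (a.app V).hom = (b.app V).hom := by
    refine FreeAbelianGroup.lift_ext _ _ fun x => ?_
    have h1 : (Q Y G n).map x.2.op (FreeAbelianGroup.of (x.1, 𝟙 Y)) = FreeAbelianGroup.of x := by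
      refine (mp_of _ _ _).trans ?_
      exact congrArg (fun t => FreeAbelianGroup.of (x.1, t)) (Category.comp_id x.2)
    have ha := ConcreteCategory.congr_hom (a.naturality x.2.op) (FreeAbelianGroup.of (x.1, 𝟙 Y))
    have hb := ConcreteCategory.congr_hom (b.naturality x.2.op) (FreeAbelianGroup.of (x.1, 𝟙 Y))
    have ha' : a.app V (FreeAbelianGroup.of x) = M.map x.2.op (a.app (op Y) (FreeAbelianGroup.of (x.1, 𝟙 Y))) :=
      (congrArg (a.app V) h1).symm.trans ha
    have hb' : b.app V (FreeAbelianGroup.of x) = M.map x.2.op (b.app (op Y) (FreeAbelianGroup.of (x.1, 𝟙 Y))) :=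
      (congrArg (b.app V) h1).symm.trans hb
    exact ha'.trans ((congrArg (M.map x.2.op) (h x.1)).trans hb'.symm)
  exact DFunLike.congr_fun key z

lemma L_bijective (n : ℕ) : Function.Bijective (L (G := G) M n (Y := Y)) := by
  refine ⟨fun s t h => ?_, fun f => ?_⟩
  · funext g
    rw [← L_gen M n s g, h, L_gen]
  · refine ⟨fun g => f.app (op Y) (FreeAbelianGroup.of (g, 𝟙 Y)), ?_⟩
    refine hom_ext M fun g => ?_
    exact L_gen M n _ g

/-- The terms are projective. -/
instance projective (n : ℕ) : Projective (Q Y G n) where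
  factors {E N} f e he := by
    have hs : Function.Surjective (e.app (op Y)) := by
      have : Epi (e.app (op Y)) := inferInstance
      exact (AddCommGrpCat.epi_iff_surjective _).1 this
    choose s hs using fun g : Fin n → G => hs (f.app (op Y) (FreeAbelianGroup.of (g, 𝟙 Y)))
    refine ⟨L E n s, hom_ext N fun g => ?_⟩
    refine Eq.trans ?_ (hs g)
    exact congrArg (e.app (op Y)) (L_gen E n s g)

/-- The representation on the sections over `Y` of a presheaf. -/
def rep : Rep.{u + 1, u + 1, u + 1} (ULift.{u + 1} ℤ) G :=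
  Rep.of (X := M.obj (op Y))
    { toFun := fun g =>
        { toFun := fun x => M.map (σ g).inv.op x
          map_add' := map_add _
          map_smul' := fun c x => map_zsmul (M.map (σ g).inv.op).hom c.down x }
      map_one' := by
        ext x
        change M.map (σ 1).inv.op x = x
        rw [map_one]
        exact map_id_apply M x
      map_mul' := fun g h => by
        ext x
        change M.map (σ (g * h)).inv.op x = M.map (σ g).inv.op (M.map (σ h).inv.op x)
        rw [map_mul, map_map_apply]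
        rfl }

lemma rep_ρ (g : G) (x : M.obj (op Y)) : (rep σ M).ρ g x = M.map (σ g).inv.op x := rfl

/-- The complex of inhomogeneous cochains, as a complex of abelian groups. -/
abbrev D : CochainComplex AddCommGrpCat.{u + 1} ℕ :=
  ((forget₂ (ModuleCat.{u + 1} (ULift.{u + 1} ℤ)) AddCommGrpCat.{u + 1}).mapHomologicalComplex _).obj
    (groupCohomology.inhomogeneousCochains (rep σ M))

lemma D_d (n : ℕ) (s : (Fin n → G) → M.obj (op Y)) (g : Fin (n + 1) → G) :
    ((D σ M).d n (n + 1) s : (Fin (n + 1) → G) → M.obj (op Y)) g =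
      M.map (σ (g 0)).inv.op (s fun i => g i.succ) +
        ∑ j : Fin (n + 1), (-1 : ℤ) ^ ((j : ℕ) + 1) • s (Fin.contractNth j (· * ·) g) := by
  have h1 : (D σ M).d n (n + 1) s = inhomogeneousCochains.d (rep σ M) n s := by
    change (groupCohomology.inhomogeneousCochains (rep σ M)).d n (n + 1) s = _
    rw [groupCohomology.inhomogeneousCochains.d_def]
  rw [h1]
  change _ + (∑ j : Fin (n + 1), ((-1 : ULift.{u + 1} ℤ) ^ ((j : ℕ) + 1)) • s (Fin.contractNth j (· * ·) g)) = _
  congr 1

lemma L_d (n : ℕ) (s : (Fin n → G) → M.obj (op Y)) :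
    L M (n + 1) ((D σ M).d n (n + 1) s) = dQ σ n ≫ L M n s := by
  refine hom_ext M fun g => ?_
  rw [L_gen, D_d]
  change _ = lin M n s Y (bd (act σ Y) n (FreeAbelianGroup.of (g, 𝟙 Y)))
  rw [bd_of, map_add, map_sum, lin_of]
  simp only [map_zsmul, lin_of, act, Category.id_comp, map_id_apply]

lemma dQ_dQ (n : ℕ) : dQ σ (n + 1) ≫ dQ σ n = 0 := by
  obtain ⟨s, hs⟩ := (L_bijective (G := G) (Q Y G n) n).2 (𝟙 _)
  have h1 : L (Q Y G n) (n + 2) ((D σ (Q Y G n)).d (n + 1) (n + 1 + 1) ((D σ (Q Y G n)).d n (n + 1) s)) =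
      dQ σ (n + 1) ≫ dQ σ n := by
    rw [L_d, L_d, hs, Category.comp_id]
  have h2 : (D σ (Q Y G n)).d (n + 1) (n + 1 + 1) ((D σ (Q Y G n)).d n (n + 1) s) = 0 := by
    have := (D σ (Q Y G n)).d_comp_d n (n + 1) (n + 1 + 1)
    exact ConcreteCategory.congr_hom this s
  rw [← h1, h2]
  exact map_zero (L (Q Y G n) (n + 2))

/-- The bar complex. -/
def P : ChainComplex ((X.Etale)ᵒᵖ ⥤ AddCommGrpCat.{u + 1}) ℕ :=
  ChainComplex.of (Q Y G) (dQ σ) (dQ_dQ σ)

lemma P_d (n : ℕ) : (P σ).d (n + 1) n = dQ σ n := by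
  simp [P]

instance (n : ℕ) : Projective ((P σ).X n) := projective n

/-- The cohomology of `Hom(P, M)` is group cohomology. -/
theorem nonempty_iso (p : ℕ) :
    Nonempty ((D σ M).homology p ≅ AddCommGrpCat.of
      (CochainComplex.HomComplex.CohomologyClass (K311.HomCech.ext (P σ))
        ((CochainComplex.singleFunctor _ 0).obj M) p)) :=
  K311.HomCech.nonempty_iso (P σ) M (D σ M) (L M) (L_bijective M) (fun n s => by
    rw [P_d]
    exact L_d σ M n s) p

/-- The homology of `D` is group cohomology. -/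
def homologyD (p : ℕ) : (D σ M).homology p ≅ AddCommGrpCat.of (groupCohomology (rep σ M) p) :=
  ((groupCohomology.inhomogeneousCochains (rep σ M)).sc p).mapHomologyIso
    (forget₂ (ModuleCat.{u + 1} (ULift.{u + 1} ℤ)) AddCommGrpCat.{u + 1})

end K301.HSBar
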