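import Groth.Agent.Lefpen.H723.ResCls
import Groth.Agent.Lefpen.H723.Edge
import Groth.Agent.Sga5.ExtCop
import Groth.Agent.Sga4h.PullInj

/-!
# The presheaf `V ↦ Ext^n(ℤ[V], F)` and relative pullback maps

* `th V n : Ext^n(ℤ[V], F) ≃+ H^n(V, F|_V)`, compatible with restriction along `f : V' ⟶ V` and
  `EtCore.HpullVia f.left`.
-/

set_option autoImplicit false
universe u
open CategoryTheory CategoryTheory.Limits CategoryTheory.Abelian AlgebraicGeometry Opposite
open scoped Groth.Agent.Etcore.EtInst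
open Groth.Agent.Etcore.EtInst
open Groth.Agent.EtpbcA Groth.Agent.Sga4B.DualShape Groth.Agent.Lefpen.H723
open Groth.Agent.Etcore Groth.Agent.Etcore.HpullCalc Groth.Agent.Etcore.PullCoh Groth.Agent.Etcore.HQ

namespace K301.HSCoh

attribute [local instance] pfl

noncomputable section

variable {X : Scheme.{u}} (F : EtCoh.Ab X)

/-- The tautological map. -/
def taut (V : X.Etale) : EtCoh.const V.left ℤ ⟶ (EtCoh.pull V.hom).obj (ZS V) :=
  ((Ext.mk₀_bijective _ _).2 (HQ.sec (ZS V) V.hom (𝟙 V.left) (Category.id_comp _)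
    (Jshriek.univ V ℤ 1))).choose

lemma mk₀_taut (V : X.Etale) : (Ext.mk₀ (taut V) : HH V.left _ 0) =
    HQ.sec (ZS V) V.hom (𝟙 V.left) (Category.id_comp _) (Jshriek.univ V ℤ 1) :=
  ((Ext.mk₀_bijective _ _).2 (HQ.sec (ZS V) V.hom (𝟙 V.left) (Category.id_comp _)
    (Jshriek.univ V ℤ 1))).choose_spec

theorem bijective_zero (V : X.Etale) :
    Function.Bijective (fun φ : ZS V ⟶ F => taut V ≫ (EtCoh.pull V.hom).map φ) := by
  have h1 : (fun φ : ZS V ⟶ F => (Ext.mk₀ (taut V ≫ (EtCoh.pull V.hom).map φ) : HH V.left _ 0)) =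
      (HQ.sec F V.hom (𝟙 V.left) (Category.id_comp _)) ∘ (Edge.homEquiv V F) := by
    funext φ
    rw [← Ext.mk₀_comp_mk₀, mk₀_taut]
    exact HQ.map_sec φ V.hom (𝟙 V.left) (Category.id_comp _) (Jshriek.univ V ℤ 1)
  have h2 : Function.Bijective (fun φ : ZS V ⟶ F =>
      (Ext.mk₀ (taut V ≫ (EtCoh.pull V.hom).map φ) : HH V.left _ 0)) := by
    rw [h1]
    exact (HQ.sec_bijective F V).comp (Edge.homEquiv V F).bijective
  exact (Function.Bijective.of_comp_iff' (Ext.mk₀_bijective _ _) _).1 h2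

theorem bijective_rc (V : X.Etale) (n : ℕ) :
    Function.Bijective (ResCls.rc F V.hom (𝟙 V.left) (Category.id_comp _) n) := by
  have h1 : ResCls.rc F V.hom (𝟙 V.left) (Category.id_comp _) n =
      Groth.Agent.Sga4B.ExtCmp.cmp (EtCoh.pull V.hom) (taut V) F n := by
    funext x
    rw [Groth.Agent.Sga4B.ExtCmp.cmp_apply, mk₀_taut]
    rfl
  rw [h1]
  exact Groth.Agent.Sga5.ExtCop.bijective_cmp.{u + 1, u + 1} (EtCoh.pull V.hom) (taut V)
    (fun I _ => Groth.Agent.Sga4h.PullInj.injective_pull V.hom I) (fun F => bijective_zero F V) n F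

lemma rc_add (V : X.Etale) (n : ℕ) (x y : Ext.{u + 1} (ZS V) F n) :
    ResCls.rc F V.hom (𝟙 V.left) (Category.id_comp _) n (x + y) =
      ResCls.rc F V.hom (𝟙 V.left) (Category.id_comp _) n x +
        ResCls.rc F V.hom (𝟙 V.left) (Category.id_comp _) n y := by
  rw [ResCls.rc, ResCls.rc, ResCls.rc, ← Ext.comp_add, ← Ext.mapExactFunctor_add]

/-- The presheaf `V ↦ Ext^n(ℤ[V], F)`. -/
abbrev pre (n : ℕ) : (X.Etale)ᵒᵖ ⥤ AddCommGrpCat.{u + 1} :=
  (Groth.Agent.CohtopB.ExtRD.extPre (JF X ℤ) n).obj F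

/-- The comparison. -/
def th (V : X.Etale) (n : ℕ) : (pre F n).obj (op V) ≃+ EtCoh.H V.left ((EtCoh.pull V.hom).obj F) n :=
  AddEquiv.ofBijective
    (AddMonoidHom.mk' (ResCls.rc F V.hom (𝟙 V.left) (Category.id_comp _) n) (rc_add F V n))
    (bijective_rc F V n)

theorem th_map {V V' : X.Etale} (f : V' ⟶ V) (i : PreservesFiniteLimits (EtCoh.pull f.left)) (n : ℕ)
    (x : (pre F n).obj (op V)) :
    th F V' n ((pre F n).map f.op x) =
      @EtCore.HpullVia _ _ _ f.left V.hom V'.hom (MorphismProperty.Over.w f) i F n (th F V n x) := by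
  have h1 : @EtCore.HpullVia _ _ _ f.left V.hom V'.hom (MorphismProperty.Over.w f) i F n (th F V n x) =
    HQ.res F f.left (MorphismProperty.Over.w f) n
      (ResCls.rc F V.hom (𝟙 V.left) (Category.id_comp _) n x) := rfl
  rw [h1, ResCls.res_rc F f.left (MorphismProperty.Over.w f) (𝟙 V.left) (Category.id_comp _) f.left
    (MorphismProperty.Over.w f) (Category.comp_id _)]
  exact ResCls.rc_map F V'.hom f (𝟙 V'.left) (Category.id_comp _) f.left (MorphismProperty.Over.w f)
    (Category.id_comp _) n x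

end

end K301.HSCoh
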