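import Groth.Agent.EtCore.K301.HSBar
import Groth.Agent.CurvesA.SiteZU

/-!
# The bar complex of a Galois covering is a resolution of `ℤ` after sheafification
-/

set_option autoImplicit false
universe u

open CategoryTheory CategoryTheory.Limits AlgebraicGeometry Opposite
open K301.HSBarAlg K301.HSBar
open Groth.Agent.Etbase

noncomputable section

namespace K301.HSExact

variable {X : Scheme.{u}} {Y : X.Etale} {G : Type (u + 1)} [Group G] (σ : G →* Aut Y)

/-- The map `G → Hom(W, Y)` attached to a point. -/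
abbrev orb {W : X.Etale} (p : W ⟶ Y) : G → (W ⟶ Y) := fun h => p ≫ (σ h).inv

lemma orb_mul {W : X.Etale} (p : W ⟶ Y) (s g : G) : orb σ p (s * g) = act σ W (orb σ p s) g := by
  change p ≫ (σ (s * g)).inv = (p ≫ (σ s).inv) ≫ (σ g).inv
  rw [map_mul, Category.assoc]
  rfl

/-- Restriction of chains. -/
abbrev rs {V W : X.Etale} (f : W ⟶ V) (n : ℕ) :
    FreeAbelianGroup ((Fin n → G) × (V ⟶ Y)) →+ FreeAbelianGroup ((Fin n → G) × (W ⟶ Y)) :=
  mp (fun y => f ≫ y) n

lemma rs_rs {V W W' : X.Etale} (f : W ⟶ V) (g : W' ⟶ W) (n : ℕ)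
    (z : FreeAbelianGroup ((Fin n → G) × (V ⟶ Y))) :
    rs (Y := Y) g n (rs (Y := Y) f n z) = rs (Y := Y) (g ≫ f) n z := by
  have : (rs (G := G) (Y := Y) g n).comp (rs (Y := Y) f n) = rs (Y := Y) (g ≫ f) n := by
    refine FreeAbelianGroup.lift_ext _ _ fun x => ?_
    rw [AddMonoidHom.comp_apply, mp_of, mp_of, mp_of]
    simp only [Category.assoc]
  exact DFunLike.congr_fun this z

lemma rs_orb {V W : X.Etale} (f : W ⟶ V) (p : V ⟶ Y) (n : ℕ) (z : FreeAbelianGroup ((Fin n → G) × G)) :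
    rs (Y := Y) f n (mp (orb σ p) n z) = mp (orb σ (f ≫ p)) n z := by
  have : (rs (G := G) (Y := Y) f n).comp (mp (orb σ p) n) = mp (orb σ (f ≫ p)) n := by
    refine FreeAbelianGroup.lift_ext _ _ fun x => ?_
    rw [AddMonoidHom.comp_apply, mp_of, mp_of, mp_of]
    simp only [orb, Category.assoc]
  exact DFunLike.congr_fun this z

variable [Finite G]
  (hgal : Nonempty (IsColimit (Cofan.mk (Y ⨯ Y) (fun g : G => prod.lift (𝟙 Y) (σ g).hom))))

include hgal

lemma orb_injective {W : X.Etale} (w : W.left) (p : W ⟶ Y) : Function.Injective (orb σ p) := by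
  intro g h e
  have h1 : p ≫ (σ g⁻¹).hom = p ≫ (σ h⁻¹).hom := by
    rw [map_inv, map_inv]
    exact e
  exact inv_injective (HSTors.inj σ hgal w p h1)

/-- Locally, chains come from the orbit of a point. -/
theorem exists_orb {V : X.Etale} (p : V ⟶ Y) (n : ℕ) (z : FreeAbelianGroup ((Fin n → G) × (V ⟶ Y)))
    (v : V.left) :
    ∃ (W : X.Etale) (f : W ⟶ V) (w : W.left), f.left w = v ∧
      ∃ z' : FreeAbelianGroup ((Fin n → G) × G), rs (Y := Y) f n z = mp (orb σ (f ≫ p)) n z' := by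
  induction z using FreeAbelianGroup.induction_on generalizing v with
  | zero => exact ⟨V, 𝟙 V, v, rfl, 0, by rw [map_zero, map_zero]⟩
  | of x =>
    obtain ⟨W, f, w, g, hw, e⟩ := HSTors.exists_loc σ hgal p x.2 v
    refine ⟨W, f, w, hw, FreeAbelianGroup.of (x.1, g⁻¹), ?_⟩
    rw [mp_of, mp_of]
    congr 2
    rw [e, orb, map_inv, Category.assoc]
    rfl
  | neg x ih =>
    obtain ⟨W, f, w, hw, z', e⟩ := ih v
    exact ⟨W, f, w, hw, -z', by rw [map_neg, e, map_neg]⟩
  | add x y ihx ihy =>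
    obtain ⟨W, f, w, hw, z', e⟩ := ihx v
    obtain ⟨W', f', w', hw', z'', e'⟩ := ihy v
    obtain ⟨P, a, b, t, hab, ha, hb⟩ := EtSite.exists_pullback f f' w w' (hw.trans hw'.symm)
    refine ⟨P, a ≫ f, t, ?_, z' + z'', ?_⟩
    · refine Eq.trans ?_ hw
      exact congrArg f.left ha
    · rw [map_add, map_add, ← rs_rs f a, e, rs_orb, hab, ← rs_rs f' b, e', rs_orb, ← Category.assoc,
        ← Category.assoc, hab]

theorem exists_bd (hY : Function.Surjective Y.hom.base) {V : X.Etale} (n : ℕ)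
    (z : FreeAbelianGroup ((Fin (n + 1) → G) × (V ⟶ Y))) (hz : bd (act σ V) n z = 0) (v : V.left) :
    ∃ (W : X.Etale) (f : W ⟶ V) (w : W.left), f.left w = v ∧
      ∃ y : FreeAbelianGroup ((Fin (n + 2) → G) × (W ⟶ Y)),
        bd (act σ W) (n + 1) y = rs (Y := Y) f (n + 1) z := by
  obtain ⟨V', g, v', hv', ⟨p⟩⟩ := HSTors.exists_section (Y := Y) hY V v
  obtain ⟨W, f, w, hw, z', e⟩ := exists_orb σ hgal p (n + 1) (rs (Y := Y) g (n + 1) z) v'
  refine ⟨W, f ≫ g, w, ?_, mp (orb σ (f ≫ p)) (n + 2) (cn (n + 1) z'), ?_⟩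
  · refine Eq.trans ?_ hv'
    exact congrArg g.left hw
  · have h1 : bd (act σ W) n (mp (orb σ (f ≫ p)) (n + 1) z') = 0 := by
      rw [← e, rs_rs, bd_mp (a := act σ V) (a' := act σ W) _ (fun y g => (Category.assoc _ _ _).symm),
        hz, map_zero]
    rw [bd_mp (a := fun s g : G => s * g) _ (orb_mul σ _)] at h1
    have h2 : bd (fun s g : G => s * g) n z' = 0 :=
      mp_injective _ (orb_injective σ hgal w _) n (h1.trans (map_zero _).symm)
    rw [bd_mp (a := fun s g : G => s * g) _ (orb_mul σ _), bd_cn, h2, map_zero, sub_zero, ← e, rs_rs]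

theorem exists_bd_zero (hY : Function.Surjective Y.hom.base) {V : X.Etale}
    (z : FreeAbelianGroup ((Fin 0 → G) × (V ⟶ Y))) (hz : eps G (V ⟶ Y) z = 0) (v : V.left) :
    ∃ (W : X.Etale) (f : W ⟶ V) (w : W.left), f.left w = v ∧
      ∃ y : FreeAbelianGroup ((Fin 1 → G) × (W ⟶ Y)), bd (act σ W) 0 y = rs (Y := Y) f 0 z := by
  obtain ⟨V', g, v', hv', ⟨p⟩⟩ := HSTors.exists_section (Y := Y) hY V v
  obtain ⟨W, f, w, hw, z', e⟩ := exists_orb σ hgal p 0 (rs (Y := Y) g 0 z) v'
  refine ⟨W, f ≫ g, w, ?_, mp (orb σ (f ≫ p)) 1 (cn 0 z'), ?_⟩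
  · refine Eq.trans ?_ hv'
    exact congrArg g.left hw
  · have h1 : eps G G z' = 0 := by
      rw [← eps_mp (orb σ (f ≫ p)), ← e, rs_rs, eps_mp, hz]
    rw [bd_mp (a := fun s g : G => s * g) _ (orb_mul σ _), bd_cn_zero _ h1, ← e, rs_rs]

omit [Finite G] hgal

variable (Y G) in
/-- The augmentation as a morphism of presheaves. -/
def aug : Q Y G 0 ⟶ (Functor.const _).obj (AddCommGrpCat.of (ULift.{u + 1} ℤ)) where
  app V := AddCommGrpCat.ofHom (AddEquiv.ulift.symm.toAddMonoidHom.comp (eps G (V.unop ⟶ Y)))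
  naturality V W f := by
    refine AddCommGrpCat.hom_ext (AddMonoidHom.ext fun z => ?_)
    exact congrArg ULift.up (eps_mp _ z)

lemma dQ_aug : dQ σ 0 ≫ aug Y G = 0 := by
  ext V z
  exact congrArg ULift.up (eps_bd (act σ V.unop) z)

/-- The augmentation to the constant sheaf. -/
def φ : (presheafToSheaf X.smallEtaleTopology AddCommGrpCat.{u + 1}).obj ((P σ).X 0) ⟶ EtCoh.const X ℤ :=
  (presheafToSheaf X.smallEtaleTopology AddCommGrpCat.{u + 1}).map (aug Y G)

lemma wφ : (presheafToSheaf X.smallEtaleTopology AddCommGrpCat.{u + 1}).map ((P σ).d 1 0) ≫ φ σ = 0 := by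
  rw [P_d]
  refine ((presheafToSheaf X.smallEtaleTopology AddCommGrpCat.{u + 1}).map_comp (dQ σ 0) (aug Y G)).symm.trans ?_
  rw [dQ_aug]
  exact Functor.map_zero _ _ _

variable (Y G) in
lemma locSurj (hY : Function.Surjective Y.hom.base) :
    Presheaf.IsLocallySurjective X.smallEtaleTopology (aug Y G) := by
  refine ⟨fun {U} s => ?_⟩
  rw [EtSite.mem_iff]
  intro x
  obtain ⟨V', g, v', hv', ⟨p⟩⟩ := HSTors.exists_section (Y := Y) hY U x
  refine ⟨V', g, v', ?_, hv'⟩
  refine ⟨(s : ULift.{u + 1} ℤ).down • FreeAbelianGroup.of ((default : Fin 0 → G), p), ?_⟩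
  change ULift.up (eps G (V' ⟶ Y) ((s : ULift.{u + 1} ℤ).down • FreeAbelianGroup.of ((default : Fin 0 → G), p))) = s
  rw [map_zsmul, eps_of]
  simp
  rfl

lemma epi_φ (hY : Function.Surjective Y.hom.base) : Epi (φ σ) := by
  rw [← Sheaf.isLocallySurjective_iff_epi']
  exact (Presheaf.isLocallySurjective_presheafToSheaf_map_iff _ _).2 (locSurj Y G hY)

variable [Finite G]
  (hgal : Nonempty (IsColimit (Cofan.mk (Y ⨯ Y) (fun g : G => prod.lift (𝟙 Y) (σ g).hom))))

include hgal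

omit [Finite G] hgal in
/-- Local exactness in terms of points. -/
lemma exact_of_local (S : ShortComplex ((X.Etale)ᵒᵖ ⥤ AddCommGrpCat.{u + 1}))
    (h : ∀ (V : X.Etale) (x : S.X₂.obj (op V)), S.g.app (op V) x = 0 → ∀ v : V.left,
      ∃ (W : X.Etale) (f : W ⟶ V) (w : W.left), f.left w = v ∧
        ∃ y : S.X₁.obj (op W), S.f.app (op W) y = S.X₂.map f.op x) :
    (S.map (presheafToSheaf X.smallEtaleTopology AddCommGrpCat.{u + 1})).Exact := by
  refine Groth.Agent.CurvesA.SiteZU.exact_map_presheafToSheaf.{u + 1, u, u + 1} S fun V x hx => ?_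
  let T : Sieve V :=
    { arrows := fun W f => ∃ y : S.X₁.obj (op W), S.f.app (op W) y = S.X₂.map f.op x
      downward_closed := by
        rintro W W' f ⟨y, hy⟩ k
        refine ⟨S.X₁.map k.op y, ?_⟩
        have h1 := ConcreteCategory.congr_hom (S.f.naturality k.op) y
        refine h1.trans ?_
        refine (congrArg (S.X₂.map k.op) hy).trans ?_
        exact map_map_apply S.X₂ f k x }
  refine ⟨T, ?_, fun W f hf => hf⟩
  rw [EtSite.mem_iff]
  intro v
  obtain ⟨W, f, w, hw, y, hy⟩ := h V x hx v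
  exact ⟨W, f, w, ⟨y, hy⟩, hw⟩

lemma exact_φ (hY : Function.Surjective Y.hom.base) : (ShortComplex.mk _ _ (wφ σ)).Exact := by
  have h1 := exact_of_local (ShortComplex.mk _ _ (dQ_aug σ)) (fun V x hx v =>
    exists_bd_zero σ hgal hY x (ULift.up_injective hx) v)
  refine (ShortComplex.exact_iff_of_iso ?_).1 h1
  refine ShortComplex.isoMk (Iso.refl _) (Iso.refl _) (Iso.refl _) ?_ ?_
  · refine (Category.id_comp _).trans ?_
    refine Eq.trans ?_ (Category.comp_id _).symm
    exact congrArg _ (P_d σ 0)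
  · exact (Category.id_comp _).trans (Category.comp_id _).symm

lemma exactAt (hY : Function.Surjective Y.hom.base) (n : ℕ) :
    (((presheafToSheaf X.smallEtaleTopology AddCommGrpCat.{u + 1}).mapHomologicalComplex (.down ℕ)).obj
      (P σ)).ExactAt (n + 1) := by
  rw [HomologicalComplex.exactAt_iff' _ (n + 2) (n + 1) n (by simp) (by simp)]
  refine exact_of_local ((P σ).sc' (n + 2) (n + 1) n) (fun V x hx v => ?_)
  have hx' : bd (act σ V) n x = 0 := by
    have h1 : (P σ).d (n + 1) n = dQ σ n := P_d σ n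
    have h2 : ((P σ).d (n + 1) n).app (op V) x = 0 := hx
    rw [h1] at h2
    exact h2
  obtain ⟨W, f, w, hw, y, hy⟩ := exists_bd σ hgal hY n x hx' v
  refine ⟨W, f, w, hw, y, ?_⟩
  have h1 : (P σ).d (n + 2) (n + 1) = dQ σ (n + 1) := P_d σ (n + 1)
  change ((P σ).d (n + 2) (n + 1)).app (op W) y = _
  rw [h1]
  exact hy

end K301.HSExact
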