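import Mathlib.RepresentationTheory.Rep.Basic

/-!
# Isomorphisms of representations over `ULift ℤ` from additive equivalences
-/

set_option autoImplicit false
universe u v w w'

open CategoryTheory

namespace K301.HSRep

section

variable {R : Type u} [CommRing R] (hR : ∀ c : R, ∃ n : ℤ, (n : R) = c)

/-- Additive equivalences are linear. -/
def linEquiv {V : Type w} {W : Type w'} [AddCommGroup V] [AddCommGroup W] [Module R V]
    [Module R W] (e : V ≃+ W) : V ≃ₗ[R] W :=
  { e with
    map_smul' := fun c x => by
      obtain ⟨n, rfl⟩ := hR c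
      change e ((n : R) • x) = (n : R) • e x
      rw [Int.cast_smul_eq_zsmul, Int.cast_smul_eq_zsmul, map_zsmul] }

variable {G : Type v} [Group G]

include hR in
/-- An equivariant additive isomorphism gives an isomorphism of representations. -/
theorem nonempty_iso (A B : Rep.{w} R G) (e : A.V ≃+ B.V)
    (he : ∀ (g : G) (v : A.V), e (A.ρ g v) = B.ρ g (e v)) : Nonempty (A ≅ B) := by
  refine ⟨Rep.mkIso (Representation.Equiv.mk (linEquiv hR e) fun g => ?_)⟩
  refine LinearMap.ext fun v => ?_
  exact he g v

end

theorem exists_int (c : ULift.{u} ℤ) : ∃ n : ℤ, (n : ULift.{u} ℤ) = c := by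
  refine ⟨c.down, ?_⟩
  apply ULift.ext
  simp

end K301.HSRep
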