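import Groth.Agent.EtCore.K301.SigmaCofan
import Groth.Prelude.Def_EtCore

/-!
# Galois coverings in the small étale site: local structure

For `Y` an object of the small étale site with an action of a finite group `G` such that the graphs exhibit
`Y ⨯ Y` as a coproduct of copies of `Y`:

* `inj`: over a non-empty object `W`, `p ≫ σ g` determines `g`;
* `exists_loc`: two morphisms `W ⟶ Y` locally differ by an element of `G`;
* `exists_section`: locally there is a morphism to `Y` if `Y` is surjective over the base.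
-/

set_option autoImplicit false
universe u w'

open CategoryTheory CategoryTheory.Limits AlgebraicGeometry Opposite
open Groth.Agent.Etbase Groth.Agent.Etbase.EtRep Groth.Agent.Etbase.EtSigma

namespace K301.HSTors

variable {X : Scheme.{u}} {Y : X.Etale} {G : Type w'} [Group G] [Finite G] (σ : G →* Aut Y)
  (hgal : Nonempty (IsColimit (Cofan.mk (Y ⨯ Y) (fun g : G => prod.lift (𝟙 Y) (σ g).hom))))

include hgal

/-- Disjointness. -/
theorem inj {W : X.Etale} (w : W.left) (p : W ⟶ Y) {g h : G}
    (e : p ≫ (σ g).hom = p ≫ (σ h).hom) : g = h := by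
  obtain ⟨hc⟩ := hgal
  have : Small.{u} G := Countable.toSmall G
  let e' := hc.coconePointUniqueUpToIso (SigmaCofan.isColimitSig (fun _ : G => Y))
  have he' : ∀ i : G, prod.lift (𝟙 Y) (σ i).hom ≫ e'.hom = sin (fun _ : G => Y) i := fun i =>
    IsColimit.comp_coconePointUniqueUpToIso_hom hc (SigmaCofan.isColimitSig (fun _ : G => Y)) ⟨i⟩
  have h1 : p ≫ prod.lift (𝟙 Y) (σ g).hom = p ≫ prod.lift (𝟙 Y) (σ h).hom := by
    rw [prod.comp_lift, prod.comp_lift, e]
  have h2 : p ≫ sin (fun _ : G => Y) g = p ≫ sin (fun _ : G => Y) h := by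
    rw [← he' g, ← he' h, ← Category.assoc, h1, Category.assoc]
  have h3 := congrArg (fun k : W ⟶ sig (fun _ : G => Y) => k.left w) h2
  exact eq_of_eq (fun _ : G => Y) (x := p.left w) (y := p.left w) h3

/-- Two morphisms to a Galois covering locally differ by an element of the group. -/
theorem exists_loc {W : X.Etale} (p q : W ⟶ Y) (w : W.left) :
    ∃ (W' : X.Etale) (f : W' ⟶ W) (w' : W'.left) (g : G), f.left w' = w ∧
      f ≫ q = f ≫ p ≫ (σ g).hom := by
  obtain ⟨hc⟩ := hgal
  have : Small.{u} G := Countable.toSmall G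
  obtain ⟨g, y, hy⟩ := SigmaCofan.jointly_surjective hc ((prod.lift p q).left w)
  obtain ⟨W', f, b, w', hfb, h1, -⟩ := EtSite.exists_pullback (prod.lift p q)
    (prod.lift (𝟙 Y) (σ g).hom) w y hy.symm
  have h2 : f ≫ p = b := by
    have := congrArg (fun k => k ≫ (prod.fst : Y ⨯ Y ⟶ Y)) hfb
    rwa [Category.assoc, Category.assoc, prod.lift_fst, prod.lift_fst, Category.comp_id] at this
  have h3 : f ≫ q = b ≫ (σ g).hom := by
    have := congrArg (fun k => k ≫ (prod.snd : Y ⨯ Y ⟶ Y)) hfb
    rwa [Category.assoc, Category.assoc, prod.lift_snd, prod.lift_snd] at this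
  refine ⟨W', f, w', g, h1, ?_⟩
  rw [h3, ← h2, Category.assoc]

omit [Finite G] hgal in
/-- Local morphisms to a surjective object. -/
theorem exists_section (hY : Function.Surjective Y.hom.base) (W : X.Etale) (w : W.left) :
    ∃ (W' : X.Etale) (f : W' ⟶ W) (w' : W'.left), f.left w' = w ∧ Nonempty (W' ⟶ Y) := by
  obtain ⟨y, hy⟩ := hY (W.hom w)
  obtain ⟨W', a, b, w', -, h1, -⟩ := EtSite.exists_pullback (EtCore.topIsTerminal X |>.from W)
    (EtCore.topIsTerminal X |>.from Y) w y (by
      have e1 : (EtCore.topIsTerminal X |>.from W).left w = W.hom w := by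
        have := MorphismProperty.Over.w (EtCore.topIsTerminal X |>.from W)
        exact congrArg (fun k : W.left ⟶ X => k w) this
      have e2 : (EtCore.topIsTerminal X |>.from Y).left y = Y.hom y := by
        have := MorphismProperty.Over.w (EtCore.topIsTerminal X |>.from Y)
        exact congrArg (fun k : Y.left ⟶ X => k y) this
      exact e1.trans (hy.symm.trans e2.symm))
  exact ⟨W', a, w', h1, ⟨b⟩⟩

end K301.HSTors
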