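import Groth.Agent.Etrest.HpullAcyc
import Groth.Agent.Etrest.HpullConst
import Groth.Agent.Sga4B.CurveCard
import Groth.Agent.Sga4B.ConstLC
import Groth.Agent.S0071
import Groth.Agent.Sga4B.HTools

/-!
# Pullback in cohomology along a finite morphism in terms of the unit

Equivalences of homomorphisms of abelian groups; `EtCore.Hpull` for a finite morphism is equivalent to the map
`H^n(Y, G) → H^n(Y, f_* f^* G)` given by the unit; for a constant sheaf it is equivalent to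
`H^n(Y, M) → H^n(Y, f_* M)`.
-/

set_option autoImplicit false
universe u v₁ v₂ v₃ v₄ v₅ v₆

open CategoryTheory CategoryTheory.Limits AlgebraicGeometry Opposite CategoryTheory.Abelian

namespace K301.HpullFac

open Groth.Agent

section Groups

variable {A : Type v₁} {B : Type v₂} {A' : Type v₃} {B' : Type v₄} {A'' : Type v₅} {B'' : Type v₆}
  [AddCommGroup A] [AddCommGroup B] [AddCommGroup A'] [AddCommGroup B'] [AddCommGroup A'']
  [AddCommGroup B'']

/-- Two homomorphisms which agree up to isomorphisms of source and target. -/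
def HE (φ : A →+ B) (ψ : A' →+ B') : Prop :=
  ∃ (a : A ≃+ A') (b : B ≃+ B'), ∀ x, ψ (a x) = b (φ x)

variable {φ : A →+ B} {ψ : A' →+ B'} {χ : A'' →+ B''}

theorem HE.trans (h : HE φ ψ) (h' : HE ψ χ) : HE φ χ := by
  obtain ⟨a, b, h⟩ := h
  obtain ⟨a', b', h'⟩ := h'
  exact ⟨a.trans a', b.trans b', fun x => by simp [h, h']⟩

theorem HE.symm (h : HE φ ψ) : HE ψ φ := by
  obtain ⟨a, b, h⟩ := h
  refine ⟨a.symm, b.symm, fun x => ?_⟩
  rw [AddEquiv.eq_symm_apply, ← h, a.apply_symm_apply]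

theorem HE.surjective (h : HE φ ψ) (hφ : Function.Surjective φ) : Function.Surjective ψ := by
  obtain ⟨a, b, h⟩ := h
  intro y
  obtain ⟨x, hx⟩ := hφ (b.symm y)
  exact ⟨a x, by rw [h, hx, b.apply_symm_apply]⟩

theorem HE.injective (h : HE φ ψ) (hφ : Function.Injective φ) : Function.Injective ψ := by
  obtain ⟨a, b, h⟩ := h
  intro x y hxy
  rw [← a.apply_symm_apply x, ← a.apply_symm_apply y, h, h] at hxy
  have := hφ (b.injective hxy)
  exact a.symm.injective this

theorem HE.bijective (h : HE φ ψ) (hφ : Function.Bijective φ) : Function.Bijective ψ :=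
  ⟨h.injective hφ.1, h.surjective hφ.2⟩

theorem HE.card_ker (h : HE φ ψ) : Nat.card φ.ker = Nat.card ψ.ker := by
  obtain ⟨a, b, h⟩ := h
  refine Nat.card_congr
    { toFun := fun x => ⟨a x.1, by rw [AddMonoidHom.mem_ker, h, x.2, map_zero]⟩
      invFun := fun y => ⟨a.symm y.1, by
        rw [AddMonoidHom.mem_ker]
        apply b.injective
        rw [← h, a.apply_symm_apply, y.2, map_zero]⟩
      left_inv := fun x => by simp
      right_inv := fun y => by simp }

end Groups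

section Abstract

universe w w' u₁ w₁ u₂ w₂

variable {B : Type u₁} [Category.{w₁} B] [Abelian B] {A : Type u₂} [Category.{w₂} A] [Abelian A]
  (L : B ⥤ A) [L.Additive] [PreservesFiniteLimits L] [PreservesFiniteColimits L]
  [HasExt.{w} B] [HasExt.{w'} A]

theorem cmp_counit_unit {G : A ⥤ B} (adj : L ⊣ G) (P Y : B) (n : ℕ) (x : Ext.{w} P Y n) :
    Etbase.ExtCompare.cmp.{w, w'} L P (adj.counit.app (L.obj Y)) n
      (x.comp (Ext.mk₀ (adj.unit.app Y)) (add_zero n)) = x.mapExactFunctor L := by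
  simp only [Etbase.ExtCompare.cmp_apply, Ext.mapExactFunctor_comp,
    Ext.mapExactFunctor_mk₀, Ext.comp_assoc_of_third_deg_zero, Ext.mk₀_comp_mk₀,
    adj.left_triangle_components]
  exact Ext.comp_mk₀_id _

end Abstract

variable {X Y : Scheme.{u}}

/-- postcomposition -/
noncomputable abbrev HM {F G : EtCoh.Ab Y} (α : F ⟶ G) (n : ℕ) : EtCoh.H Y F n →+ EtCoh.H Y G n :=
  Groth.Agent.Sga4B.CurveCard.po (EtCoh.const Y ℤ) α n

theorem HM_comp {F G K : EtCoh.Ab Y} (α : F ⟶ G) (β : G ⟶ K) (n : ℕ) (x : EtCoh.H Y F n) :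
    HM (α ≫ β) n x = HM β n (HM α n x) := by
  change Ext.comp x (Ext.mk₀ (α ≫ β)) (add_zero n) =
    (Ext.comp x (Ext.mk₀ α) (add_zero n)).comp (Ext.mk₀ β) (add_zero n)
  rw [Ext.comp_assoc_of_third_deg_zero, Ext.mk₀_comp_mk₀]

theorem HM_id {F : EtCoh.Ab Y} (n : ℕ) (x : EtCoh.H Y F n) : HM (𝟙 F) n x = x :=
  Ext.comp_mk₀_id x

/-- isomorphisms -/
noncomputable def HMiso {F G : EtCoh.Ab Y} (e : F ≅ G) (n : ℕ) : EtCoh.H Y F n ≃+ EtCoh.H Y G n where
  toFun := HM e.hom n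
  invFun := HM e.inv n
  left_inv x := by rw [← HM_comp, e.hom_inv_id, HM_id]
  right_inv x := by rw [← HM_comp, e.inv_hom_id, HM_id]
  map_add' := map_add _

theorem HE_HM {F G F' G' : EtCoh.Ab Y} (α : F ⟶ G) (β : F' ⟶ G') (e : F ≅ F') (e' : G ≅ G')
    (h : α ≫ e'.hom = e.hom ≫ β) (n : ℕ) : HE (HM α n) (HM β n) := by
  refine ⟨HMiso e n, HMiso e' n, fun x => ?_⟩
  change HM β n (HM e.hom n x) = HM e'.hom n (HM α n x)
  rw [← HM_comp, ← HM_comp, h]

variable (f : X ⟶ Y) [PreservesFiniteLimits (EtCoh.pull f)]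

/-- `Hpull` is natural in the sheaf. -/
theorem HE_Hpull {G G' : EtCoh.Ab Y} (e : G ≅ G') (n : ℕ) :
    HE (EtCore.Hpull f G n) (EtCore.Hpull f G' n) := by
  refine ⟨HMiso e n, HMiso ((EtCoh.pull f).mapIso e) n, fun x => ?_⟩
  exact Sga4B.ExtCmp.cmp_mk₀ (EtCoh.pull f) (EtCore.pullConst f ℤ).inv e.hom x

/-- For `f_*`-acyclic pullback, `Hpull` is the map given by the unit. -/
theorem HE_Hpull_unit (G : EtCoh.Ab Y)
    (h1 : ∀ q : ℕ, 0 < q → IsZero ((EtCoh.Rpush f q).obj ((EtCoh.pull f).obj G))) (n : ℕ) :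
    HE (EtCore.Hpull f G n) (HM ((EtCoh.pullPushAdj f).unit.app G) n) := by
  have hb := Etrest.HpullAcyc.cmp_counit_bijective (EtCoh.pull f) (EtCoh.pullPushAdj f)
    (EtCoh.const Y ℤ) n ((EtCoh.pull f).obj G) h1
  refine HE.symm ⟨AddEquiv.refl _, (AddEquiv.ofBijective _ hb).trans
      (Sga4B.HTools.extPrecomp (EtCore.pullConst f ℤ).symm ((EtCoh.pull f).obj G) n), fun x => ?_⟩
  exact congrArg (fun z : Ext ((EtCoh.pull f).obj (EtCoh.const Y ℤ)) ((EtCoh.pull f).obj G) n =>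
    (Ext.mk₀ (EtCore.pullConst f ℤ).inv).comp z (zero_add n))
    (cmp_counit_unit (EtCoh.pull f) (EtCoh.pullPushAdj f) (EtCoh.const Y ℤ) G n x).symm

open Groth.Agent.Sga4B.ConstLC in
/-- For finite morphisms and constant sheaves. -/
theorem HE_Hpull_const [IsFinite f] (M : Type) [AddCommGroup M] (n : ℕ) :
    HE (EtCore.Hpull f (EtCoh.const Y M) n) (HM (LCres f (ULift.{u + 1} M)) n) := by
  refine (HE_Hpull f (constIso Y M) n).trans ((HE_Hpull_unit f (LC Y (ULift.{u + 1} M))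
    (fun q hq => Groth.Agent.S0071.result f _ q hq) n).trans ?_)
  refine HE_HM _ _ (Iso.refl _) ((EtCoh.push f).mapIso (asIso (LCpull f (ULift.{u + 1} M)))) ?_ n
  rw [Iso.refl_hom, Category.id_comp]
  exact unit_LCpull f (ULift.{u + 1} M)

end K301.HpullFac
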