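import Groth.Agent.EtCore.K301.JoinLoc
import Mathlib.RingTheory.Henselian
import Mathlib.FieldTheory.IsSepClosed
import Mathlib.RingTheory.LocalRing.ResidueField.Basic
import Mathlib.RingTheory.Polynomial.Resultant.Basic

/-!
# A criterion for a subalgebra of `loc q` to be strictly henselian
-/

set_option autoImplicit false
universe u

open Polynomial IsLocalRing

namespace K301.Join

theorem isCoprime_of_map {R K : Type*} [CommRing R] [CommRing K] [Nontrivial K] (φ : R →+* K) [IsLocalHom φ]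
    {f g : R[X]} (hf : f.Monic) (h : IsCoprime (f.map φ) (g.map φ)) : IsCoprime f g := by
  rw [← isUnit_resultant_iff_isCoprime (hf.map φ)] at h
  rw [← isUnit_resultant_iff_isCoprime hf]
  refine isUnit_of_map_unit φ _ ?_
  rw [← resultant_map_map]
  have h1 : (g.map φ).natDegree ≤ g.natDegree := natDegree_map_le
  obtain ⟨k, hk⟩ := Nat.exists_eq_add_of_le h1
  have h2 := resultant_add_right_deg (f.map φ) (g.map φ) (f.map φ).natDegree (g.map φ).natDegree k le_rfl
  rw [← hk] at h2
  have h3 : (f.map φ).natDegree = f.natDegree := hf.natDegree_map φ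
  rw [(hf.map φ).coeff_natDegree, one_pow, one_mul] at h2
  rw [h3] at h2 h
  rw [h2]
  exact h

/-- A monic polynomial with separable reduction is separable. -/
theorem exists_separable {R K : Type*} [CommRing R] [Field K] (φ : R →+* K) [IsLocalHom φ]
    {f : R[X]} (hf : f.Monic) (h : (f.map φ).Separable) : ∃ u v : R[X], u * f + v * derivative f = 1 := by
  have h1 : IsCoprime (f.map φ) ((derivative f).map φ) := by
    rw [← derivative_map]
    exact h
  exact isCoprime_of_map φ hf h1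

variable {P Ω : Type u} [CommRing P] [Field Ω] [Algebra P Ω]

section

variable {q : Ideal (integralClosure P Ω)} [q.IsPrime] (O : Subalgebra P Ω) (hO : O ≤ loc q)
  (hinv : ∀ x ∈ O, ¬ IsMx q x → x⁻¹ ∈ O)

include hO hinv

theorem isUnit_iff_not_isMx (x : O) : IsUnit x ↔ ¬ IsMx q (x : Ω) := by
  constructor
  · rintro hu h
    obtain ⟨y, hy⟩ := hu.exists_right_inv
    exact h.mul_ne_one (hO y.2) (congrArg Subtype.val hy)
  · intro h
    exact IsUnit.of_mul_eq_one ⟨_, hinv _ x.2 h⟩ (Subtype.ext (mul_inv_cancel₀ (ne_zero_of_not_isMx h)))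

theorem isLocalRing_of : ∃ _ : IsLocalRing O, ∀ x : O, x ∈ maximalIdeal O ↔ IsMx q (x : Ω) := by
  have h : IsLocalRing O := by
    refine IsLocalRing.of_nonunits_add fun a b ha hb => ?_
    rw [mem_nonunits_iff, isUnit_iff_not_isMx O hO hinv, not_not] at ha hb ⊢
    exact ha.add hb
  exact ⟨h, fun x => by rw [mem_maximalIdeal, mem_nonunits_iff, isUnit_iff_not_isMx O hO hinv, not_not]⟩

theorem strictlyHenselian_of
    (h1 : ∀ f : Polynomial Ω, f.Monic → (∀ n, f.coeff n ∈ O) → ∀ a₀ ∈ O, IsMx q (f.eval a₀) →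
      ¬ IsMx q (f.derivative.eval a₀) → ∃ a ∈ O, f.eval a = 0 ∧ IsMx q (a - a₀))
    (h2 : ∀ f u v : Polynomial Ω, f.Monic → 0 < f.natDegree → (∀ n, f.coeff n ∈ O) → (∀ n, u.coeff n ∈ O) →
      (∀ n, v.coeff n ∈ O) → u * f + v * f.derivative = 1 → ∃ a ∈ O, f.eval a = 0) :
    ∃ _ : HenselianLocalRing O, IsSepClosed (ResidueField O) ∧
      ∀ x : O, x ∈ maximalIdeal O ↔ IsMx q (x : Ω) := by
  obtain ⟨hloc, hmx⟩ := isLocalRing_of O hO hinv
  have hinj : Function.Injective (algebraMap O Ω) := Subtype.val_injective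
  have hev : ∀ (f : O[X]) (a : O), (f.map (algebraMap O Ω)).eval (a : Ω) = ((f.eval a : O) : Ω) :=
    fun f a => eval_map_apply (algebraMap O Ω) a
  have hcoeff : ∀ (f : O[X]) (n : ℕ), (f.map (algebraMap O Ω)).coeff n ∈ O := by
    intro f n
    rw [coeff_map]
    exact (f.coeff n).2
  have hH : HenselianLocalRing O := by
    constructor
    intro f hf a₀ h0 hd
    have h3 : IsMx q ((f.map (algebraMap O Ω)).eval (a₀ : Ω)) := by
      rw [hev, ← hmx]
      exact h0
    have h4 : ¬ IsMx q ((f.map (algebraMap O Ω)).derivative.eval (a₀ : Ω)) := by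
      rw [derivative_map, hev, ← isUnit_iff_not_isMx O hO hinv]
      exact hd
    obtain ⟨a, ha, h5, h6⟩ := h1 _ (hf.map _) (hcoeff f) a₀ a₀.2 h3 h4
    refine ⟨⟨a, ha⟩, ?_, ?_⟩
    · apply hinj
      rw [map_zero]
      exact (hev f ⟨a, ha⟩).symm.trans h5
    · rw [hmx]
      exact h6
  refine ⟨hH, ?_, hmx⟩
  refine IsSepClosed.of_exists_root _ fun p hp hirr hsep => ?_
  have hl : p ∈ lifts (residue O) := by
    rw [lifts_iff_coeff_lifts]
    exact fun n => residue_surjective _
  obtain ⟨f, hfp, hdeg, hf⟩ := lifts_and_natDegree_eq_and_monic hl hp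
  obtain ⟨u, v, huv⟩ := exists_separable (residue O) hf (by rwa [hfp])
  obtain ⟨a, ha, h0⟩ := h2 (f.map (algebraMap O Ω)) (u.map (algebraMap O Ω)) (v.map (algebraMap O Ω)) (hf.map _)
    (by rw [hf.natDegree_map, hdeg]; exact hirr.natDegree_pos) (hcoeff f) (hcoeff u) (hcoeff v) (by
      rw [derivative_map, ← Polynomial.map_mul, ← Polynomial.map_mul, ← Polynomial.map_add, huv, Polynomial.map_one])
  have h3 : f.eval ⟨a, ha⟩ = 0 := by
    apply hinj
    rw [map_zero]
    exact (hev f ⟨a, ha⟩).symm.trans h0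
  refine ⟨residue O ⟨a, ha⟩, ?_⟩
  rw [← hfp, eval_map_apply, h3, map_zero]

end

end K301.Join
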