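import Groth.Prelude.Def_EtBase
import Mathlib.RingTheory.Etale.Basic
import Mathlib.RingTheory.Spectrum.Prime.Basic
import Mathlib.RingTheory.TensorProduct.Basic
import Mathlib.RingTheory.Henselian
import Mathlib.FieldTheory.IsSepClosed
import Mathlib.RingTheory.LocalRing.ResidueField.Basic

/-!
# Refining étale coverings of a product of two pointed étale objects

Definitions used for `S19999` (Artin's theorem on joins of Hensel rings).
-/

set_option autoImplicit false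
universe u
open CategoryTheory CategoryTheory.Limits AlgebraicGeometry Opposite
open scoped TensorProduct

namespace K301.JoinDefs

/-- Étale coverings of a product of two pointed étale objects are refined by products of étale neighbourhoods. -/
def AL2 (X : Scheme.{u}) : Prop :=
  ∀ (U₁ U₂ : X.Etale) (u₁ : U₁.left) (u₂ : U₂.left) (W : X.Etale) (w : W ⟶ U₁ ⨯ U₂),
    Function.Surjective w.left.base →
    ∃ (V₁ V₂ : X.Etale) (g₁ : V₁ ⟶ U₁) (g₂ : V₂ ⟶ U₂),
      (∃ v : V₁.left, g₁.left v = u₁) ∧ (∃ v : V₂.left, g₂.left v = u₂) ∧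
      ∃ h : V₁ ⨯ V₂ ⟶ W, h ≫ w = prod.map g₁ g₂

/-- The same for rings: `E₁`, `E₂` étale over `A` with primes `p₁`, `p₂`, and `D` étale over `E₁ ⊗ E₂` with surjective
spectrum. -/
def AL2R (A : Type u) [CommRing A] : Prop :=
  ∀ (E₁ E₂ : Type u) [CommRing E₁] [CommRing E₂] [Algebra A E₁] [Algebra A E₂]
    [Algebra.Etale A E₁] [Algebra.Etale A E₂] (p₁ : Ideal E₁) (p₂ : Ideal E₂) [p₁.IsPrime] [p₂.IsPrime]
    (D : Type u) [CommRing D] [Algebra (E₁ ⊗[A] E₂) D] [Algebra.Etale (E₁ ⊗[A] E₂) D],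
    Function.Surjective (PrimeSpectrum.comap (algebraMap (E₁ ⊗[A] E₂) D)) →
    ∃ (F₁ F₂ : Type u) (_ : CommRing F₁) (_ : CommRing F₂) (_ : Algebra A F₁) (_ : Algebra A F₂)
      (_ : Algebra.Etale A F₁) (_ : Algebra.Etale A F₂) (φ₁ : E₁ →ₐ[A] F₁) (φ₂ : E₂ →ₐ[A] F₂),
      (∃ P₁ : Ideal F₁, P₁.IsPrime ∧ P₁.comap φ₁ = p₁) ∧ (∃ P₂ : Ideal F₂, P₂.IsPrime ∧ P₂.comap φ₂ = p₂) ∧
      ∃ ψ : D →+* F₁ ⊗[A] F₂,
        ψ.comp (algebraMap (E₁ ⊗[A] E₂) D) = (Algebra.TensorProduct.map φ₁ φ₂ : E₁ ⊗[A] E₂ →+* F₁ ⊗[A] F₂)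

/-- Strictly henselian local ring. -/
def SH (R : Type u) [CommRing R] : Prop :=
  ∃ _ : HenselianLocalRing R, IsSepClosed (IsLocalRing.ResidueField R)

/-- A family `𝓡` of strict henselizations of `P` inside `Ω`. -/
structure Fam (P Ω : Type u) [CommRing P] [Field Ω] [Algebra P Ω] where
  /-- the family -/
  carrier : Set (Subalgebra P Ω)
  /-- every member is the union of the étale `P`-subalgebras in it, and these are directed -/
  exists_etale : ∀ R ∈ carrier, ∀ x ∈ R, ∃ B : Subalgebra P Ω, Algebra.Etale P B ∧ B ≤ R ∧ x ∈ B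
  etale_sup : ∀ B B' : Subalgebra P Ω, Algebra.Etale P B → Algebra.Etale P B' →
    Algebra.Etale P (B ⊔ B' : Subalgebra P Ω)
  /-- every prime of `P` has a strict henselization in the family -/
  exists_prime : ∀ p : Ideal P, p.IsPrime → ∃ R ∈ carrier, ∃ _ : HenselianLocalRing R,
    IsSepClosed (IsLocalRing.ResidueField R) ∧ (IsLocalRing.maximalIdeal R).comap (algebraMap P R) = p
  /-- stable under automorphisms -/
  map_mem : ∀ R ∈ carrier, ∀ τ : Ω ≃ₐ[P] Ω, R.map (τ : Ω →ₐ[P] Ω) ∈ carrier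
  /-- Artin's theorem -/
  sup_SH : ∀ R ∈ carrier, ∀ R' ∈ carrier, SH (R ⊔ R' : Subalgebra P Ω)

end K301.JoinDefs
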