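import Groth.Agent.Etcore.NormalEtale
import Mathlib.RingTheory.Etale.StandardEtale
import Mathlib.RingTheory.Algebraic.Integral
import Mathlib.FieldTheory.IsAlgClosed.Basic

/-!
# Étale subalgebras of a field over a normal domain

`P` an integrally closed domain inside the field `Ω`:

* `etale_range`: the image of an étale `P`-algebra in `Ω` is étale over `P`;
* `etale_sup`: the join of two étale subalgebras is étale;
* `exists_root`, `exists_inv`: adjoining simple roots of monic polynomials, inverses;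
* `hs S`: the union of the étale subalgebras contained in `S`, with `root_mem_hs`, `inv_mem_hs`.
-/

set_option autoImplicit false
universe u

open Polynomial TensorProduct

namespace K301.Join

/-- Elements of an étale algebra over a domain are algebraic. -/
theorem isAlgebraic_of_etale (R C : Type u) [CommRing R] [IsDomain R] [CommRing C] [Algebra R C]
    [Algebra.Etale R C] (c : C) : IsAlgebraic R c := by
  let K := FractionRing R
  have hfin : Module.Finite K (K ⊗[R] C) := Algebra.FormallyUnramified.finite_of_free K _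
  have h1 : IsAlgebraic K ((1 : K) ⊗ₜ[R] c) := Algebra.IsAlgebraic.isAlgebraic _
  have h2 : IsAlgebraic R ((1 : K) ⊗ₜ[R] c) :=
    (IsFractionRing.isAlgebraic_iff R K (K ⊗[R] C)).mpr h1
  have hinj : Function.Injective (Algebra.TensorProduct.includeRight : C →ₐ[R] K ⊗[R] C) :=
    Algebra.TensorProduct.includeRight_injective (IsFractionRing.injective R K)
  exact (isAlgebraic_algHom_iff _ hinj).mp h2

variable {P Ω : Type u} [CommRing P] [IsDomain P] [IsIntegrallyClosed P] [Field Ω] [Algebra P Ω]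
  [FaithfulSMul P Ω]

/-- The image of an étale algebra is étale. -/
theorem etale_range {C : Type u} [CommRing C] [Algebra P C] [Algebra.Etale P C] (φ : C →ₐ[P] Ω) :
    Algebra.Etale P φ.range := by
  have hp : (RingHom.ker φ.toRingHom).IsPrime := RingHom.ker_isPrime φ.toRingHom
  obtain ⟨e, he, hep, hdom, -⟩ := Groth.Agent.Etcore.NormalEtale.exists_idempotent_notMem P C
    (RingHom.ker φ.toRingHom)
  have hφe : φ e ≠ 0 := hep
  have hu : ∀ y : Submonoid.powers e, IsUnit (φ y) := by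
    rintro ⟨y, n, rfl⟩
    rw [map_pow]
    exact (isUnit_iff_ne_zero.2 hφe).pow n
  let ψ : Localization.Away e →ₐ[P] Ω := IsLocalization.liftAlgHom (M := Submonoid.powers e) (f := φ) hu
  have hψ : ∀ c : C, ψ (algebraMap C _ c) = φ c := fun c => IsLocalization.lift_eq _ c
  have hinj : Function.Injective ψ := by
    rw [injective_iff_map_eq_zero]
    intro c hc
    by_contra hne
    obtain ⟨r, hr, d, hd⟩ :=
      (isAlgebraic_of_etale P _ c).exists_nonzero_dvd (mem_nonZeroDivisors_of_ne_zero hne)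
    have h1 : ψ (algebraMap P _ r) = 0 := by rw [hd, map_mul, hc, zero_mul]
    rw [ψ.commutes] at h1
    exact hr ((FaithfulSMul.algebraMap_eq_zero_iff P Ω).1 h1)
  have hu1 : algebraMap C (Localization.Away e) e = 1 := by
    have h1 : IsUnit (algebraMap C (Localization.Away e) e) := IsLocalization.Away.algebraMap_isUnit e
    have h2 : algebraMap C (Localization.Away e) e * algebraMap C (Localization.Away e) e =
        algebraMap C (Localization.Away e) e * 1 := by rw [← map_mul, he.eq, mul_one]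
    exact h1.mul_left_cancel h2
  have hr : ψ.range = φ.range := by
    ext x
    constructor
    · rintro ⟨c, rfl⟩
      obtain ⟨n, a, hna⟩ := IsLocalization.Away.surj e c
      rw [hu1, one_pow, mul_one] at hna
      exact ⟨a, by
        change φ a = ψ c
        rw [hna, hψ]⟩
    · rintro ⟨c, rfl⟩
      exact ⟨algebraMap C _ c, hψ c⟩
  rw [← hr]
  exact Algebra.Etale.of_equiv (AlgEquiv.ofInjective ψ hinj)

theorem etale_bot : Algebra.Etale P (⊥ : Subalgebra P Ω) := by
  have := etale_range (Algebra.ofId P Ω)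
  have h : (Algebra.ofId P Ω).range = ⊥ := rfl
  rwa [h] at this

theorem etale_sup (B B' : Subalgebra P Ω) (h : Algebra.Etale P B) (h' : Algebra.Etale P B') :
    Algebra.Etale P (B ⊔ B' : Subalgebra P Ω) := by
  have : Algebra.Etale P (B ⊗[P] B') := Algebra.Etale.comp P B _
  have := etale_range (Algebra.TensorProduct.productMap B.val B'.val)
  rwa [Algebra.TensorProduct.productMap_range, B.range_val, B'.range_val] at this

theorem exists_of_etale (S B : Subalgebra P Ω) (hB : Algebra.Etale P B) {C : Type u} [CommRing C]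
    [Algebra B C] [Algebra.Etale B C] (φ : C →+* Ω) (hφ : ∀ b : B, φ (algebraMap B C b) = b) (hS : ∀ c, φ c ∈ S) :
    ∃ B' : Subalgebra P Ω, Algebra.Etale P B' ∧ B ≤ B' ∧ B' ≤ S ∧ ∀ c, φ c ∈ B' := by
  letI : Algebra P C := ((algebraMap B C).comp (algebraMap P B)).toAlgebra
  haveI : IsScalarTower P B C := IsScalarTower.of_algebraMap_eq fun _ => rfl
  haveI : Algebra.Etale P C := Algebra.Etale.comp P B C
  have hc : ∀ r, φ (algebraMap P C r) = algebraMap P Ω r := by
    intro r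
    change φ (algebraMap B C (algebraMap P B r)) = _
    rw [hφ]
    rfl
  let ψ : C →ₐ[P] Ω := { φ with commutes' := hc }
  refine ⟨ψ.range, etale_range ψ, fun b hb => ⟨algebraMap B C ⟨b, hb⟩, hφ _⟩, ?_, fun c => ⟨c, rfl⟩⟩
  rintro _ ⟨c, rfl⟩
  exact hS c

/-- Adjoining a simple root. -/
theorem exists_root (S B : Subalgebra P Ω) (hB : Algebra.Etale P B) (hBS : B ≤ S) (f : B[X]) (hf : f.Monic)
    (α : Ω) (hα : α ∈ S) (h0 : aeval α f = 0) (h1 : aeval α (derivative f) ≠ 0)
    (h2 : (aeval α (derivative f))⁻¹ ∈ S) :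
    ∃ B' : Subalgebra P Ω, Algebra.Etale P B' ∧ B ≤ B' ∧ B' ≤ S ∧ α ∈ B' := by
  let p : StandardEtalePair B := ⟨f, hf, derivative f, 1, 0, 1, by simp⟩
  letI : Algebra B S := (Subalgebra.inclusion hBS).toRingHom.toAlgebra
  have hval : ∀ (g : B[X]) (x : S), ((aeval x g : S) : Ω) = aeval (x : Ω) g := by
    intro g x
    exact hom_eval₂ g (algebraMap B S) S.val.toRingHom x
  have hm : p.HasMap (⟨α, hα⟩ : S) := by
    refine ⟨Subtype.ext ?_, ?_⟩
    · rw [hval]
      exact h0
    · refine IsUnit.of_mul_eq_one ⟨_, h2⟩ (Subtype.ext ?_)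
      change ((aeval (⟨α, hα⟩ : S) (derivative f) : S) : Ω) * _ = 1
      rw [hval]
      exact mul_inv_cancel₀ h1
  obtain ⟨B', h1, h2, h3, h4⟩ := exists_of_etale S B hB (C := p.Ring) (S.val.toRingHom.comp (p.lift _ hm).toRingHom)
    (fun b => by
      change (((p.lift _ hm) (algebraMap B _ b) : S) : Ω) = b
      rw [AlgHom.commutes]
      rfl) (fun c => (p.lift _ hm c).2)
  refine ⟨B', h1, h2, h3, ?_⟩
  have := h4 p.X
  change (((p.lift _ hm) p.X : S) : Ω) ∈ B' at this
  rwa [StandardEtalePair.lift_X] at this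

/-- Adjoining an inverse. -/
theorem exists_inv (S B : Subalgebra P Ω) (hB : Algebra.Etale P B) (hBS : B ≤ S)
    (s : Ω) (hs : s ∈ B) (h0 : s ≠ 0) (h2 : s⁻¹ ∈ S) :
    ∃ B' : Subalgebra P Ω, Algebra.Etale P B' ∧ B ≤ B' ∧ B' ≤ S ∧ s⁻¹ ∈ B' := by
  let C := Localization.Away (⟨s, hs⟩ : B)
  have hu : IsUnit ((Subalgebra.inclusion hBS).toRingHom (⟨s, hs⟩ : B)) := by
    refine IsUnit.of_mul_eq_one ⟨_, h2⟩ (Subtype.ext ?_)
    exact mul_inv_cancel₀ h0
  let ψ : C →+* S := IsLocalization.Away.lift (⟨s, hs⟩ : B) hu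
  have hψ : ∀ b, ψ (algebraMap B C b) = Subalgebra.inclusion hBS b := fun b => IsLocalization.Away.lift_eq _ hu b
  have : Algebra.Etale B C := Algebra.Etale.of_isLocalizationAway (⟨s, hs⟩ : B)
  obtain ⟨B', h1, h2', h3, h4⟩ := exists_of_etale S B hB (C := C) (S.val.toRingHom.comp ψ)
    (fun b => by
      change ((ψ (algebraMap B C b) : S) : Ω) = b
      rw [hψ]
      rfl) (fun c => (ψ c).2)
  refine ⟨B', h1, h2', h3, ?_⟩
  have h5 := h4 (IsLocalization.Away.invSelf (⟨s, hs⟩ : B))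
  have h6 : (S.val.toRingHom.comp ψ) (IsLocalization.Away.invSelf (⟨s, hs⟩ : B)) = s⁻¹ := by
    refine eq_inv_of_mul_eq_one_right ?_
    have h7 := congrArg (S.val.toRingHom.comp ψ) (IsLocalization.Away.mul_invSelf (S := C) (⟨s, hs⟩ : B))
    rw [map_mul, map_one] at h7
    have h8 : (S.val.toRingHom.comp ψ) (algebraMap B C ⟨s, hs⟩) = s := by
      change ((ψ (algebraMap B C _) : S) : Ω) = _
      rw [hψ]
      rfl
    rwa [h8] at h7
  rwa [h6] at h5

/-- The union of the étale subalgebras of `S`. -/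
def hs (S : Subalgebra P Ω) : Subalgebra P Ω where
  carrier := {x | ∃ B : Subalgebra P Ω, Algebra.Etale P B ∧ B ≤ S ∧ x ∈ B}
  mul_mem' := by
    rintro x y ⟨B, hB, h1, h2⟩ ⟨B', hB', h1', h2'⟩
    exact ⟨B ⊔ B', etale_sup B B' hB hB', sup_le h1 h1',
      mul_mem ((le_sup_left : B ≤ B ⊔ B') h2) ((le_sup_right : B' ≤ B ⊔ B') h2')⟩
  add_mem' := by
    rintro x y ⟨B, hB, h1, h2⟩ ⟨B', hB', h1', h2'⟩
    exact ⟨B ⊔ B', etale_sup B B' hB hB', sup_le h1 h1',
      add_mem ((le_sup_left : B ≤ B ⊔ B') h2) ((le_sup_right : B' ≤ B ⊔ B') h2')⟩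
  algebraMap_mem' r := ⟨⊥, etale_bot, bot_le, algebraMap_mem _ r⟩

lemma mem_hs_iff {S : Subalgebra P Ω} {x : Ω} :
    x ∈ hs S ↔ ∃ B : Subalgebra P Ω, Algebra.Etale P B ∧ B ≤ S ∧ x ∈ B := Iff.rfl

lemma hs_le (S : Subalgebra P Ω) : hs S ≤ S := by
  rintro x ⟨B, -, h, hx⟩
  exact h hx

lemma le_hs {S B : Subalgebra P Ω} (hB : Algebra.Etale P B) (h : B ≤ S) : B ≤ hs S := fun _ hx => ⟨B, hB, h, hx⟩

/-- Finitely many elements of `hs S` lie in one étale subalgebra, which may be taken large. -/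
theorem exists_of_finite {S B₀ : Subalgebra P Ω} (hB₀ : Algebra.Etale P B₀) (h₀ : B₀ ≤ S) (Z : Set Ω) (hZ : Z.Finite)
    (h : ∀ z ∈ Z, z ∈ hs S) : ∃ B : Subalgebra P Ω, Algebra.Etale P B ∧ B₀ ≤ B ∧ B ≤ S ∧ Z ⊆ B := by
  induction Z, hZ using Set.Finite.induction_on with
  | empty => exact ⟨B₀, hB₀, le_rfl, h₀, Set.empty_subset _⟩
  | @insert a Z ha hZ ih =>
    obtain ⟨B, hB, h1, h2, h3⟩ := ih fun z hz => h z (Set.mem_insert_of_mem _ hz)
    obtain ⟨B', hB', h1', h2'⟩ := h a (Set.mem_insert _ _)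
    refine ⟨B ⊔ B', etale_sup B B' hB hB', h1.trans le_sup_left, sup_le h2 h1', ?_⟩
    rw [Set.insert_subset_iff]
    exact ⟨(le_sup_right : B' ≤ B ⊔ B') h2', fun z hz => (le_sup_left : B ≤ B ⊔ B') (h3 hz)⟩

omit [IsDomain P] [IsIntegrallyClosed P] [FaithfulSMul P Ω] in
/-- A polynomial with coefficients in a subalgebra comes from it. -/
theorem exists_poly {B : Subalgebra P Ω} (f : Polynomial Ω) (hf : ∀ n, f.coeff n ∈ B) :
    ∃ g : B[X], g.map (algebraMap B Ω) = f ∧ (f.Monic → g.Monic) ∧ g.natDegree = f.natDegree := by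
  have hl : f ∈ lifts (algebraMap B Ω) := by
    rw [lifts_iff_coeff_lifts]
    exact fun n => ⟨⟨_, hf n⟩, rfl⟩
  obtain ⟨g, rfl⟩ := (mem_lifts f).1 hl
  have hinj : Function.Injective (algebraMap B Ω) := Subtype.val_injective
  exact ⟨g, rfl, fun h => monic_of_injective hinj h, (natDegree_map_eq_of_injective hinj g).symm⟩

/-- A simple root in `S` of a monic polynomial over `hs S` is in `hs S`. -/
theorem root_mem_hs {S : Subalgebra P Ω} (f : Polynomial Ω) (hf : f.Monic) (hc : ∀ n, f.coeff n ∈ hs S) {α : Ω} (hα : α ∈ S)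
    (h0 : f.eval α = 0) (h1 : f.derivative.eval α ≠ 0) (h2 : (f.derivative.eval α)⁻¹ ∈ S) : α ∈ hs S := by
  obtain ⟨B, hB, -, hBS, hZ⟩ := exists_of_finite (S := S) etale_bot bot_le (Set.range fun n : Finset.range (f.natDegree + 1) =>
    f.coeff n) (Set.finite_range _) (by
      rintro _ ⟨n, rfl⟩
      exact hc _)
  have hcB : ∀ n, f.coeff n ∈ B := by
    intro n
    by_cases hn : n ≤ f.natDegree
    · exact hZ ⟨⟨n, Finset.mem_range.2 (Nat.lt_succ_of_le hn)⟩, rfl⟩
    · rw [coeff_eq_zero_of_natDegree_lt (not_le.1 hn)]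
      exact B.zero_mem
  obtain ⟨g, hg, hgm, -⟩ := exists_poly f hcB
  have h3 : aeval α g = 0 := by
    rw [← eval_map_algebraMap, hg, h0]
  have h4 : aeval α (derivative g) = f.derivative.eval α := by
    rw [← eval_map_algebraMap, ← derivative_map, hg]
  obtain ⟨B', hB', -, h5, h6⟩ := exists_root S B hB hBS g (hgm hf) α hα h3 (by rwa [h4]) (by rwa [h4])
  exact ⟨B', hB', h5, h6⟩

theorem inv_mem_hs {S : Subalgebra P Ω} {x : Ω} (hx : x ∈ hs S) (h : x⁻¹ ∈ S) : x⁻¹ ∈ hs S := by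
  by_cases h0 : x = 0
  · rwa [h0, inv_zero, ← h0]
  obtain ⟨B, hB, h1, h2⟩ := hx
  obtain ⟨B', hB', -, h5, h6⟩ := exists_inv S B hB h1 x h2 h0 h
  exact ⟨B', hB', h5, h6⟩

end K301.Join
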