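import Groth.Agent.EtCore.K301.JoinMain
import Mathlib.RingTheory.Ideal.GoingUp

/-!
# The family of strict henselizations of a normal domain inside an algebraic closure
-/

set_option autoImplicit false
universe u

open Polynomial IsLocalRing

namespace K301.Join

open K301.JoinDefs

variable {P Ω : Type u} [CommRing P] [IsDomain P] [IsIntegrallyClosed P] [Field Ω] [Algebra P Ω] [FaithfulSMul P Ω]

theorem map_le_of (q q' : Ideal (integralClosure P Ω)) [q.IsPrime] [q'.IsPrime] (τ : Ω ≃ₐ[P] Ω)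
    (h : ∀ s : integralClosure P Ω, s ∉ q → τ.mapIntegralClosure s ∉ q') {x : Ω} (hx : x ∈ hs (loc q)) :
    τ x ∈ hs (loc q') := by
  obtain ⟨B, hB, hBq, hxB⟩ := hx
  have hinj : Function.Injective (τ : Ω →ₐ[P] Ω) := τ.injective
  refine ⟨B.map (τ : Ω →ₐ[P] Ω), Algebra.Etale.of_equiv (B.equivMapOfInjective (τ : Ω →ₐ[P] Ω) hinj), ?_,
    ⟨x, hxB, rfl⟩⟩
  rintro _ ⟨y, hy, rfl⟩
  obtain ⟨a, s, hs, h1⟩ := hBq hy
  refine ⟨τ.mapIntegralClosure a, τ.mapIntegralClosure s, h s hs, ?_⟩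
  change τ s * τ y = τ a
  rw [← map_mul, h1]

variable [IsAlgClosed Ω] [CharZero Ω] [Algebra.IsAlgebraic P Ω]

/-- The family. -/
def fam (P Ω : Type u) [CommRing P] [IsDomain P] [IsIntegrallyClosed P] [Field Ω] [Algebra P Ω] [FaithfulSMul P Ω]
    [IsAlgClosed Ω] [CharZero Ω] [Algebra.IsAlgebraic P Ω] : Fam P Ω where
  carrier := {R | ∃ (q : Ideal (integralClosure P Ω)) (_ : q.IsPrime), R = hs (loc q)}
  exists_etale := by
    rintro _ ⟨q, hq, rfl⟩ x ⟨B, hB, h1, h2⟩
    exact ⟨B, hB, le_hs hB h1, h2⟩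
  etale_sup := fun B B' h h' => etale_sup B B' h h'
  exists_prime := by
    intro p hp
    obtain ⟨q, hq, hqp⟩ := Ideal.exists_ideal_over_prime_of_isIntegral_of_isDomain (S := integralClosure P Ω) p (by
      have hinj : Function.Injective (algebraMap P (integralClosure P Ω)) := by
        have h1 : Function.Injective (algebraMap P Ω) := FaithfulSMul.algebraMap_injective P Ω
        rw [IsScalarTower.algebraMap_eq P (integralClosure P Ω) Ω, RingHom.coe_comp] at h1
        exact Function.Injective.of_comp h1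
      rw [(RingHom.injective_iff_ker_eq_bot _).1 hinj]
      exact bot_le)
    obtain ⟨hH, hsep, hmx⟩ := hs_strictlyHenselian q
    refine ⟨hs (loc q), ⟨q, hq, rfl⟩, hH, hsep, ?_⟩
    ext r
    rw [Ideal.mem_comap, hmx, ← hqp, Ideal.mem_comap, ← isMx_int_iff]
    rfl
  map_mem := by
    rintro _ ⟨q, hq, rfl⟩ τ
    let q' : Ideal (integralClosure P Ω) := q.comap τ.symm.mapIntegralClosure
    have hq' : q'.IsPrime := Ideal.comap_isPrime _ _
    refine ⟨q', hq', le_antisymm ?_ ?_⟩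
    · rintro _ ⟨x, hx, rfl⟩
      refine map_le_of q q' τ (fun s hs h => hs ?_) hx
      rw [Ideal.mem_comap] at h
      have e : τ.symm.mapIntegralClosure (τ.mapIntegralClosure s) = s := Subtype.ext (τ.symm_apply_apply s)
      rwa [e] at h
    · intro x hx
      refine ⟨τ.symm x, ?_, τ.apply_symm_apply x⟩
      exact map_le_of q' q τ.symm (fun s hs h => hs h) hx
  sup_SH := by
    rintro _ ⟨q₁, hq₁, rfl⟩ _ ⟨q₂, hq₂, rfl⟩
    exact SH_jO q₁ q₂

end K301.Join
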