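import Groth.Agent.EtCore.K301.JoinFam
import Groth.Agent.EtCore.K357.JoinMain
import Groth.Agent.EtCore.K868.JoinB
import Mathlib.RingTheory.Polynomial.UniqueFactorization
import Mathlib.FieldTheory.IsAlgClosed.AlgebraicClosure

/-!
# Refinement of étale coverings of a product of two pointed étale objects
-/

set_option autoImplicit false
universe u
open CategoryTheory CategoryTheory.Limits AlgebraicGeometry Opposite
open K301.JoinDefs

namespace K301.JoinFin

/-- The ring statement, for every ring. -/
theorem al2R (A : Type u) [CommRing A] : AL2R A := by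
  let P := MvPolynomial A ℤ
  let K := FractionRing P
  let Ω := AlgebraicClosure K
  let _ : Algebra P A := (MvPolynomial.aeval (R := ℤ) (fun a : A => a)).toRingHom.toAlgebra
  have hA : Function.Surjective (algebraMap P A) := fun a => ⟨MvPolynomial.X a, MvPolynomial.aeval_X _ a⟩
  have : FaithfulSMul P Ω := by
    rw [faithfulSMul_iff_algebraMap_injective, IsScalarTower.algebraMap_eq P K Ω]
    exact (algebraMap K Ω).injective.comp (IsFractionRing.injective P K)
  have : Algebra.IsAlgebraic P Ω := (IsFractionRing.comap_isAlgebraic_iff (A := P) (K := K) (C := Ω)).2 inferInstance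
  have : CharZero P := inferInstance
  have : CharZero K := charZero_of_injective_algebraMap (IsFractionRing.injective P K)
  have : CharZero Ω := charZero_of_injective_algebraMap (algebraMap K Ω).injective
  exact K357.JoinMain.al2R_of_fam P Ω (K301.Join.fam P Ω) A hA

/-- The scheme statement. -/
theorem al2 (X : Scheme.{u})
    (hX : ∀ s : Set X, s.Finite → ∃ V : X.Opens, IsAffineOpen V ∧ s ⊆ (V : Set X)) : AL2 X :=
  K868.JoinB.al2_of_al2R X hX fun A _ => al2R A

end K301.JoinFin
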