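import Groth.Agent.EtCore.K301.JoinPrime
import Mathlib.FieldTheory.Galois.Infinite
import Mathlib.FieldTheory.Perfect

/-!
# Galois descent for the local rings `loc q`

`L` a subfield of `Ω`; `Stab L q`: the ring `loc q` is stable under `Gal(Ω/L)`.

* `stab_of`: this holds when `L` contains the strict henselization `hs (loc q)`;
* `stab_jn`: stability of the join;
* `exists_norm`: norms;
* `hensel_stab`: Hensel's lemma in `L ∩ loc q`.
-/

set_option autoImplicit false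
universe u

open Polynomial IsLocalRing

namespace K301.Join

variable {P Ω : Type u} [CommRing P] [Field Ω] [Algebra P Ω] 

lemma isIntegral_mono {S T : Subalgebra P Ω} (h : S ≤ T) {x : Ω} (hx : IsIntegral S x) : IsIntegral T x := by
  obtain ⟨f, hf, h0⟩ := hx
  refine ⟨f.map (Subalgebra.inclusion h).toRingHom, hf.map _, ?_⟩
  rw [eval₂_map]
  exact h0

lemma exists_binom (S : Subalgebra P Ω) (f : Polynomial Ω) (hf : ∀ n, f.coeff n ∈ S) {x y : Ω} (hx : x ∈ S)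
    (hy : y ∈ S) : ∃ k ∈ S, f.eval (x + y) = f.eval x + f.derivative.eval x * y + k * y ^ 2 := by
  have hl : f ∈ lifts (algebraMap S Ω) := by
    rw [lifts_iff_coeff_lifts]
    exact fun n => ⟨⟨_, hf n⟩, rfl⟩
  obtain ⟨g, rfl⟩ := (mem_lifts f).1 hl
  obtain ⟨k, hk⟩ := binomExpansion g (⟨x, hx⟩ : S) ⟨y, hy⟩
  refine ⟨k, k.2, ?_⟩
  have h1 : ∀ (g : Polynomial S) (z : S), (g.map (algebraMap S Ω)).eval (z : Ω) = ((g.eval z : S) : Ω) :=
    fun g z => eval_map_apply (algebraMap S Ω) z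
  rw [derivative_map, h1 _ ⟨x, hx⟩, h1 _ ⟨x, hx⟩]
  have h2 := congrArg Subtype.val hk
  have h3 := h1 g (⟨x, hx⟩ + ⟨y, hy⟩)
  exact h3.trans h2

section

variable {q : Ideal (integralClosure P Ω)} [q.IsPrime]

lemma isMx_iff {x : Ω} : IsMx q x ↔ x ∈ loc q ∧ (x = 0 ∨ x⁻¹ ∉ loc q) := by
  constructor
  · intro h
    refine ⟨h.mem_loc, ?_⟩
    by_cases h0 : x = 0
    · exact Or.inl h0
    · exact Or.inr fun h1 => not_isMx_of_inv_mem h0 h1 h
  · rintro ⟨h1, h2⟩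
    by_contra hn
    rcases h2 with rfl | h2
    · exact hn isMx_zero
    · exact h2 (inv_mem_of_not_isMx h1 hn)

/-- Stability under the Galois group. -/
def Stab (L : Subfield Ω) (q : Ideal (integralClosure P Ω)) [q.IsPrime] : Prop :=
  ∀ (σ : Ω ≃ₐ[L] Ω) (x : Ω), x ∈ loc q → σ x ∈ loc q

lemma Stab.isMx {L : Subfield Ω} (h : Stab L q) (σ : Ω ≃ₐ[L] Ω) {x : Ω} (hx : IsMx q x) : IsMx q (σ x) := by
  rw [isMx_iff] at hx ⊢
  refine ⟨h σ x hx.1, hx.2.imp (fun h0 => by rw [h0, map_zero]) fun h1 h2 => h1 ?_⟩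
  have := h σ.symm _ h2
  rwa [map_inv₀, AlgEquiv.symm_apply_apply] at this

lemma Stab.not_isMx {L : Subfield Ω} (h : Stab L q) (σ : Ω ≃ₐ[L] Ω) {x : Ω} (hx : ¬ IsMx q x) : ¬ IsMx q (σ x) := by
  intro h1
  apply hx
  have := h.isMx σ.symm h1
  rwa [AlgEquiv.symm_apply_apply] at this

lemma isIntegral_apply {L : Subfield Ω} (hL : ∀ r : P, algebraMap P Ω r ∈ L) (σ : Ω ≃ₐ[L] Ω) {x : Ω}
    (hx : IsIntegral P x) : IsIntegral P (σ x) := by
  have hc : ∀ r : P, σ (algebraMap P Ω r) = algebraMap P Ω r := fun r => σ.commutes ⟨_, hL r⟩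
  let σ' : Ω →ₐ[P] Ω := { (σ : Ω →+* Ω) with commutes' := hc }
  exact hx.map σ'

section

variable [IsDomain P] [IsIntegrallyClosed P] [FaithfulSMul P Ω] [IsAlgClosed Ω]

theorem stab_of {L : Subfield Ω} (hL : ∀ x ∈ hs (loc q), x ∈ L) : Stab L q := by
  intro σ x hx
  have hc : ∀ r : hs (loc q), σ (algebraMap _ Ω r) = algebraMap _ Ω r := fun r => σ.commutes ⟨_, hL r r.2⟩
  let σ' : Ω →ₐ[hs (loc q)] Ω := { (σ : Ω →+* Ω) with commutes' := hc }
  have h1 : IsIntegral (hs (loc q)) (σ x) := (isIntegral_hs q hx).map σ'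
  exact mem_loc_of_isIntegral_loc q (isIntegral_mono (hs_le _) h1)

end

theorem stab_jn [IsAlgClosed Ω] {L : Subfield Ω} (hL : ∀ r : P, algebraMap P Ω r ∈ L)
    {q₁ q₂ : Ideal (integralClosure P Ω)} [q₁.IsPrime] [q₂.IsPrime] (h₁ : Stab L q₁) (h₂ : Stab L q₂) :
    Stab L (jn q₁ q₂) := by
  intro σ x hx
  rw [mem_loc_jn_iff] at hx ⊢
  obtain ⟨a, s₁, s₂, h1, h2, h⟩ := hx
  refine ⟨⟨σ a, isIntegral_apply hL σ a.2⟩, ⟨σ s₁, isIntegral_apply hL σ s₁.2⟩, ⟨σ s₂, isIntegral_apply hL σ s₂.2⟩,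
    ?_, ?_, ?_⟩
  · rw [← isMx_int_iff]
    exact h₁.not_isMx σ (by rwa [isMx_int_iff])
  · rw [← isMx_int_iff]
    exact h₂.not_isMx σ (by rwa [isMx_int_iff])
  · change σ s₁ * σ s₂ * σ x = σ a
    rw [← h, map_mul, map_mul]

end

section

variable [FaithfulSMul P Ω] [Algebra.IsAlgebraic P Ω]

lemma isAlgebraic_subfield {L : Subfield Ω} (hL : ∀ r : P, algebraMap P Ω r ∈ L) : Algebra.IsAlgebraic L Ω := by
  let _ : Algebra P L := ((algebraMap P Ω).codRestrict L hL).toAlgebra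
  have : IsScalarTower P L Ω := IsScalarTower.of_algebraMap_eq fun _ => rfl
  have hinj : Function.Injective (algebraMap P L) := by
    have h1 : Function.Injective (algebraMap P Ω) := FaithfulSMul.algebraMap_injective P Ω
    rw [IsScalarTower.algebraMap_eq P L Ω, RingHom.coe_comp] at h1
    exact Function.Injective.of_comp h1
  exact ⟨fun x => (Algebra.IsAlgebraic.isAlgebraic (R := P) x).extendScalars hinj⟩

variable [IsAlgClosed Ω] [CharZero Ω]

theorem isGalois_of {L : Subfield Ω} (hL : ∀ r : P, algebraMap P Ω r ∈ L) : IsGalois L Ω := by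
  have := isAlgebraic_subfield (P := P) hL
  have : IsAlgClosure L Ω := ⟨inferInstance, inferInstance⟩
  have : CharZero L := inferInstance
  infer_instance

theorem mem_of_fixed {L : Subfield Ω} (hL : ∀ r : P, algebraMap P Ω r ∈ L) {x : Ω}
    (h : ∀ σ : Ω ≃ₐ[L] Ω, σ x = x) : x ∈ L := by
  have := isGalois_of (P := P) hL
  obtain ⟨y, rfl⟩ := (InfiniteGalois.mem_range_algebraMap_iff_fixed (k := L) (K := Ω) x).2 h
  exact y.2

/-- Norms to `L`. -/
theorem exists_norm {L : Subfield Ω} (hL : ∀ r : P, algebraMap P Ω r ∈ L) (s : integralClosure P Ω) :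
    ∃ c N : integralClosure P Ω, (N : Ω) ∈ L ∧ N = s * c ∧
      ∀ (q : Ideal (integralClosure P Ω)) [q.IsPrime], Stab L q → s ∉ q → N ∉ q := by
  classical
  have hG := isGalois_of (P := P) hL
  have halg := isAlgebraic_subfield (P := P) hL
  let m : Polynomial Ω := (minpoly L (s : Ω)).map (algebraMap L Ω)
  have hint : IsIntegral L (s : Ω) := (Algebra.IsAlgebraic.isAlgebraic (R := L) (s : Ω)).isIntegral
  have hm : m.Monic := (minpoly.monic hint).map _
  have hroots : ∀ α ∈ m.roots, ∃ σ : Ω ≃ₐ[L] Ω, σ s = α := by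
    intro α hα
    have h1 : aeval α (minpoly L (s : Ω)) = 0 := by
      rw [← eval_map_algebraMap]
      exact (mem_roots hm.ne_zero).1 hα
    exact minpoly.exists_algEquiv_of_root' (Algebra.IsAlgebraic.isAlgebraic (R := L) (s : Ω)) h1
  have hs : (s : Ω) ∈ m.roots := by
    rw [mem_roots hm.ne_zero, IsRoot.def, eval_map_algebraMap]
    exact minpoly.aeval L (s : Ω)
  have hintr : ∀ α ∈ m.roots, IsIntegral P α := by
    intro α hα
    obtain ⟨σ, rfl⟩ := hroots α hα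
    exact isIntegral_apply hL σ s.2
  have hprod : ∀ T : Multiset Ω, T ≤ m.roots → IsIntegral P T.prod := fun T hT =>
    IsIntegral.multiset_prod fun α hα => hintr α (Multiset.mem_of_le hT hα)
  refine ⟨⟨(m.roots.erase s).prod, hprod _ (Multiset.erase_le _ _)⟩, ⟨m.roots.prod, hprod _ le_rfl⟩, ?_, ?_, ?_⟩
  · have h1 := (IsAlgClosed.splits m).coeff_zero_eq_prod_roots_of_monic hm
    have h2 : m.coeff 0 ∈ L := by
      rw [coeff_map]
      exact ((minpoly L (s : Ω)).coeff 0).2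
    have h3 : m.roots.prod = (-1) ^ m.natDegree * m.coeff 0 := by
      rw [h1, ← mul_assoc, ← pow_add, Even.neg_one_pow (Even.add_self _), one_mul]
    change m.roots.prod ∈ L
    rw [h3]
    exact L.mul_mem (L.pow_mem (L.neg_mem L.one_mem) _) h2
  · apply Subtype.ext
    exact (Multiset.prod_erase hs).symm
  · intro q _ hq hsq
    rw [← isMx_int_iff] at hsq ⊢
    change ¬ IsMx q m.roots.prod
    intro h
    obtain ⟨α, hα, h1⟩ := exists_of_isMx_prod _ (fun α hα => mem_loc_of_isIntegral (hintr α hα)) h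
    obtain ⟨σ, rfl⟩ := hroots α hα
    exact hq.not_isMx σ hsq h1

/-- Elements of `L ∩ loc (jn q₁ q₂)`. -/
theorem exists_frac {L : Subfield Ω} (hL : ∀ r : P, algebraMap P Ω r ∈ L)
    {q₁ q₂ : Ideal (integralClosure P Ω)} [q₁.IsPrime] [q₂.IsPrime] (h₁ : Stab L q₁) (h₂ : Stab L q₂)
    {x : Ω} (hx : x ∈ loc (jn q₁ q₂)) (hxL : x ∈ L) :
    ∃ a s₁ s₂ : integralClosure P Ω, (a : Ω) ∈ L ∧ (s₁ : Ω) ∈ L ∧ (s₂ : Ω) ∈ L ∧ s₁ ∉ q₁ ∧ s₂ ∉ q₂ ∧
      (s₁ : Ω) * s₂ * x = a := by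
  rw [mem_loc_jn_iff] at hx
  obtain ⟨a, s₁, s₂, h1, h2, h⟩ := hx
  obtain ⟨c₁, N₁, hN1, h3, h4⟩ := exists_norm hL s₁
  obtain ⟨c₂, N₂, hN2, h5, h6⟩ := exists_norm hL s₂
  have he : (N₁ : Ω) * N₂ * x = (a * c₁ * c₂ : integralClosure P Ω) := by
    rw [h3, h5]
    push_cast
    rw [← h]
    ring
  refine ⟨a * c₁ * c₂, N₁, N₂, ?_, hN1, hN2, h4 q₁ h₁ h1, h6 q₂ h₂ h2, he⟩
  rw [← he]
  exact L.mul_mem (L.mul_mem hN1 hN2) hxL

/-- Hensel's lemma in `L ∩ loc q`. -/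
theorem hensel_stab {L : Subfield Ω} (hL : ∀ r : P, algebraMap P Ω r ∈ L)
    {q : Ideal (integralClosure P Ω)} [q.IsPrime] (hq : Stab L q) (f : Polynomial Ω) (hm : f.Monic)
    (hf : ∀ n, f.coeff n ∈ loc q) (hfL : ∀ n, f.coeff n ∈ L) {a₀ : Ω} (ha : a₀ ∈ loc q) (haL : a₀ ∈ L)
    (h1 : IsMx q (f.eval a₀)) (h2 : ¬ IsMx q (f.derivative.eval a₀)) :
    ∃ α ∈ loc q, α ∈ L ∧ f.eval α = 0 ∧ IsMx q (α - a₀) := by
  obtain ⟨α, hα, h0, h3⟩ := exists_near_root f hm hf ha h1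
  refine ⟨α, hα, ?_, h0, h3⟩
  have hd := coeff_derivative_mem (loc q) f hf
  have h4 : ¬ IsMx q (f.derivative.eval α) := by
    intro h
    refine h2 ?_
    have h5 := isMx_eval_sub f.derivative hd ha hα (by rw [← neg_sub]; exact h3.neg)
    simpa using h5.add h
  refine mem_of_fixed (P := P) hL fun σ => ?_
  have hσ0 : f.eval (σ α) = 0 := by
    have h5 : f.map (σ : Ω →+* Ω) = f := by
      ext n
      rw [coeff_map]
      exact σ.commutes ⟨_, hfL n⟩
    have h6 := eval_map_apply (p := f) (σ : Ω →+* Ω) α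
    rw [h5, h0, map_zero] at h6
    exact h6
  have hσα : σ α ∈ loc q := hq σ α hα
  have h5 : IsMx q (σ α - α) := by
    have h6 := hq.isMx σ h3
    have hσa : σ a₀ = a₀ := σ.commutes (⟨a₀, haL⟩ : L)
    rw [map_sub, hσa] at h6
    have h7 := h6.sub h3
    have e : σ α - a₀ - (α - a₀) = σ α - α := by ring
    rwa [e] at h7
  obtain ⟨k, hk, h6⟩ := exists_binom (loc q) f hf hα h5.mem_loc
  rw [add_sub_cancel, hσ0, h0, zero_add] at h6
  have h7 : (σ α - α) * (f.derivative.eval α + (σ α - α) * k) = 0 := by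
    rw [h6]
    ring
  have h8 : f.derivative.eval α + (σ α - α) * k ≠ 0 :=
    ne_zero_of_not_isMx (not_isMx_add h4 (h5.mul hk))
  exact sub_eq_zero.1 ((mul_eq_zero.1 h7).resolve_right h8)

end

end K301.Join
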