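import Groth.Agent.EtCore.K301.JoinEt
import Groth.Agent.EtCore.K301.JoinCrit
import Groth.Agent.S1964

/-!
# The strict henselization `hs (loc q)`

`P` an integrally closed domain in the algebraically closed field `Ω`, `q` a prime of its integral closure `P̄`:

* `hs_strictlyHenselian`: `hs (loc q)` is a strictly henselian local ring with maximal ideal `IsMx q`;
* `isIntegral_hs`: `loc q` is integral over it.
-/

set_option autoImplicit false
universe u

open Polynomial IsLocalRing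

namespace K301.Join

variable {P Ω : Type u} [CommRing P] [Field Ω] [Algebra P Ω]

lemma eval_mem_of_coeff (S : Subalgebra P Ω) (f : Polynomial Ω) (hf : ∀ n, f.coeff n ∈ S) {x : Ω} (hx : x ∈ S) :
    f.eval x ∈ S := by
  rw [eval_eq_sum_range]
  exact S.sum_mem fun n _ => S.mul_mem (hf n) (S.pow_mem hx n)

lemma coeff_derivative_mem (S : Subalgebra P Ω) (f : Polynomial Ω) (hf : ∀ n, f.coeff n ∈ S) (n : ℕ) :
    f.derivative.coeff n ∈ S := by
  rw [coeff_derivative]
  exact S.mul_mem (hf _) (S.add_mem (natCast_mem S n) S.one_mem)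

/-- The difference quotient. -/
lemma exists_eval_sub (S : Subalgebra P Ω) (f : Polynomial Ω) (hf : ∀ n, f.coeff n ∈ S) {x y : Ω} (hx : x ∈ S)
    (hy : y ∈ S) : ∃ c ∈ S, f.eval x - f.eval y = (x - y) * c := by
  have hl : f ∈ lifts (algebraMap S Ω) := by
    rw [lifts_iff_coeff_lifts]
    exact fun n => ⟨⟨_, hf n⟩, rfl⟩
  obtain ⟨g, rfl⟩ := (mem_lifts f).1 hl
  obtain ⟨c, hc⟩ := sub_dvd_eval_sub (⟨x, hx⟩ : S) ⟨y, hy⟩ g
  refine ⟨c, c.2, ?_⟩
  have h1 : ∀ z : S, (g.map (algebraMap S Ω)).eval (z : Ω) = ((g.eval z : S) : Ω) :=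
    fun z => eval_map_apply (algebraMap S Ω) z
  rw [h1 ⟨x, hx⟩, h1 ⟨y, hy⟩]
  exact congrArg Subtype.val hc

section

variable {q : Ideal (integralClosure P Ω)} [q.IsPrime]

lemma isMx_eval_sub (f : Polynomial Ω) (hf : ∀ n, f.coeff n ∈ loc q) {x y : Ω} (hx : x ∈ loc q)
    (hy : y ∈ loc q) (h : IsMx q (x - y)) : IsMx q (f.eval x - f.eval y) := by
  obtain ⟨c, hc, h1⟩ := exists_eval_sub (loc q) f hf hx hy
  rw [h1]
  exact h.mul hc

lemma isIntegral_of_root (S : Subalgebra P Ω) (f : Polynomial Ω) (hm : f.Monic) (hf : ∀ n, f.coeff n ∈ S) {x : Ω}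
    (h0 : f.eval x = 0) : IsIntegral S x := by
  have hl : f ∈ lifts (algebraMap S Ω) := by
    rw [lifts_iff_coeff_lifts]
    exact fun n => ⟨⟨_, hf n⟩, rfl⟩
  obtain ⟨g, rfl⟩ := (mem_lifts f).1 hl
  refine ⟨g, monic_of_injective Subtype.val_injective hm, ?_⟩
  rw [← eval_map]
  exact h0

lemma root_mem_loc (f : Polynomial Ω) (hm : f.Monic) (hf : ∀ n, f.coeff n ∈ loc q) {x : Ω} (h0 : f.eval x = 0) :
    x ∈ loc q := mem_loc_of_isIntegral_loc q (isIntegral_of_root (loc q) f hm hf h0)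

lemma exists_of_isMx_prod (s : Multiset Ω) (hs : ∀ z ∈ s, z ∈ loc q) (h : IsMx q s.prod) : ∃ z ∈ s, IsMx q z := by
  induction s using Multiset.induction_on with
  | empty =>
    rw [Multiset.prod_zero] at h
    exact absurd h not_isMx_one
  | cons a s ih =>
    rw [Multiset.prod_cons, isMx_mul_iff (hs a (Multiset.mem_cons_self a s)) (_root_.multiset_prod_mem _
      fun z hz => hs z (Multiset.mem_cons_of_mem hz))] at h
    rcases h with h | h
    · exact ⟨a, Multiset.mem_cons_self a s, h⟩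
    · obtain ⟨z, hz, h1⟩ := ih (fun z hz => hs z (Multiset.mem_cons_of_mem hz)) h
      exact ⟨z, Multiset.mem_cons_of_mem hz, h1⟩

/-- An approximate root is congruent to a root. -/
theorem exists_near_root [IsAlgClosed Ω] (f : Polynomial Ω) (hm : f.Monic) (hf : ∀ n, f.coeff n ∈ loc q) {x : Ω}
    (hx : x ∈ loc q) (h : IsMx q (f.eval x)) : ∃ α ∈ loc q, f.eval α = 0 ∧ IsMx q (α - x) := by
  have hsp : f.Splits := IsAlgClosed.splits f
  rw [hsp.eval_eq_prod_roots_of_monic hm] at h
  have hr : ∀ a ∈ f.roots, f.eval a = 0 := fun a ha => (mem_roots hm.ne_zero).1 ha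
  obtain ⟨z, hz, h1⟩ := exists_of_isMx_prod _ (by
    intro z hz
    obtain ⟨a, ha, rfl⟩ := Multiset.mem_map.1 hz
    exact (loc q).sub_mem hx (root_mem_loc f hm hf (hr a ha))) h
  obtain ⟨a, ha, rfl⟩ := Multiset.mem_map.1 hz
  refine ⟨a, root_mem_loc f hm hf (hr a ha), hr a ha, ?_⟩
  rw [← neg_sub]
  exact h1.neg

end

section

variable [IsDomain P] [IsIntegrallyClosed P] [FaithfulSMul P Ω] [IsAlgClosed Ω]
variable (q : Ideal (integralClosure P Ω)) [q.IsPrime]

omit [IsAlgClosed Ω] in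
theorem inv_mem_hs_loc : ∀ x ∈ hs (loc q), ¬ IsMx q x → x⁻¹ ∈ hs (loc q) := fun _ hx h =>
  inv_mem_hs hx (inv_mem_of_not_isMx (hs_le _ hx) h)

/-- `hs (loc q)` is strictly henselian. -/
theorem hs_strictlyHenselian : ∃ _ : HenselianLocalRing (hs (loc q)), IsSepClosed (ResidueField (hs (loc q))) ∧
    ∀ x : hs (loc q), x ∈ maximalIdeal (hs (loc q)) ↔ IsMx q (x : Ω) := by
  refine strictlyHenselian_of (hs (loc q)) (hs_le _) (inv_mem_hs_loc q) ?_ ?_
  · intro f hm hf a₀ ha₀ h1 h2
    have hf' : ∀ n, f.coeff n ∈ loc q := fun n => hs_le _ (hf n)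
    obtain ⟨α, hα, h0, h3⟩ := exists_near_root f hm hf' (hs_le _ ha₀) h1
    have h4 : IsMx q (f.derivative.eval a₀ - f.derivative.eval α) := by
      refine isMx_eval_sub _ (coeff_derivative_mem _ f hf') (hs_le _ ha₀) hα ?_
      rw [← neg_sub]
      exact h3.neg
    have h5 : ¬ IsMx q (f.derivative.eval α) := by
      intro h
      exact h2 (by simpa using h4.add h)
    refine ⟨α, root_mem_hs f hm hf hα h0 (ne_zero_of_not_isMx h5) (inv_mem_of_not_isMx ?_ h5), h0, h3⟩
    exact eval_mem_of_coeff _ _ (coeff_derivative_mem _ f hf') hα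
  · intro f u v hm hd hf hu hv huv
    have hf' : ∀ n, f.coeff n ∈ loc q := fun n => hs_le _ (hf n)
    obtain ⟨α, h0⟩ := IsAlgClosed.exists_root f (natDegree_pos_iff_degree_pos.1 hd).ne'
    have hα := root_mem_loc f hm hf' h0
    have h1 : v.eval α * f.derivative.eval α = 1 := by
      have := congrArg (eval α) huv
      rw [eval_add, eval_mul, eval_mul, h0.eq_zero, mul_zero, zero_add, eval_one] at this
      exact this
    refine ⟨α, root_mem_hs f hm hf hα h0 (right_ne_zero_of_mul_eq_one h1) ?_, h0⟩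
    rw [← eq_inv_of_mul_eq_one_left h1]
    exact eval_mem_of_coeff _ _ (fun n => hs_le _ (hv n)) hα

/-- `loc q` is integral over `hs (loc q)`. -/
theorem isIntegral_hs {x : Ω} (hx : x ∈ loc q) : IsIntegral (hs (loc q)) x := by
  obtain ⟨hH, -, hmx⟩ := hs_strictlyHenselian q
  let R := hs (loc q)
  let B := integralClosure R Ω
  have hle : ∀ b : B, (b : Ω) ∈ loc q := by
    intro b
    refine mem_loc_of_isIntegral_loc q ?_
    obtain ⟨f, hf, h0⟩ := b.2
    refine ⟨f.map (Subalgebra.inclusion (hs_le (loc q))).toRingHom, hf.map _, ?_⟩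
    rw [eval₂_map]
    exact h0
  obtain ⟨hB, -, -⟩ := Groth.Agent.S1964.result R B
  -- the prime of `B`
  let n : Ideal B :=
    { carrier := {b | IsMx q (b : Ω)}
      add_mem' := fun ha hb => ha.add hb
      zero_mem' := isMx_zero
      smul_mem' := fun c x hx => hx.mul_left (hle c) }
  have hn : n.IsPrime := by
    refine ⟨(Ideal.ne_top_iff_one n).2 not_isMx_one, ?_⟩
    intro a b hab
    exact (isMx_mul_iff (hle a) (hle b)).1 hab
  have hcomap : n.comap (algebraMap R B) = maximalIdeal R := by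
    ext r
    exact (hmx r).symm
  have hmax : n.IsMaximal := by
    refine Ideal.isMaximal_of_isIntegral_of_isMaximal_comap (R := R) n ?_
    rw [hcomap]
    exact inferInstance
  have hn2 : n = maximalIdeal B := IsLocalRing.eq_maximalIdeal hmax
  have hinv : ∀ s : integralClosure P Ω, s ∉ q → IsIntegral R ((s : Ω)⁻¹) := by
    intro s hs
    have hsB : IsIntegral R (s : Ω) := by
      have : IsIntegral P (s : Ω) := s.2
      exact this.tower_top
    have h1 : (⟨(s : Ω), hsB⟩ : B) ∉ maximalIdeal B := by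
      rw [← hn2]
      exact fun h => hs ((isMx_int_iff s).1 h)
    rw [mem_maximalIdeal, mem_nonunits_iff, not_not] at h1
    obtain ⟨y, hy⟩ := h1.exists_right_inv
    have h2 : (s : Ω) * y = 1 := congrArg Subtype.val hy
    rw [← eq_inv_of_mul_eq_one_right h2]
    exact y.2
  obtain ⟨a, s, hs, h⟩ := hx
  have h1 : x = (a : Ω) * (s : Ω)⁻¹ := by
    rw [← h, mul_comm (s : Ω) x, mul_assoc, mul_inv_cancel₀ (ne_zero_of_notMem hs), mul_one]
  rw [h1]
  have : IsIntegral P (a : Ω) := a.2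
  exact this.tower_top.mul (hinv s hs)

end

end K301.Join
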