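import Groth.Agent.EtCore.K301.JoinGal

/-!
# The join of two strict henselizations is `L ∩ loc (jn q₁ q₂)`
-/

set_option autoImplicit false
universe u

open Polynomial IsLocalRing

namespace K301.Join

variable {P Ω : Type u} [CommRing P] [Field Ω] [Algebra P Ω] 

/-- Fractions of an integrally closed subalgebra. -/
theorem mem_of_frac (B : Subalgebra P Ω) [IsIntegrallyClosed B] {x a b : Ω} (ha : a ∈ B) (hb : b ∈ B)
    (hb0 : b ≠ 0) (h : x * b = a) (hx : IsIntegral B x) : x ∈ B := by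
  have hinj : Function.Injective (algebraMap B Ω) := Subtype.val_injective
  let ψ : FractionRing B →ₐ[B] Ω := IsFractionRing.liftAlgHom (g := Algebra.ofId B Ω) hinj
  have hψ : Function.Injective ψ := ψ.toRingHom.injective
  have hb1 : (⟨b, hb⟩ : B) ≠ 0 := fun h => hb0 (congrArg Subtype.val h)
  let y : FractionRing B := algebraMap B _ ⟨a, ha⟩ / algebraMap B _ ⟨b, hb⟩
  have hy : ψ y = x := by
    have hb' : (b : Ω) ≠ 0 := hb0
    rw [map_div₀, AlgHom.commutes, AlgHom.commutes]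
    change a / b = x
    rw [← h, mul_div_cancel_right₀ _ hb']
  have hyi : IsIntegral B y := by
    rw [← isIntegral_algHom_iff ψ hψ, hy]
    exact hx
  obtain ⟨c, hc⟩ := (isIntegrallyClosed_iff (FractionRing B)).1 ‹_› hyi
  rw [← hy, ← hc, AlgHom.commutes]
  exact c.2

section

variable [IsDomain P] [IsIntegrallyClosed P] [FaithfulSMul P Ω]
variable (q₁ q₂ : Ideal (integralClosure P Ω)) [q₁.IsPrime] [q₂.IsPrime]

/-- The join. -/
def jO : Subalgebra P Ω := hs (loc q₁) ⊔ hs (loc q₂)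

/-- Its fraction field. -/
def jL : Subfield Ω := Subfield.closure (jO q₁ q₂ : Set Ω)

lemma hs_jO : ∀ x ∈ jO q₁ q₂, x ∈ hs (jO q₁ q₂) := by
  have h1 : hs (loc q₁) ≤ hs (jO q₁ q₂) := by
    rintro x ⟨B, hB, h, hx⟩
    exact ⟨B, hB, (le_hs hB h).trans le_sup_left, hx⟩
  have h2 : hs (loc q₂) ≤ hs (jO q₁ q₂) := by
    rintro x ⟨B, hB, h, hx⟩
    exact ⟨B, hB, (le_hs hB h).trans le_sup_right, hx⟩
  exact fun x hx => sup_le h1 h2 hx

lemma jO_le_jL {x : Ω} (hx : x ∈ jO q₁ q₂) : x ∈ jL q₁ q₂ := Subfield.subset_closure hx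

lemma algebraMap_mem_jL (r : P) : algebraMap P Ω r ∈ jL q₁ q₂ := jO_le_jL q₁ q₂ ((jO q₁ q₂).algebraMap_mem r)

lemma exists_div {x : Ω} (hx : x ∈ jL q₁ q₂) : ∃ a ∈ jO q₁ q₂, ∃ b ∈ jO q₁ q₂, b ≠ 0 ∧ x * b = a := by
  obtain ⟨a, ha, b, hb, h⟩ := Subfield.mem_closure_iff.1 hx
  have hle : Subring.closure (jO q₁ q₂ : Set Ω) ≤ (jO q₁ q₂).toSubring := Subring.closure_le.2 fun _ h => h
  by_cases hb0 : b = 0
  · rw [hb0, div_zero] at h
    exact ⟨0, (jO q₁ q₂).zero_mem, 1, (jO q₁ q₂).one_mem, one_ne_zero, by rw [← h, zero_mul]⟩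
  · exact ⟨a, hle ha, b, hle hb, hb0, by rw [← h, div_mul_cancel₀ _ hb0]⟩

/-- The join is integrally closed. -/
theorem mem_jO_of_isIntegral {x : Ω} (hxL : x ∈ jL q₁ q₂) (hx : IsIntegral (jO q₁ q₂) x) : x ∈ jO q₁ q₂ := by
  obtain ⟨a, ha, b, hb, hb0, h⟩ := exists_div q₁ q₂ hxL
  obtain ⟨f, hf, h0⟩ := hx
  let g : Polynomial Ω := f.map (algebraMap (jO q₁ q₂) Ω)
  obtain ⟨B, hB, -, hBO, hZ⟩ := exists_of_finite (S := jO q₁ q₂) etale_bot bot_le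
    (insert a (insert b (Set.range fun n : Finset.range (g.natDegree + 1) => g.coeff n)))
    (((Set.finite_range _).insert _).insert _) (by
      rintro z (rfl | rfl | ⟨n, rfl⟩)
      · exact hs_jO q₁ q₂ _ ha
      · exact hs_jO q₁ q₂ _ hb
      · refine hs_jO q₁ q₂ _ ?_
        change g.coeff n ∈ _
        rw [coeff_map]
        exact (f.coeff n).2)
  have hcB : ∀ n, g.coeff n ∈ B := by
    intro n
    by_cases hn : n ≤ g.natDegree
    · exact hZ (Set.mem_insert_of_mem _ (Set.mem_insert_of_mem _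
        ⟨⟨n, Finset.mem_range.2 (Nat.lt_succ_of_le hn)⟩, rfl⟩))
    · rw [coeff_eq_zero_of_natDegree_lt (not_le.1 hn)]
      exact B.zero_mem
  have : IsIntegrallyClosed B := Groth.Agent.Etcore.NormalEtale.isIntegrallyClosed_of_etale P B
  refine hBO (mem_of_frac B (hZ (Set.mem_insert _ _)) (hZ (Set.mem_insert_of_mem _ (Set.mem_insert _ _))) hb0 h ?_)
  refine isIntegral_of_root B g (hf.map _) hcB ?_
  rw [← eval_map] at h0
  exact h0

variable [IsAlgClosed Ω]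

theorem mem_jO_left {x : Ω} (hx : x ∈ loc q₁) (hxL : x ∈ jL q₁ q₂) : x ∈ jO q₁ q₂ :=
  mem_jO_of_isIntegral q₁ q₂ hxL (isIntegral_mono le_sup_left (isIntegral_hs q₁ hx))

theorem mem_jO_right {x : Ω} (hx : x ∈ loc q₂) (hxL : x ∈ jL q₁ q₂) : x ∈ jO q₁ q₂ :=
  mem_jO_of_isIntegral q₁ q₂ hxL (isIntegral_mono le_sup_right (isIntegral_hs q₂ hx))

theorem stab_left : Stab (jL q₁ q₂) q₁ :=
  stab_of fun _ hx => jO_le_jL q₁ q₂ ((le_sup_left : hs (loc q₁) ≤ jO q₁ q₂) hx)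

theorem stab_right : Stab (jL q₁ q₂) q₂ :=
  stab_of fun _ hx => jO_le_jL q₁ q₂ ((le_sup_right : hs (loc q₂) ≤ jO q₁ q₂) hx)

theorem stab_join : Stab (jL q₁ q₂) (jn q₁ q₂) :=
  stab_jn (algebraMap_mem_jL q₁ q₂) (stab_left q₁ q₂) (stab_right q₁ q₂)

lemma jO_le_loc : jO q₁ q₂ ≤ loc (jn q₁ q₂) :=
  sup_le ((hs_le _).trans (loc_le_loc_jn_left q₁ q₂)) ((hs_le _).trans (loc_le_loc_jn_right q₁ q₂))

variable [CharZero Ω] [Algebra.IsAlgebraic P Ω]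

theorem mem_jO_iff {x : Ω} : x ∈ jO q₁ q₂ ↔ x ∈ loc (jn q₁ q₂) ∧ x ∈ jL q₁ q₂ := by
  refine ⟨fun h => ⟨jO_le_loc q₁ q₂ h, jO_le_jL q₁ q₂ h⟩, ?_⟩
  rintro ⟨hx, hxL⟩
  obtain ⟨a, s₁, s₂, ha, h1, h2, h3, h4, h⟩ := exists_frac (algebraMap_mem_jL q₁ q₂) (stab_left q₁ q₂)
    (stab_right q₁ q₂) hx hxL
  have hs1 := ne_zero_of_notMem h3
  have hs2 := ne_zero_of_notMem h4
  have e : x = (a : Ω) * ((s₁ : Ω)⁻¹ * (s₂ : Ω)⁻¹) := by
    rw [← h]
    field_simp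
  rw [e]
  refine (jO q₁ q₂).mul_mem (mem_jO_left q₁ q₂ (int_mem_loc a) ha) ((jO q₁ q₂).mul_mem ?_ ?_)
  · exact mem_jO_left q₁ q₂ (inv_mem_loc h3) ((jL q₁ q₂).inv_mem h1)
  · exact mem_jO_right q₁ q₂ (inv_mem_loc h4) ((jL q₁ q₂).inv_mem h2)

end

end K301.Join
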