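import Mathlib.RingTheory.IntegralClosure.IntegrallyClosed
import Mathlib.RingTheory.Localization.Integral
import Mathlib.RingTheory.Localization.AtPrime.Basic
import Mathlib.FieldTheory.IsAlgClosed.Basic

/-!
# Localizations of the integral closure of a domain in an algebraically closed field

For a prime `q` of the integral closure `P̄` of `P` in `Ω`, `loc q` is the localization of `P̄` at `q` inside `Ω`, and
`IsMx q` the membership in its maximal ideal.
-/

set_option autoImplicit false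
universe u

namespace K301.Join

variable {P Ω : Type u} [CommRing P] [Field Ω] [Algebra P Ω]

section

variable (q : Ideal (integralClosure P Ω)) [q.IsPrime]

/-- The localization at `q` inside `Ω`. -/
def loc : Subalgebra P Ω where
  carrier := {x | ∃ a s : integralClosure P Ω, s ∉ q ∧ (s : Ω) * x = a}
  mul_mem' := by
    rintro x y ⟨a, s, hs, hx⟩ ⟨b, t, ht, hy⟩
    refine ⟨a * b, s * t, fun h => (Ideal.IsPrime.mem_or_mem ‹_› h).elim hs ht, ?_⟩
    push_cast
    rw [← hx, ← hy]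
    ring
  add_mem' := by
    rintro x y ⟨a, s, hs, hx⟩ ⟨b, t, ht, hy⟩
    refine ⟨t * a + s * b, s * t, fun h => (Ideal.IsPrime.mem_or_mem ‹_› h).elim hs ht, ?_⟩
    push_cast
    rw [← hx, ← hy]
    ring
  algebraMap_mem' r := ⟨algebraMap P _ r, 1, fun h => Ideal.IsPrime.ne_top ‹_› ((Ideal.eq_top_iff_one q).2 h), by
    simp⟩

/-- The maximal ideal. -/
def IsMx (x : Ω) : Prop := ∃ a s : integralClosure P Ω, a ∈ q ∧ s ∉ q ∧ (s : Ω) * x = a

lemma mem_loc_iff {x : Ω} : x ∈ loc q ↔ ∃ a s : integralClosure P Ω, s ∉ q ∧ (s : Ω) * x = a := Iff.rfl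

variable {q}

lemma one_notMem : (1 : integralClosure P Ω) ∉ q := fun h =>
  Ideal.IsPrime.ne_top ‹_› ((Ideal.eq_top_iff_one q).2 h)

lemma ne_zero_of_notMem {s : integralClosure P Ω} (hs : s ∉ q) : (s : Ω) ≠ 0 := by
  intro h
  apply hs
  have : s = 0 := Subtype.ext h
  rw [this]
  exact q.zero_mem

lemma int_mem_loc (a : integralClosure P Ω) : (a : Ω) ∈ loc q :=
  ⟨a, 1, one_notMem, by simp⟩

lemma mem_loc_of_isIntegral {x : Ω} (hx : IsIntegral P x) : x ∈ loc q := int_mem_loc (q := q) ⟨x, hx⟩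

lemma inv_mem_loc {s : integralClosure P Ω} (hs : s ∉ q) : (s : Ω)⁻¹ ∈ loc q :=
  ⟨1, s, hs, by simp [mul_inv_cancel₀ (ne_zero_of_notMem hs)]⟩

lemma IsMx.mem_loc {x : Ω} (h : IsMx q x) : x ∈ loc q := by
  obtain ⟨a, s, -, hs, h⟩ := h
  exact ⟨a, s, hs, h⟩

lemma inv_mem_of_not_isMx {x : Ω} (hx : x ∈ loc q) (h : ¬ IsMx q x) : x⁻¹ ∈ loc q := by
  obtain ⟨a, s, hs, hx⟩ := hx
  have ha : a ∉ q := fun ha => h ⟨a, s, ha, hs, hx⟩
  have hx0 : x ≠ 0 := by
    rintro rfl
    rw [mul_zero] at hx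
    exact ne_zero_of_notMem ha hx.symm
  exact ⟨s, a, ha, by rw [← hx, mul_assoc, mul_inv_cancel₀ hx0, mul_one]⟩

lemma ne_zero_of_not_isMx {x : Ω} (h : ¬ IsMx q x) : x ≠ 0 := by
  rintro rfl
  exact h ⟨0, 1, q.zero_mem, one_notMem, by simp⟩

lemma isMx_zero : IsMx q (0 : Ω) := ⟨0, 1, q.zero_mem, one_notMem, by simp⟩

lemma IsMx.mul_ne_one {x y : Ω} (h : IsMx q x) (hy : y ∈ loc q) : x * y ≠ 1 := by
  obtain ⟨a, s, ha, hs, hx⟩ := h
  obtain ⟨b, t, ht, hy⟩ := hy
  intro h1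
  have h2 : s * t = a * b := by
    apply Subtype.ext
    push_cast
    rw [← hx, ← hy]
    calc (s : Ω) * t = s * t * (x * y) := by rw [h1, mul_one]
      _ = _ := by ring
  have h3 : s * t ∈ q := by
    rw [h2]
    exact q.mul_mem_right _ ha
  exact (Ideal.IsPrime.mem_or_mem ‹_› h3).elim hs ht

lemma not_isMx_of_inv_mem {x : Ω} (hx0 : x ≠ 0) (hx : x⁻¹ ∈ loc q) : ¬ IsMx q x := fun h =>
  h.mul_ne_one hx (mul_inv_cancel₀ hx0)

lemma not_isMx_one : ¬ IsMx q (1 : Ω) := not_isMx_of_inv_mem one_ne_zero (by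
  rw [inv_one]
  exact (loc q).one_mem)

lemma IsMx.add {x y : Ω} (hx : IsMx q x) (hy : IsMx q y) : IsMx q (x + y) := by
  obtain ⟨a, s, ha, hs, hx⟩ := hx
  obtain ⟨b, t, hb, ht, hy⟩ := hy
  refine ⟨t * a + s * b, s * t, q.add_mem (q.mul_mem_left _ ha) (q.mul_mem_left _ hb),
    fun h => (Ideal.IsPrime.mem_or_mem ‹_› h).elim hs ht, ?_⟩
  push_cast
  rw [← hx, ← hy]
  ring

lemma IsMx.mul {x y : Ω} (hx : IsMx q x) (hy : y ∈ loc q) : IsMx q (x * y) := by
  obtain ⟨a, s, ha, hs, hx⟩ := hx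
  obtain ⟨b, t, ht, hy⟩ := hy
  refine ⟨a * b, s * t, q.mul_mem_right _ ha,
    fun h => (Ideal.IsPrime.mem_or_mem ‹_› h).elim hs ht, ?_⟩
  push_cast
  rw [← hx, ← hy]
  ring

lemma IsMx.mul_left {x y : Ω} (hx : IsMx q x) (hy : y ∈ loc q) : IsMx q (y * x) := by
  rw [mul_comm]
  exact hx.mul hy

lemma IsMx.neg {x : Ω} (hx : IsMx q x) : IsMx q (-x) := by
  rw [← neg_one_mul]
  exact hx.mul_left ((loc q).neg_mem (loc q).one_mem)

lemma IsMx.sub {x y : Ω} (hx : IsMx q x) (hy : IsMx q y) : IsMx q (x - y) := by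
  rw [sub_eq_add_neg]
  exact hx.add hy.neg

lemma isMx_mul_iff {x y : Ω} (hx : x ∈ loc q) (hy : y ∈ loc q) :
    IsMx q (x * y) ↔ IsMx q x ∨ IsMx q y := by
  constructor
  · intro h
    by_contra hn
    rw [not_or] at hn
    have h1 := inv_mem_of_not_isMx hx hn.1
    have h2 := inv_mem_of_not_isMx hy hn.2
    have hx0 := ne_zero_of_not_isMx hn.1
    have hy0 := ne_zero_of_not_isMx hn.2
    exact h.mul_ne_one ((loc q).mul_mem h1 h2) (by field_simp)
  · rintro (h | h)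
    · exact h.mul hy
    · exact h.mul_left hx

lemma not_isMx_add {x y : Ω} (hx : ¬ IsMx q x) (hy : IsMx q y) : ¬ IsMx q (x + y) := fun h =>
  hx (by simpa using h.sub hy)

lemma isMx_int_iff (a : integralClosure P Ω) : IsMx q (a : Ω) ↔ a ∈ q := by
  constructor
  · rintro ⟨b, s, hb, hs, h⟩
    have h2 : s * a = b := Subtype.ext h
    have h3 : s * a ∈ q := by rw [h2]; exact hb
    exact (Ideal.IsPrime.mem_or_mem ‹_› h3).resolve_left hs
  · intro h
    exact ⟨a, 1, h, one_notMem, by simp⟩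

lemma isMx_pow {x : Ω} (hx : IsMx q x) {n : ℕ} (hn : n ≠ 0) : IsMx q (x ^ n) := by
  obtain ⟨m, rfl⟩ := Nat.exists_eq_succ_of_ne_zero hn
  rw [pow_succ]
  exact hx.mul_left ((loc q).pow_mem hx.mem_loc _)

lemma not_isMx_pow {x : Ω} (hx' : x ∈ loc q) (hx : ¬ IsMx q x) (n : ℕ) : ¬ IsMx q (x ^ n) := by
  induction n with
  | zero =>
    rw [pow_zero]
    exact not_isMx_one
  | succ n ih =>
    rw [pow_succ, isMx_mul_iff ((loc q).pow_mem hx' n) hx', not_or]
    exact ⟨ih, hx⟩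

variable (q)

/-- The algebra structure over the integral closure. -/
@[reducible] def algLoc : Algebra (integralClosure P Ω) (loc q) :=
  (Subalgebra.inclusion (S := integralClosure P Ω) (T := loc q) (fun x hx => int_mem_loc ⟨x, hx⟩)).toRingHom.toAlgebra

theorem isLocalization_loc :
    letI := algLoc q
    IsLocalization.AtPrime (loc q) q := by
  letI := algLoc q
  refine { map_units := ?_, surj := ?_, exists_of_eq := ?_ }
  · rintro ⟨s, hs⟩
    have h0 := ne_zero_of_notMem (q := q) hs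
    refine IsUnit.of_mul_eq_one ⟨(s : Ω)⁻¹, inv_mem_loc hs⟩ ?_
    apply Subtype.ext
    exact mul_inv_cancel₀ h0
  · rintro ⟨x, a, s, hs, hx⟩
    refine ⟨⟨a, ⟨s, hs⟩⟩, ?_⟩
    apply Subtype.ext
    change x * (s : Ω) = a
    rw [mul_comm, hx]
  · intro x y h
    refine ⟨1, ?_⟩
    have : (x : Ω) = y := congrArg (fun t : loc q => (t : Ω)) h
    rw [Subtype.ext this]

/-- `loc q` is integrally closed in `Ω`. -/
theorem mem_loc_of_isIntegral_loc {x : Ω} (hx : IsIntegral (loc q) x) : x ∈ loc q := by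
  letI := algLoc q
  have : IsScalarTower (integralClosure P Ω) (loc q) Ω := IsScalarTower.of_algebraMap_eq fun _ => rfl
  have := isLocalization_loc q
  obtain ⟨⟨m, hm⟩, h⟩ := IsIntegral.exists_multiple_integral_of_isLocalization q.primeCompl x hx
  have h2 : IsIntegral P ((m : Ω) * x) := isIntegral_trans (R := P) (A := integralClosure P Ω) _ h
  exact ⟨⟨_, h2⟩, m, hm, rfl⟩

instance isLocalRing_loc : IsLocalRing (loc q) := by
  letI := algLoc q
  have := isLocalization_loc q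
  exact IsLocalization.AtPrime.isLocalRing (loc q) q

lemma mem_maximalIdeal_iff (x : loc q) : x ∈ IsLocalRing.maximalIdeal (loc q) ↔ IsMx q (x : Ω) := by
  rw [IsLocalRing.mem_maximalIdeal, mem_nonunits_iff]
  constructor
  · intro h
    by_contra hn
    apply h
    refine IsUnit.of_mul_eq_one ⟨_, inv_mem_of_not_isMx x.2 hn⟩ ?_
    apply Subtype.ext
    exact mul_inv_cancel₀ (ne_zero_of_not_isMx hn)
  · rintro h hu
    obtain ⟨y, hy⟩ := hu.exists_right_inv
    exact h.mul_ne_one y.2 (congrArg (fun t : loc q => (t : Ω)) hy)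

end

end K301.Join
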