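import Groth.Agent.EtCore.K301.JoinRoot
import Groth.Agent.EtCore.K301.JoinDefs

/-!
# Artin's theorem: the join of two strict henselizations is strictly henselian
-/

set_option autoImplicit false
universe u

open Polynomial IsLocalRing

namespace K301.Join

open K301.JoinDefs

variable {P Ω : Type u} [CommRing P] [IsDomain P] [IsIntegrallyClosed P] [Field Ω] [Algebra P Ω] [FaithfulSMul P Ω]
  [IsAlgClosed Ω] 

/-- The comparable case. -/
theorem SH_of_le (S : Subalgebra P Ω) (q : Ideal (integralClosure P Ω)) [q.IsPrime] (h1 : hs (loc q) ≤ S)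
    (h2 : S ≤ loc q) : SH S := by
  obtain ⟨hH, hsep, -⟩ := hs_strictlyHenselian q
  let _ : Algebra (hs (loc q)) S := (Subalgebra.inclusion h1).toRingHom.toAlgebra
  have : IsScalarTower (hs (loc q)) S Ω := IsScalarTower.of_algebraMap_eq fun _ => rfl
  have hint : Algebra.IsIntegral (hs (loc q)) S := ⟨fun x => by
    rw [← isIntegral_algebraMap_iff (A := S) (B := Ω) (R := hs (loc q)) Subtype.val_injective]
    exact isIntegral_hs q (h2 x.2)⟩
  obtain ⟨hS, -, h⟩ := Groth.Agent.S1964.result (hs (loc q)) S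
  exact ⟨hS, (h hsep).1⟩

variable [CharZero Ω] [Algebra.IsAlgebraic P Ω]
variable (q₁ q₂ : Ideal (integralClosure P Ω)) [q₁.IsPrime] [q₂.IsPrime]

/-- Common denominators. -/
theorem exists_den (Z : Set Ω) (hZ : Z.Finite) (h : ∀ z ∈ Z, z ∈ jO q₁ q₂) : ∃ s₁ s₂ : integralClosure P Ω,
    (s₁ : Ω) ∈ jL q₁ q₂ ∧ (s₂ : Ω) ∈ jL q₁ q₂ ∧ s₁ ∉ q₁ ∧ s₂ ∉ q₂ ∧ ∀ z ∈ Z, IsIntegral P ((s₁ : Ω) * s₂ * z) := by
  induction Z, hZ using Set.Finite.induction_on with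
  | empty => exact ⟨1, 1, (jL q₁ q₂).one_mem, (jL q₁ q₂).one_mem, one_notMem, one_notMem, fun z hz => hz.elim⟩
  | @insert x Z hx hZ ih =>
    obtain ⟨s₁, s₂, h1, h2, h3, h4, h5⟩ := ih fun z hz => h z (Set.mem_insert_of_mem _ hz)
    have hxO := h x (Set.mem_insert _ _)
    rw [mem_jO_iff] at hxO
    obtain ⟨a, t₁, t₂, -, k1, k2, k3, k4, k5⟩ := exists_frac (algebraMap_mem_jL q₁ q₂) (stab_left q₁ q₂)
      (stab_right q₁ q₂) hxO.1 hxO.2
    refine ⟨s₁ * t₁, s₂ * t₂, (jL q₁ q₂).mul_mem h1 k1, (jL q₁ q₂).mul_mem h2 k2,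
      fun h => (Ideal.IsPrime.mem_or_mem ‹_› h).elim h3 k3, fun h => (Ideal.IsPrime.mem_or_mem ‹_› h).elim h4 k4, ?_⟩
    have ha : IsIntegral P (a : Ω) := a.2
    have ht : IsIntegral P ((t₁ : Ω) * t₂) := (t₁ * t₂).2
    have hs : IsIntegral P ((s₁ : Ω) * s₂) := (s₁ * s₂).2
    rintro z (rfl | hz)
    · have e : ((s₁ * t₁ : integralClosure P Ω) : Ω) * ((s₂ * t₂ : integralClosure P Ω) : Ω) * z =
          ((s₁ : Ω) * s₂) * a := by
        rw [← k5]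
        push_cast
        ring
      rw [e]
      exact hs.mul ha
    · have e : ((s₁ * t₁ : integralClosure P Ω) : Ω) * ((s₂ * t₂ : integralClosure P Ω) : Ω) * z =
          ((t₁ : Ω) * t₂) * ((s₁ : Ω) * s₂ * z) := by
        push_cast
        ring
      rw [e]
      exact ht.mul (h5 z hz)

/-- **Artin**: the join of two strict henselizations is strictly henselian. -/
theorem SH_jO : SH (jO q₁ q₂) := by
  by_cases hc1 : ∀ s : integralClosure P Ω, (s : Ω) ∈ jL q₁ q₂ → s ∈ q₁ → s ∈ q₂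
  · refine SH_of_le _ q₁ le_sup_left fun x hx => ?_
    rw [mem_jO_iff] at hx
    obtain ⟨a, s₁, s₂, ha, h1, h2, h3, h4, h⟩ := exists_frac (algebraMap_mem_jL q₁ q₂) (stab_left q₁ q₂)
      (stab_right q₁ q₂) hx.1 hx.2
    refine ⟨a, s₁ * s₂, fun h' => ?_, by push_cast; exact h⟩
    exact (Ideal.IsPrime.mem_or_mem ‹_› h').elim h3 fun h6 => h4 (hc1 s₂ h2 h6)
  by_cases hc2 : ∀ s : integralClosure P Ω, (s : Ω) ∈ jL q₁ q₂ → s ∈ q₂ → s ∈ q₁
  · refine SH_of_le _ q₂ le_sup_right fun x hx => ?_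
    rw [mem_jO_iff] at hx
    obtain ⟨a, s₁, s₂, ha, h1, h2, h3, h4, h⟩ := exists_frac (algebraMap_mem_jL q₁ q₂) (stab_left q₁ q₂)
      (stab_right q₁ q₂) hx.1 hx.2
    refine ⟨a, s₁ * s₂, fun h' => ?_, by push_cast; exact h⟩
    exact (Ideal.IsPrime.mem_or_mem ‹_› h').elim (fun h6 => h3 (hc2 s₁ h1 h6)) h4
  push Not at hc1 hc2
  obtain ⟨t₂, ht₂L, ht₂₁, ht₂₂⟩ := hc1
  obtain ⟨t₁, ht₁L, ht₁₂, ht₁₁⟩ := hc2
  have hle := jO_le_loc q₁ q₂
  have hinv : ∀ x ∈ jO q₁ q₂, ¬ IsMx (jn q₁ q₂) x → x⁻¹ ∈ jO q₁ q₂ := by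
    intro x hx h
    rw [mem_jO_iff] at hx ⊢
    exact ⟨inv_mem_of_not_isMx hx.1 h, (jL q₁ q₂).inv_mem hx.2⟩
  obtain ⟨hH, hsep, -⟩ := strictlyHenselian_of (jO q₁ q₂) hle hinv (by
    intro f hm hf a₀ ha₀ h1 h2
    obtain ⟨α, hα, hαL, h0, h3⟩ := hensel_stab (algebraMap_mem_jL q₁ q₂) (stab_join q₁ q₂) f hm
      (fun n => hle (hf n)) (fun n => jO_le_jL q₁ q₂ (hf n)) (hle ha₀) (jO_le_jL q₁ q₂ ha₀) h1 h2
    exact ⟨α, (mem_jO_iff q₁ q₂).2 ⟨hα, hαL⟩, h0, h3⟩) (by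
    intro f u v hm hd hf hu hv huv
    obtain ⟨s₁, s₂, h1, h2, h3, h4, h5⟩ := exists_den q₁ q₂ (↑f.coeffs ∪ ↑u.coeffs ∪ ↑v.coeffs : Set Ω)
      (((Finset.finite_toSet _).union (Finset.finite_toSet _)).union (Finset.finite_toSet _)) (by
        rintro z ((hz | hz) | hz)
        · obtain ⟨n, -, rfl⟩ := mem_coeffs_iff.1 hz
          exact hf n
        · obtain ⟨n, -, rfl⟩ := mem_coeffs_iff.1 hz
          exact hu n
        · obtain ⟨n, -, rfl⟩ := mem_coeffs_iff.1 hz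
          exact hv n)
    have hs12 : IsIntegral P ((t₁ : Ω) * t₂) := (t₁ * t₂).2
    have key : ∀ (g : Polynomial Ω), (∀ z ∈ g.coeffs, IsIntegral P ((s₁ : Ω) * s₂ * z)) → ∀ i,
        IsIntegral P (((t₁ * s₁ : integralClosure P Ω) : Ω) * ((t₂ * s₂ : integralClosure P Ω) : Ω) * g.coeff i) := by
      intro g hg i
      by_cases h0 : g.coeff i = 0
      · rw [h0, mul_zero]
        exact isIntegral_zero
      · have e : ((t₁ * s₁ : integralClosure P Ω) : Ω) * ((t₂ * s₂ : integralClosure P Ω) : Ω) * g.coeff i =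
            ((t₁ : Ω) * t₂) * ((s₁ : Ω) * s₂ * g.coeff i) := by
          push_cast
          ring
        rw [e]
        exact hs12.mul (hg _ (coeff_mem_coeffs h0))
    obtain ⟨a, ha, h0⟩ := exists_root_of_incomparable (algebraMap_mem_jL q₁ q₂) (stab_left q₁ q₂) (stab_right q₁ q₂)
      f u v hm hd huv (fun i => jO_le_jL q₁ q₂ (hf i)) (fun i => jO_le_jL q₁ q₂ (hu i))
      (fun i => jO_le_jL q₁ q₂ (hv i)) (T₁ := ((t₁ * s₁ : integralClosure P Ω) : Ω))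
      (T₂ := ((t₂ * s₂ : integralClosure P Ω) : Ω)) ((jL q₁ q₂).mul_mem ht₁L h1) ((jL q₁ q₂).mul_mem ht₂L h2)
      (t₁ * s₁).2 (t₂ * s₂).2
      (by
        rw [isMx_int_iff]
        exact fun h => (Ideal.IsPrime.mem_or_mem ‹_› h).elim ht₁₁ h3)
      (by
        rw [isMx_int_iff]
        exact q₂.mul_mem_right _ ht₁₂)
      (by
        rw [isMx_int_iff]
        exact q₁.mul_mem_right _ ht₂₁)
      (by
        rw [isMx_int_iff]
        exact fun h => (Ideal.IsPrime.mem_or_mem ‹_› h).elim ht₂₂ h4)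
      (key f fun z hz => h5 z (Or.inl (Or.inl hz))) (key u fun z hz => h5 z (Or.inl (Or.inr hz)))
      (key v fun z hz => h5 z (Or.inr hz))
    exact ⟨a, mem_jO_of_isIntegral q₁ q₂ ha (isIntegral_of_root _ f hm hf h0), h0⟩)
  exact ⟨hH, hsep⟩

end K301.Join
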