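import Groth.Agent.EtCore.K301.JoinHS

/-!
# The join of two primes of an absolutely integrally closed domain

`jn q₁ q₂` is the set of `a` dividing no product `s₁ s₂` with `s₁ ∉ q₁`, `s₂ ∉ q₂`; it is a prime ideal, and
`loc (jn q₁ q₂)` consists of the `a / (s₁ s₂)`.
-/

set_option autoImplicit false
universe u

open Polynomial IsLocalRing

namespace K301.Join

variable {P Ω : Type u} [CommRing P] [Field Ω] [Algebra P Ω] 

section

variable (q₁ q₂ : Ideal (integralClosure P Ω))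

/-- Divisors of products `s₁ s₂`. -/
def Good (a : integralClosure P Ω) : Prop := ∃ c s₁ s₂ : integralClosure P Ω, s₁ ∉ q₁ ∧ s₂ ∉ q₂ ∧ a * c = s₁ * s₂

variable [q₁.IsPrime] [q₂.IsPrime]

variable {q₁ q₂}

lemma good_left {a : integralClosure P Ω} (h : a ∉ q₁) : Good q₁ q₂ a := ⟨1, a, 1, h, one_notMem, rfl⟩

lemma good_right {a : integralClosure P Ω} (h : a ∉ q₂) : Good q₁ q₂ a := ⟨1, 1, a, one_notMem, h, by ring⟩

lemma Good.mul {a b : integralClosure P Ω} (ha : Good q₁ q₂ a) (hb : Good q₁ q₂ b) : Good q₁ q₂ (a * b) := by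
  obtain ⟨c, s₁, s₂, h1, h2, h⟩ := ha
  obtain ⟨d, t₁, t₂, h1', h2', h'⟩ := hb
  refine ⟨c * d, s₁ * t₁, s₂ * t₂, fun h => (Ideal.IsPrime.mem_or_mem ‹_› h).elim h1 h1',
    fun h => (Ideal.IsPrime.mem_or_mem ‹_› h).elim h2 h2', ?_⟩
  calc a * b * (c * d) = (a * c) * (b * d) := by ring
    _ = (s₁ * s₂) * (t₁ * t₂) := by rw [h, h']
    _ = _ := by ring

omit [q₁.IsPrime] [q₂.IsPrime] in
lemma Good.of_mul {a b : integralClosure P Ω} (h : Good q₁ q₂ (a * b)) : Good q₁ q₂ a := by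
  obtain ⟨c, s₁, s₂, h1, h2, h⟩ := h
  exact ⟨b * c, s₁, s₂, h1, h2, by rw [← h]; ring⟩

/-- The quadratic trick. -/
theorem good_or [IsAlgClosed Ω] {s₁ s₂ : integralClosure P Ω} (h₁ : s₁ ∉ q₁) (h₂ : s₂ ∉ q₂)
    (x : integralClosure P Ω) : Good q₁ q₂ x ∨ Good q₁ q₂ (s₁ * s₂ - x) := by
  obtain ⟨z, hz⟩ : ∃ z : integralClosure P Ω, z * z - (s₁ + s₂) * z + x = 0 := by
    let f : Polynomial Ω := X ^ 2 - C ((s₁ : Ω) + s₂) * X + C (x : Ω)
    have hd : f.natDegree = 2 := by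
      simp only [f]
      compute_degree!
    obtain ⟨z, hz⟩ := IsAlgClosed.exists_root f (by
      rw [degree_eq_natDegree (by
        intro h
        rw [h, natDegree_zero] at hd
        exact absurd hd (by norm_num)), hd]
      norm_num)
    have h1 : z * z - ((s₁ : Ω) + s₂) * z + x = 0 := by
      have := hz.eq_zero
      simp only [f, eval_add, eval_sub, eval_mul, eval_pow, eval_X, eval_C] at this
      rw [← this]
      ring
    have h2 : IsIntegral (integralClosure P Ω) z := by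
      refine ⟨X ^ 2 - C (s₁ + s₂) * X + C x, ?_, ?_⟩
      · refine monic_of_natDegree_le_of_coeff_eq_one 2 ?_ ?_
        · compute_degree
        · simp [coeff_X, coeff_C]
      · simp only [eval₂_add, eval₂_sub, eval₂_mul, eval₂_pow, eval₂_X, eval₂_C]
        rw [← h1]
        change z ^ 2 - ((s₁ : Ω) + s₂) * z + x = _
        ring
    have h3 : IsIntegral P z := isIntegral_trans (R := P) (A := integralClosure P Ω) _ h2
    exact ⟨⟨z, h3⟩, Subtype.ext h1⟩
  have hx : x = z * (s₁ + s₂ - z) := by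
    have := eq_neg_of_add_eq_zero_right hz
    rw [this]
    ring
  have hx' : s₁ * s₂ - x = (z - s₁) * (z - s₂) := by
    rw [hx]
    ring
  by_cases hz1 : z ∈ q₁ ∧ z ∈ q₂
  · right
    rw [hx']
    refine (good_left fun h => h₁ ?_).mul (good_right fun h => h₂ ?_)
    · have := q₁.sub_mem hz1.1 h
      simpa using this
    · have := q₂.sub_mem hz1.2 h
      simpa using this
  by_cases hz2 : (s₁ + s₂ - z) ∈ q₁ ∧ (s₁ + s₂ - z) ∈ q₂
  · right
    rw [hx']
    refine (good_right fun h => h₂ ?_).mul (good_left fun h => h₁ ?_)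
    · have := q₂.add_mem hz2.2 h
      have e : s₁ + s₂ - z + (z - s₁) = s₂ := by ring
      rwa [e] at this
    · have := q₁.add_mem hz2.1 h
      have e : s₁ + s₂ - z + (z - s₂) = s₁ := by ring
      rwa [e] at this
  · left
    rw [hx]
    rw [not_and_or] at hz1 hz2
    refine Good.mul ?_ ?_
    · exact hz1.elim good_left good_right
    · exact hz2.elim good_left good_right

variable (q₁ q₂) [IsAlgClosed Ω]

/-- The join prime. -/
def jn : Ideal (integralClosure P Ω) where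
  carrier := {a | ¬ Good q₁ q₂ a}
  zero_mem' := by
    rintro ⟨c, s₁, s₂, h1, h2, h⟩
    rw [zero_mul] at h
    rcases mul_eq_zero.1 h.symm with h0 | h0
    · exact h1 (h0 ▸ q₁.zero_mem)
    · exact h2 (h0 ▸ q₂.zero_mem)
  add_mem' := by
    rintro a b ha hb ⟨c, s₁, s₂, h1, h2, h⟩
    rcases good_or h1 h2 (a * c) with h3 | h3
    · exact ha h3.of_mul
    · rw [← h] at h3
      have e : (a + b) * c - a * c = b * c := by ring
      rw [e] at h3
      exact hb h3.of_mul
  smul_mem' := by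
    rintro c a ha h
    rw [smul_eq_mul, mul_comm] at h
    exact ha h.of_mul

lemma mem_jn_iff (a : integralClosure P Ω) : a ∈ jn q₁ q₂ ↔ ¬ Good q₁ q₂ a := Iff.rfl

instance isPrime_jn : (jn q₁ q₂).IsPrime := by
  refine ⟨(Ideal.ne_top_iff_one _).2 ?_, ?_⟩
  · rw [mem_jn_iff, not_not]
    exact good_left one_notMem
  · intro a b h
    rw [mem_jn_iff] at h
    by_contra hn
    rw [not_or, mem_jn_iff, mem_jn_iff, not_not, not_not] at hn
    exact h (hn.1.mul hn.2)

lemma mem_loc_jn_iff {x : Ω} : x ∈ loc (jn q₁ q₂) ↔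
    ∃ a s₁ s₂ : integralClosure P Ω, s₁ ∉ q₁ ∧ s₂ ∉ q₂ ∧ (s₁ : Ω) * s₂ * x = a := by
  constructor
  · rintro ⟨a, s, hs, h⟩
    rw [mem_jn_iff, not_not] at hs
    obtain ⟨c, s₁, s₂, h1, h2, h3⟩ := hs
    refine ⟨a * c, s₁, s₂, h1, h2, ?_⟩
    have h4 : (s₁ : Ω) * s₂ = s * c := by
      have := congrArg (algebraMap _ Ω) h3.symm
      rwa [map_mul, map_mul] at this
    rw [h4]
    push_cast
    rw [← h]
    ring
  · rintro ⟨a, s₁, s₂, h1, h2, h⟩
    refine ⟨a, s₁ * s₂, ?_, by push_cast; exact h⟩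
    rw [mem_jn_iff, not_not]
    exact (good_left h1).mul (good_right h2)

lemma loc_le_loc_jn_left : loc q₁ ≤ loc (jn q₁ q₂) := by
  rintro x ⟨a, s, hs, h⟩
  rw [mem_loc_jn_iff]
  exact ⟨a, s, 1, hs, one_notMem, by rw [← h]; push_cast; ring⟩

lemma loc_le_loc_jn_right : loc q₂ ≤ loc (jn q₁ q₂) := by
  rintro x ⟨a, s, hs, h⟩
  rw [mem_loc_jn_iff]
  exact ⟨a, 1, s, one_notMem, hs, by rw [← h]; push_cast; ring⟩

end

end K301.Join
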