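import Groth.Agent.EtCore.K301.JoinSep

/-!
# Roots in `L` of a separable polynomial: the incomparable case
-/

set_option autoImplicit false
universe u

open Polynomial IsLocalRing

namespace K301.Join

variable {P Ω : Type u} [CommRing P] [Field Ω] [Algebra P Ω] 

/-- The root of the deformed polynomial. -/
theorem exists_beta [FaithfulSMul P Ω] [IsAlgClosed Ω] [CharZero Ω] [Algebra.IsAlgebraic P Ω]
    {L : Subfield Ω} (hL : ∀ r : P, algebraMap P Ω r ∈ L)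
    {q₁ q₂ : Ideal (integralClosure P Ω)} [q₁.IsPrime] [q₂.IsPrime] (h₂ : Stab L q₂)
    (F : Polynomial Ω) {n : ℕ} (hn : 0 < n) (hFn : F.coeff n = 1) (hFd : F.natDegree ≤ n)
    (hF₁ : ∀ i, F.coeff i ∈ loc q₁) (hF₂ : ∀ i, F.coeff i ∈ loc q₂) (hFL : ∀ i, F.coeff i ∈ L)
    {A B : Ω} (hAL : A ∈ L) (hBL : B ∈ L) (hA₁ : A ∈ loc q₁) (hB₂ : B ∈ loc q₂)
    (h11 : ¬ IsMx q₁ A) (h12 : IsMx q₂ A) (h21 : IsMx q₁ B) (h22 : ¬ IsMx q₂ B) :
    ∃ β ∈ loc q₁, β ∈ L ∧ A * F.eval β = - (B * (β ^ n - β ^ (n - 1))) := by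
  have hA₂ : A ∈ loc q₂ := h12.mem_loc
  have hB₁ : B ∈ loc q₁ := h21.mem_loc
  have hw₁ : ¬ IsMx q₁ (A + B) := not_isMx_add h11 h21
  have hw₂ : ¬ IsMx q₂ (A + B) := by
    rw [add_comm]
    exact not_isMx_add h22 h12
  have hw₁' : A + B ∈ loc q₁ := (loc q₁).add_mem hA₁ hB₁
  have hw₂' : A + B ∈ loc q₂ := (loc q₂).add_mem hA₂ hB₂
  have hw0 := ne_zero_of_not_isMx hw₁
  have hi₁ := inv_mem_of_not_isMx hw₁' hw₁
  have hi₂ := inv_mem_of_not_isMx hw₂' hw₂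
  have hiL : (A + B)⁻¹ ∈ L := L.inv_mem (L.add_mem hAL hBL)
  let h : Polynomial Ω := X ^ n - X ^ (n - 1)
  have hhc : ∀ i, h.coeff i = (if i = n then 1 else 0) - (if i = n - 1 then 1 else 0) := by
    intro i
    simp only [h, coeff_sub, coeff_X_pow]
  have hh : ∀ (S : Subring Ω) (i : ℕ), h.coeff i ∈ S := by
    intro S i
    rw [hhc]
    refine S.sub_mem ?_ ?_
    · split_ifs
      exacts [S.one_mem, S.zero_mem]
    · split_ifs
      exacts [S.one_mem, S.zero_mem]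
  let g : Polynomial Ω := C (A * (A + B)⁻¹) * F + C (B * (A + B)⁻¹) * h
  have hgc : ∀ i, g.coeff i = A * (A + B)⁻¹ * F.coeff i + B * (A + B)⁻¹ * h.coeff i := by
    intro i
    simp only [g, coeff_add, coeff_C_mul]
  have hgm : g.Monic := by
    refine monic_of_natDegree_le_of_coeff_eq_one n ?_ ?_
    · rw [natDegree_le_iff_coeff_eq_zero]
      intro N hN
      rw [hgc, coeff_eq_zero_of_natDegree_lt (hFd.trans_lt hN), hhc, if_neg (by omega), if_neg (by omega)]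
      ring
    · rw [hgc, hFn, hhc, if_pos rfl, if_neg (by omega)]
      field_simp
      ring
  have hg₁ : ∀ i, g.coeff i ∈ loc q₁ := fun i => by
    rw [hgc]
    exact (loc q₁).add_mem ((loc q₁).mul_mem ((loc q₁).mul_mem hA₁ hi₁) (hF₁ i))
      ((loc q₁).mul_mem ((loc q₁).mul_mem hB₁ hi₁) (hh (loc q₁).toSubring i))
  have hg₂ : ∀ i, g.coeff i ∈ loc q₂ := fun i => by
    rw [hgc]
    exact (loc q₂).add_mem ((loc q₂).mul_mem ((loc q₂).mul_mem hA₂ hi₂) (hF₂ i))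
      ((loc q₂).mul_mem ((loc q₂).mul_mem hB₂ hi₂) (hh (loc q₂).toSubring i))
  have hgL : ∀ i, g.coeff i ∈ L := fun i => by
    rw [hgc]
    exact L.add_mem (L.mul_mem (L.mul_mem hAL hiL) (hFL i)) (L.mul_mem (L.mul_mem hBL hiL) (hh L.toSubring i))
  have hA₂' : IsMx q₂ (A * (A + B)⁻¹) := h12.mul hi₂
  obtain ⟨β, -, hβL, hβ0, -⟩ := hensel_stab hL h₂ g hgm hg₂ hgL (a₀ := 1) (loc q₂).one_mem L.one_mem (by
    have e : g.eval 1 = A * (A + B)⁻¹ * F.eval 1 := by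
      simp [g, h]
    rw [e]
    exact hA₂'.mul (eval_mem_of_coeff _ _ hF₂ (loc q₂).one_mem)) (by
    have e : g.derivative.eval 1 = B * (A + B)⁻¹ + A * (A + B)⁻¹ * F.derivative.eval 1 := by
      have e1 : h.derivative.eval 1 = 1 := by
        simp only [h, derivative_sub, derivative_X_pow, eval_sub, eval_mul, eval_C, eval_pow, eval_X, one_pow,
          mul_one]
        obtain ⟨m, rfl⟩ := Nat.exists_eq_add_of_lt hn
        simp
      simp only [g, derivative_add, derivative_C_mul, eval_add, eval_mul, eval_C, e1, mul_one]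
      ring
    rw [e]
    refine not_isMx_add ?_ (hA₂'.mul (eval_mem_of_coeff _ _ (coeff_derivative_mem _ _ hF₂) (loc q₂).one_mem))
    rw [isMx_mul_iff hB₂ hi₂, not_or]
    refine ⟨h22, not_isMx_of_inv_mem (inv_ne_zero hw0) ?_⟩
    rw [inv_inv]
    exact hw₂')
  refine ⟨β, root_mem_loc g hgm hg₁ hβ0, hβL, ?_⟩
  have h1 : A * (A + B)⁻¹ * F.eval β + B * (A + B)⁻¹ * (β ^ n - β ^ (n - 1)) = 0 := by
    rw [← hβ0]
    simp [g, h]
  have h2 : (A + B) * (A * (A + B)⁻¹ * F.eval β + B * (A + B)⁻¹ * (β ^ n - β ^ (n - 1))) =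
      A * F.eval β + B * (β ^ n - β ^ (n - 1)) := by
    field_simp
  rw [h1, mul_zero] at h2
  exact eq_neg_of_add_eq_zero_left h2.symm

/-- A separable polynomial has a root in `L`: the incomparable case. -/
theorem exists_root_of_incomparable [FaithfulSMul P Ω] [IsAlgClosed Ω] [CharZero Ω] [Algebra.IsAlgebraic P Ω]
    {L : Subfield Ω} (hL : ∀ r : P, algebraMap P Ω r ∈ L)
    {q₁ q₂ : Ideal (integralClosure P Ω)} [q₁.IsPrime] [q₂.IsPrime] (h₁ : Stab L q₁) (h₂ : Stab L q₂)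
    (f u v : Polynomial Ω) (hf : f.Monic) (hd : 0 < f.natDegree) (huv : u * f + v * f.derivative = 1)
    (hfL : ∀ i, f.coeff i ∈ L) (huL : ∀ i, u.coeff i ∈ L) (hvL : ∀ i, v.coeff i ∈ L)
    {T₁ T₂ : Ω} (hT₁L : T₁ ∈ L) (hT₂L : T₂ ∈ L) (hT₁i : IsIntegral P T₁) (hT₂i : IsIntegral P T₂)
    (h11 : ¬ IsMx q₁ T₁) (h12 : IsMx q₂ T₁) (h21 : IsMx q₁ T₂) (h22 : ¬ IsMx q₂ T₂)
    (hfi : ∀ i, IsIntegral P (T₁ * T₂ * f.coeff i)) (hui : ∀ i, IsIntegral P (T₁ * T₂ * u.coeff i))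
    (hvi : ∀ i, IsIntegral P (T₁ * T₂ * v.coeff i)) : ∃ a ∈ L, f.eval a = 0 := by
  have hT₁0 := ne_zero_of_not_isMx h11
  have hT₂0 := ne_zero_of_not_isMx h22
  set T := T₁ * T₂ with hTdef
  have hT0 : T ≠ 0 := mul_ne_zero hT₁0 hT₂0
  have hTi : IsIntegral P T := hT₁i.mul hT₂i
  have hTL : T ∈ L := L.mul_mem hT₁L hT₂L
  set F := sc T f with hF
  set n := f.natDegree with hn
  have hF₁ : ∀ i, F.coeff i ∈ loc q₁ := sc_coeff_mem _ (mem_loc_of_isIntegral hTi) hT0 hf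
    fun i => mem_loc_of_isIntegral (hfi i)
  have hF₂ : ∀ i, F.coeff i ∈ loc q₂ := sc_coeff_mem _ (mem_loc_of_isIntegral hTi) hT0 hf
    fun i => mem_loc_of_isIntegral (hfi i)
  have hFL : ∀ i, F.coeff i ∈ L := sc_coeff_mem (LS L hL) hTL hT0 hf fun i => L.mul_mem hTL (hfL i)
  set d := max u.natDegree v.natDegree with hd'
  set E := n + d + 1 with hE
  have hT₁₁ : T₁ ∈ loc q₁ := mem_loc_of_isIntegral hT₁i
  have hT₂₂ : T₂ ∈ loc q₂ := mem_loc_of_isIntegral hT₂i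
  obtain ⟨β, hβ₁, hβL, hβ⟩ := exists_beta hL h₂ F hd (sc_coeff_natDegree hT0 hf) (sc_natDegree_le hT0 f) hF₁ hF₂ hFL
    (A := T₁ ^ (2 * E + 1)) (B := T₂ ^ (2 * E + 1)) (L.pow_mem hT₁L _) (L.pow_mem hT₂L _)
    ((loc q₁).pow_mem hT₁₁ _) ((loc q₂).pow_mem hT₂₂ _)
    (not_isMx_pow hT₁₁ h11 _) (isMx_pow h12 (by omega)) (isMx_pow h21 (by omega)) (not_isMx_pow hT₂₂ h22 _)
  -- membership in `M = loc q₁ ⊓ L`
  let M : Subalgebra P Ω := loc q₁ ⊓ LS L hL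
  have hβM : β ∈ M := ⟨hβ₁, hβL⟩
  have hTM : T ∈ M := ⟨mem_loc_of_isIntegral hTi, hTL⟩
  have hT₁M : T₁ ∈ M := ⟨hT₁₁, hT₁L⟩
  have hT₂M : T₂ ∈ M := ⟨h21.mem_loc, hT₂L⟩
  have hinvM : ∀ x ∈ M, ¬ IsMx q₁ x → x⁻¹ ∈ M := fun x hx h => ⟨inv_mem_of_not_isMx hx.1 h, L.inv_mem hx.2⟩
  have hFM : ∀ i, F.coeff i ∈ M := fun i => ⟨hF₁ i, hFL i⟩
  set ε : Ω := - (β ^ n - β ^ (n - 1)) * (T₁ ^ (2 * E + 1))⁻¹ with hε
  have hεM : ε ∈ M := M.mul_mem (M.neg_mem (M.sub_mem (M.pow_mem hβM _) (M.pow_mem hβM _)))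
    (hinvM _ (M.pow_mem hT₁M _) (not_isMx_pow hT₁₁ h11 _))
  have hFβ : F.eval β = T₂ ^ (2 * E + 1) * ε := by
    have h0 : T₁ ^ (2 * E + 1) ≠ 0 := pow_ne_zero _ hT₁0
    apply mul_left_cancel₀ h0
    rw [hβ, hε]
    field_simp
  set δ : Ω := F.derivative.eval β with hδ
  have hδM : δ ∈ M := eval_mem_of_coeff M _ (coeff_derivative_mem M F hFM) hβM
  set U : Ω := T ^ (d + 1) * u.eval (β / T) with hU
  have hUM : U ∈ M := pow_mul_eval_mem M hTM hT0 u (fun i => ⟨mem_loc_of_isIntegral (hui i),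
    L.mul_mem hTL (huL i)⟩) (le_max_left _ _) hβM
  set V : Ω := T * (T ^ (d + 1) * v.eval (β / T)) with hV
  have hVM : V ∈ M := M.mul_mem hTM (pow_mul_eval_mem M hTM hT0 v (fun i => ⟨mem_loc_of_isIntegral (hvi i),
    L.mul_mem hTL (hvL i)⟩) (le_max_right _ _) hβM)
  have hrel : U * F.eval β + V * δ = T ^ E := by
    have h1 : u.eval (β / T) * f.eval (β / T) + v.eval (β / T) * f.derivative.eval (β / T) = 1 := by
      have := congrArg (eval (β / T)) huv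
      simpa only [eval_add, eval_mul, eval_one] using this
    rw [hδ, hF, sc_eval hT0, sc_derivative_eval hT0, hU, hV, ← hn]
    calc T ^ (d + 1) * eval (β / T) u * (T ^ n * eval (β / T) f) +
          T * (T ^ (d + 1) * eval (β / T) v) * (T ^ n * T⁻¹ * eval (β / T) (derivative f))
        = T ^ E * (u.eval (β / T) * f.eval (β / T) + v.eval (β / T) * f.derivative.eval (β / T)) := by
          rw [hE]
          field_simp
          ring
      _ = T ^ E := by rw [h1, mul_one]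
  set η : Ω := T₁ ^ E - U * T₂ ^ (E + 1) * ε with hη
  have hVδ : V * δ = T₂ ^ E * η := by
    have h1 : V * δ = T ^ E - U * F.eval β := by rw [← hrel]; ring
    rw [h1, hFβ, hη, hTdef, mul_pow]
    ring
  have hη₁ : ¬ IsMx q₁ η := by
    rw [hη, sub_eq_add_neg]
    refine not_isMx_add (not_isMx_pow hT₁₁ h11 _) (IsMx.neg ?_)
    exact ((isMx_pow h21 (Nat.succ_ne_zero E)).mul_left hUM.1).mul hεM.1
  have hηM : η ∈ M := M.sub_mem (M.pow_mem hT₁M _) (M.mul_mem (M.mul_mem hUM (M.pow_mem hT₂M _)) hεM)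
  have hη0 := ne_zero_of_not_isMx hη₁
  have hηi := hinvM η hηM hη₁
  set κ : Ω := T₂ * (V ^ 2 * (η⁻¹) ^ 2 * ε) with hκ
  have hκM : V ^ 2 * (η⁻¹) ^ 2 * ε ∈ M := M.mul_mem (M.mul_mem (M.pow_mem hVM _) (M.pow_mem hηi _)) hεM
  have hκ₁ : IsMx q₁ κ := h21.mul hκM.1
  have hκ2 : F.eval β = δ ^ 2 * κ := by
    have h1 : δ ^ 2 * κ = T₂ * (V * δ * η⁻¹) ^ 2 * ε := by
      rw [hκ]
      ring
    rw [h1, hVδ, hFβ, mul_assoc (T₂ ^ E), mul_inv_cancel₀ hη0, mul_one]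
    ring
  -- Newton–Hensel in `M`
  obtain ⟨hH, hmx⟩ := henselian_inf hL h₁
  have hl : F ∈ lifts (algebraMap M Ω) := by
    rw [lifts_iff_coeff_lifts]
    exact fun i => ⟨⟨_, hFM i⟩, rfl⟩
  obtain ⟨F', hF'⟩ := (mem_lifts F).1 hl
  have hev : ∀ (g : Polynomial M) (a : M), (g.map (algebraMap M Ω)).eval (a : Ω) = ((g.eval a : M) : Ω) :=
    fun g a => eval_map_apply (algebraMap M Ω) a
  have hδ' : ((F'.derivative.eval ⟨β, hβM⟩ : M) : Ω) = δ := by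
    rw [← hev F'.derivative ⟨β, hβM⟩, ← derivative_map, hF']
  obtain ⟨y, hy⟩ := newton_hensel M F' ⟨β, hβM⟩ ⟨κ, M.mul_mem hT₂M hκM⟩ ((hmx _).2 hκ₁) (by
    apply Subtype.ext
    rw [← hev F' ⟨β, hβM⟩, hF']
    change F.eval β = ((F'.derivative.eval ⟨β, hβM⟩ : M) : Ω) ^ 2 * κ
    rw [hδ', hκ2])
  have hγ : F.eval (β + δ * y) = 0 := by
    have h1 := congrArg Subtype.val hy
    rw [← hev F' _, hF'] at h1
    have h2 : (((⟨β, hβM⟩ : M) + F'.derivative.eval ⟨β, hβM⟩ * y : M) : Ω) = β + δ * y := by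
      rw [← hδ']
      rfl
    rw [h2] at h1
    exact h1
  refine ⟨(β + δ * y) / T, L.div_mem (L.add_mem hβL (L.mul_mem hδM.2 y.2.2)) hTL, ?_⟩
  rw [hF, sc_eval hT0] at hγ
  exact (mul_eq_zero.1 hγ).resolve_left (pow_ne_zero _ hT0)

end K301.Join
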