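import Groth.Agent.EtCore.K301.JoinInt
import Groth.Agent.S0498
import Mathlib.Algebra.Polynomial.Taylor

/-!
# Roots in `L` of a separable polynomial over a join of incomparable strict henselizations
-/

set_option autoImplicit false
universe u

open Polynomial IsLocalRing

namespace K301.Join

/-- Newton–Hensel lemma. -/
theorem newton_hensel (R : Type u) [CommRing R] [HenselianLocalRing R] (f : R[X]) (β κ : R)
    (hκ : κ ∈ maximalIdeal R) (h : f.eval β = (f.derivative.eval β) ^ 2 * κ) :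
    ∃ y : R, f.eval (β + f.derivative.eval β * y) = 0 := by
  set δ := f.derivative.eval β with hδ
  let p := taylor β f
  let G := p.divX.divX
  have hp0 : p.coeff 0 = f.eval β := taylor_coeff_zero β f
  have hp1 : p.divX.coeff 0 = δ := by
    rw [coeff_divX]
    exact taylor_coeff_one β f
  have hp : p = p.divX * X + C (p.coeff 0) := (divX_mul_X_add p).symm
  have hp' : p.divX = G * X + C (p.divX.coeff 0) := (divX_mul_X_add p.divX).symm
  let F : R[X] := C κ + X + X ^ 2 * G.comp (C δ * X)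
  obtain ⟨y, hy, -⟩ := Groth.Agent.S0498.result R F 0 (by
    simp only [F, eval₂_add, eval₂_mul, eval₂_pow, eval₂_X, eval₂_C]
    rw [(residue_eq_zero_iff κ).2 hκ]
    ring) (by
    simp only [F, derivative_add, derivative_mul, derivative_X_pow, derivative_C, derivative_X, eval₂_add, eval₂_mul,
      eval₂_pow, eval₂_X, eval₂_C, eval₂_zero, eval₂_one]
    norm_num)
  refine ⟨y, ?_⟩
  have h1 : ∀ z : R, f.eval (β + z) = f.eval β + δ * z + z ^ 2 * G.eval z := by
    intro z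
    have h2 : p.eval z = f.eval (z + β) := taylor_eval β f z
    rw [add_comm β z, ← h2, hp, hp', hp1, hp0]
    simp only [eval_add, eval_mul, eval_X, eval_C]
    ring
  rw [h1, h]
  have h3 : κ + y + y ^ 2 * G.eval (δ * y) = 0 := by
    have := hy.eq_zero
    simp only [F, eval_add, eval_mul, eval_pow, eval_X, eval_C, eval_comp] at this
    exact this
  calc δ ^ 2 * κ + δ * (δ * y) + (δ * y) ^ 2 * G.eval (δ * y)
      = δ ^ 2 * (κ + y + y ^ 2 * G.eval (δ * y)) := by ring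
    _ = 0 := by rw [h3, mul_zero]

variable {P Ω : Type u} [CommRing P] [Field Ω] [Algebra P Ω] 

/-- A subfield containing `P` as a subalgebra. -/
def LS (L : Subfield Ω) (hL : ∀ r : P, algebraMap P Ω r ∈ L) : Subalgebra P Ω :=
  { L.toSubring with algebraMap_mem' := hL }

lemma mem_LS_iff (L : Subfield Ω) (hL : ∀ r : P, algebraMap P Ω r ∈ L) (x : Ω) : x ∈ LS L hL ↔ x ∈ L := Iff.rfl

/-- `loc q ∩ L` is henselian. -/
theorem henselian_inf [FaithfulSMul P Ω] [IsAlgClosed Ω] [CharZero Ω] [Algebra.IsAlgebraic P Ω]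
    {L : Subfield Ω} (hL : ∀ r : P, algebraMap P Ω r ∈ L)
    {q : Ideal (integralClosure P Ω)} [q.IsPrime] (hq : Stab L q) :
    ∃ _ : HenselianLocalRing (loc q ⊓ LS L hL : Subalgebra P Ω), ∀ x : (loc q ⊓ LS L hL : Subalgebra P Ω),
      x ∈ maximalIdeal (loc q ⊓ LS L hL : Subalgebra P Ω) ↔ IsMx q (x : Ω) := by
  have hO : loc q ⊓ LS L hL ≤ loc q := inf_le_left
  have hinv : ∀ x ∈ loc q ⊓ LS L hL, ¬ IsMx q x → x⁻¹ ∈ loc q ⊓ LS L hL := fun x hx h =>
    ⟨inv_mem_of_not_isMx hx.1 h, L.inv_mem hx.2⟩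
  obtain ⟨hloc, hmx⟩ := isLocalRing_of _ hO hinv
  have hinj : Function.Injective (algebraMap (loc q ⊓ LS L hL : Subalgebra P Ω) Ω) := Subtype.val_injective
  refine ⟨⟨?_⟩, hmx⟩
  intro f hf a₀ h0 hd
  have hev : ∀ (f : Polynomial (loc q ⊓ LS L hL : Subalgebra P Ω)) (a : (loc q ⊓ LS L hL : Subalgebra P Ω)),
      (f.map (algebraMap _ Ω)).eval (a : Ω) = ((f.eval a : (loc q ⊓ LS L hL : Subalgebra P Ω)) : Ω) :=
    fun f a => eval_map_apply (algebraMap _ Ω) a
  obtain ⟨a, ha, haL, h5, h6⟩ := hensel_stab hL hq (f.map (algebraMap _ Ω)) (hf.map _) (fun n => by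
    rw [coeff_map]
    exact (f.coeff n).2.1) (fun n => by
    rw [coeff_map]
    exact (f.coeff n).2.2) (a₀ := a₀) a₀.2.1 a₀.2.2 (by
    rw [hev, ← hmx]
    exact h0) (by
    rw [derivative_map, hev, ← isUnit_iff_not_isMx _ hO hinv]
    exact hd)
  refine ⟨⟨a, ha, haL⟩, ?_, ?_⟩
  · apply hinj
    rw [map_zero]
    exact (hev f ⟨a, ha, haL⟩).symm.trans h5
  · rw [hmx]
    exact h6

section scale

variable (S : Subalgebra P Ω) {T : Ω} (hT : T ∈ S) (hT0 : T ≠ 0)

include hT hT0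

lemma pow_mul_eval_mem (w : Polynomial Ω) (hw : ∀ n, T * w.coeff n ∈ S) {d : ℕ} (hd : w.natDegree ≤ d) {β : Ω}
    (hβ : β ∈ S) : T ^ (d + 1) * w.eval (β / T) ∈ S := by
  rw [eval_eq_sum_range' (Nat.lt_succ_of_le hd), Finset.mul_sum]
  refine S.sum_mem fun i hi => ?_
  have hi' : i ≤ d := Nat.lt_succ_iff.1 (Finset.mem_range.1 hi)
  obtain ⟨k, rfl⟩ := Nat.exists_eq_add_of_le hi'
  have e : T ^ (i + k + 1) * (w.coeff i * (β / T) ^ i) = (T * w.coeff i) * (T ^ k * β ^ i) := by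
    rw [div_pow]
    field_simp
    ring
  rw [e]
  exact S.mul_mem (hw i) (S.mul_mem (S.pow_mem hT _) (S.pow_mem hβ _))

omit hT hT0 in
/-- Scaling the roots. -/
noncomputable def sc (T : Ω) (f : Polynomial Ω) : Polynomial Ω := C (T ^ f.natDegree) * f.comp (C T⁻¹ * X)

omit hT in
lemma sc_coeff (f : Polynomial Ω) (i : ℕ) : (sc T f).coeff i = T ^ f.natDegree * (f.coeff i * (T⁻¹) ^ i) := by
  rw [sc, coeff_C_mul, comp_C_mul_X_coeff]

omit hT in
lemma sc_eval (f : Polynomial Ω) (x : Ω) : (sc T f).eval x = T ^ f.natDegree * f.eval (x / T) := by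
  rw [sc, eval_mul, eval_C, eval_comp, eval_mul, eval_C, eval_X, mul_comm T⁻¹ x, ← div_eq_mul_inv]

omit hT in
lemma sc_derivative_eval (f : Polynomial Ω) (x : Ω) : (sc T f).derivative.eval x =
    T ^ f.natDegree * T⁻¹ * f.derivative.eval (x / T) := by
  rw [sc, derivative_C_mul, derivative_comp, derivative_C_mul, derivative_X, mul_one, eval_mul, eval_C, eval_mul,
    eval_C, eval_comp, eval_mul, eval_C, eval_X, mul_comm T⁻¹ x, ← div_eq_mul_inv]
  ring

omit hT in
lemma sc_coeff_natDegree {f : Polynomial Ω} (hf : f.Monic) : (sc T f).coeff f.natDegree = 1 := by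
  rw [sc_coeff hT0, hf.coeff_natDegree, one_mul, ← mul_pow, mul_inv_cancel₀ hT0, one_pow]

omit hT in
lemma sc_natDegree_le (f : Polynomial Ω) : (sc T f).natDegree ≤ f.natDegree := by
  rw [natDegree_le_iff_coeff_eq_zero]
  intro n hn
  rw [sc_coeff hT0, coeff_eq_zero_of_natDegree_lt hn, zero_mul, mul_zero]

lemma sc_coeff_mem {f : Polynomial Ω} (hf : f.Monic) (hc : ∀ n, T * f.coeff n ∈ S) (i : ℕ) : (sc T f).coeff i ∈ S := by
  rcases lt_trichotomy i f.natDegree with h | h | h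
  · obtain ⟨k, hk⟩ := Nat.exists_eq_add_of_lt h
    rw [sc_coeff hT0, hk]
    have e : T ^ (i + k + 1) * (f.coeff i * (T⁻¹) ^ i) = (T * f.coeff i) * T ^ k := by
      rw [inv_pow]
      field_simp
      ring
    rw [e]
    exact S.mul_mem (hc i) (S.pow_mem hT _)
  · rw [h, sc_coeff_natDegree hT0 hf]
    exact S.one_mem
  · rw [coeff_eq_zero_of_natDegree_lt ((sc_natDegree_le hT0 f).trans_lt h)]
    exact S.zero_mem

end scale

end K301.Join
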