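import Groth.Agent.EtCore.K301.NormCurve
import Groth.Agent.EtCore.K301.NodeFib
import Groth.Agent.Vancyc.H680.Punctual
import Groth.Agent.Etrest.SHPoint
import Groth.Agent.AlgSp.K618.Sch

/-!
# The kernel of `H¹(X, M) → H¹(X', M)` for a curve with exactly one node
-/

set_option autoImplicit false
universe u

open CategoryTheory CategoryTheory.Limits AlgebraicGeometry Opposite CategoryTheory.Abelian TopologicalSpace

namespace K301.NodeCount

open Groth.Agent Groth.Agent.Sga4B.ConstLC Groth.Agent.Etcore.CompSES Groth.Agent.Etcore.CompH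
open Groth.Agent.Models.H73.StalkCount HpullFac Groth.Agent.Sga4B.CurveCard

section Abstract

universe v w

variable {𝒜 : Type u} [Category.{v} 𝒜] [Abelian 𝒜] [HasExt.{w} 𝒜] {S : ShortComplex 𝒜}
  (hS : S.ShortExact) (P : 𝒜)

include hS in
/-- If `H⁰(X₁) → H⁰(X₂)` is bijective by counting, then the kernel of `H¹(X₁) → H¹(X₂)` has the
cardinality of `H⁰(X₃)`. -/
theorem card_ker (h1 : Finite (Ext P S.X₂ 0))
    (h : Nat.card (Ext P S.X₁ 0) = Nat.card (Ext P S.X₂ 0)) :
    Nat.card (po P S.f 1).ker = Nat.card (Ext P S.X₃ 0) := by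
  have hm : Mono S.f := hS.mono_f
  have hinj : Function.Injective (po P S.f 0) := Ext.postcomp_mk₀_injective_of_mono P S.f
  have h2 : Finite (Ext P S.X₁ 0) := Finite.of_injective _ hinj
  have hsurj : Function.Surjective (po P S.f 0) :=
    ((Nat.bijective_iff_injective_and_card _).2 ⟨hinj, h⟩).2
  have h3 : (po P S.g 0).ker = ⊤ := by
    rw [← range_f_eq hS P 0, AddMonoidHom.range_eq_top]
    exact hsurj
  have h4 : (de hS P 0).ker = ⊥ := by
    rw [← range_g_eq hS P 0, eq_bot_iff]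
    rintro _ ⟨x, rfl⟩
    have : x ∈ (po P S.g 0).ker := by rw [h3]; trivial
    rw [AddMonoidHom.mem_ker] at this
    rw [this]
    exact zero_mem _
  have h5 : Function.Injective (de hS P 0) := (AddMonoidHom.ker_eq_bot_iff _).1 h4
  rw [show (po P S.f 1).ker = (de hS P 0).range from (range_de_eq hS P 0).symm]
  exact (Nat.card_congr (AddMonoidHom.ofInjective h5).toEquiv).symm

include hS in
theorem surjective_f (n : ℕ) (h0 : Subsingleton (Ext P S.X₃ n)) :
    Function.Surjective (po P S.f n) := by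
  rw [← AddMonoidHom.range_eq_top, range_f_eq hS P n, eq_top_iff]
  intro x _
  exact Subsingleton.elim _ _

end Abstract

variable {k : Type u} [Field k] [IsAlgClosed k] {X X' : Scheme.{u}}
  (f : X ⟶ Spec (CommRingCat.of k)) [LocallyOfFiniteType f] (ν : X' ⟶ X) [IsFinite ν]

include f in
/-- The number of rational points over a rational point with exactly two points in the fibre. -/
theorem card_lifts (z : X) (hz : IsClosed ({z} : Set X)) (x y : X') (hx : ν x = z) (hy : ν y = z)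
    (hxy : x ≠ y) (hall : ∀ w : X', ν w = z → w = x ∨ w = y) (ξ : Spec (CommRingCat.of k) ⟶ X)
    (hξ : ξ ≫ f = 𝟙 _) (hξz : ξ default = z) :
    Nat.card {ζ : Spec (CommRingCat.of k) ⟶ X' // ζ ≫ ν = ξ} = 2 := by
  classical
  have hcl : ∀ w : X', ν w = z → IsClosed ({w} : Set X') := by
    intro w hw
    have h1 : IsClosed (ν ⁻¹' {z}) := hz.preimage ν.continuous
    have h2 : ({w} : Set X') = closure {w} := by
      apply subset_antisymm subset_closure
      intro v hv
      have h3 : w ⤳ v := specializes_iff_mem_closure.2 hv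
      have h4 : ν v = z := h1.closure_subset_iff.2 (by simpa using hw) hv
      exact (K618.Sch.eq_of_specializes_of_eq ν h3 (hw.trans h4.symm)).symm
    rw [h2]
    exact isClosed_closure
  have hext : ∀ ζ ζ' : Spec (CommRingCat.of k) ⟶ X, ζ ≫ f = 𝟙 _ → ζ' ≫ f = 𝟙 _ →
      ζ default = ζ' default → ζ = ζ' := fun ζ ζ' h h' e =>
    Groth.Agent.EtpbcA.GeomSplit.section_ext f ζ ζ' h h' e
  have hlift : ∀ w : X', ν w = z → ∃ ζ : Spec (CommRingCat.of k) ⟶ X', ζ ≫ ν = ξ ∧
      ζ default = w := by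
    intro w hw
    let ζ := pointOfClosedPoint (ν ≫ f) w (hcl w hw)
    have h1 : ζ ≫ (ν ≫ f) = 𝟙 _ := pointOfClosedPoint_comp (ν ≫ f) w _
    have h2 : ζ default = w := pointOfClosedPoint_apply (ν ≫ f) w _ _
    refine ⟨ζ, hext _ _ ?_ hξ ?_, h2⟩
    · rw [Category.assoc, h1]
    · rw [Scheme.Hom.comp_apply, h2, hw, hξz]
  let S : Set X' := {x, y}
  have hmem : ∀ ζ : {ζ : Spec (CommRingCat.of k) ⟶ X' // ζ ≫ ν = ξ}, ζ.1 default ∈ S := by
    intro ζ
    have h1 : ν (ζ.1 default) = z := by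
      rw [← Scheme.Hom.comp_apply, ζ.2, hξz]
    rcases hall _ h1 with h | h
    · exact Or.inl h
    · exact Or.inr h
  have hb : Function.Bijective (fun ζ : {ζ : Spec (CommRingCat.of k) ⟶ X' // ζ ≫ ν = ξ} =>
      (⟨ζ.1 default, hmem ζ⟩ : S)) := by
    constructor
    · rintro ⟨ζ, hζ⟩ ⟨ζ', hζ'⟩ h
      apply Subtype.ext
      refine Groth.Agent.EtpbcA.GeomSplit.section_ext (ν ≫ f) ζ ζ' ?_ ?_ (congrArg Subtype.val h)
      · rw [← Category.assoc, hζ, hξ]
      · rw [← Category.assoc, hζ', hξ]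
    · rintro ⟨w, hw⟩
      have hwz : ν w = z := by
        rcases hw with rfl | rfl
        · exact hx
        · exact hy
      obtain ⟨ζ, h1, h2⟩ := hlift w hwz
      exact ⟨⟨ζ, h1⟩, Subtype.ext h2⟩
  rw [Nat.card_congr (Equiv.ofBijective _ hb), Nat.card_coe_set_eq]
  exact Set.ncard_pair hxy

include f in
/-- The global sections of the cokernel of `M → ν_* M` for a curve with one node. -/
theorem card_H0_coker [Nonempty X] (n : ℕ) (hn : 1 ≤ n) (D : Data (fam ν)) (z : X)
    (hD : (D.T : Set X) = {z}) (hz : IsClosed ({z} : Set X)) (x y : X') (hx : ν x = z)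
    (hy : ν y = z) (hxy : x ≠ y) (hall : ∀ w : X', ν w = z → w = x ∨ w = y) :
    Nat.card (EtCoh.H X (cokernel (φ (fam ν) (ULift.{u + 1} (ZMod n)))) 0) = n := by
  have : NeZero n := ⟨by omega⟩
  let ξ : Spec (CommRingCat.of k) ⟶ X := pointOfClosedPoint f z hz
  have hξ : ξ ≫ f = 𝟙 _ := pointOfClosedPoint_comp f z _
  have hξz : ξ default = z := pointOfClosedPoint_apply f z _ _
  have hse := ses_shortExact (fam ν) (ZMod n) D
  have h1 := card_stalk_coker_mul ν (ZMod n) ξ hse
  rw [card_lifts f ν z hz x y hx hy hxy hall ξ hξ hξz, Nat.card_zmod, pow_two] at h1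
  have h2 : Nat.card ((EtCoh.stalk ξ).obj (cokernel (φ (fam ν) (ULift.{u + 1} (ZMod n)))) :
      AddCommGrpCat.{u + 1}) = n := Nat.eq_of_mul_eq_mul_right (by omega) h1
  have hsupp : EtPBC.supp (cokernel (φ (fam ν) (ULift.{u + 1} (ZMod n)))) ⊆ {ξ default} := by
    rw [hξz, ← hD]
    exact supp_coker (fam ν) (ZMod n) D
  have hsc : IsSepClosed (X.residueField (ξ default)) :=
    CurvesA.ClosedPtSep.isSepClosed_residueField f _ (by rw [hξz]; exact hz)
  have hb := Vancyc.H680.Punctual.germ_bijective ξ (by rw [hξz]; exact hz) hsc _ hsupp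
  refine (Nat.card_congr (Sheaf.H.equiv₀ _ (EtCore.topIsTerminal X)).toEquiv).trans ?_
  exact (Nat.card_congr (Equiv.ofBijective _ hb)).trans h2

include f in
/-- **One node.** -/
theorem main [ConnectedSpace X] [ConnectedSpace X'] (n : ℕ) (hn : 1 ≤ n) (D : Data (fam ν)) (z : X)
    (hD : (D.T : Set X) = {z}) (hz : IsClosed ({z} : Set X)) (x y : X') (hx : ν x = z)
    (hy : ν y = z) (hxy : x ≠ y) (hall : ∀ w : X', ν w = z → w = x ∨ w = y) :
    Function.Surjective (HM (φ (fam ν) (ULift.{u + 1} (ZMod n))) 1) ∧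
      Nat.card (HM (φ (fam ν) (ULift.{u + 1} (ZMod n))) 1).ker = n := by
  have : NeZero n := ⟨by omega⟩
  have hse := ses_shortExact (fam ν) (ZMod n) D
  have e : G (fam ν) (ULift.{u + 1} (ZMod n)) ≅
      (EtCoh.push ν).obj (LC X' (ULift.{u + 1} (ZMod n))) :=
    biproductUniqueIso (S (fam ν) (ULift.{u + 1} (ZMod n)))
  obtain ⟨a⟩ := Etrest.SHPoint.nonempty_H0_const X (ZMod n)
  obtain ⟨b⟩ := Etrest.SHPoint.nonempty_H0_const X' (ZMod n)
  let e1 : EtCoh.H X (LC X (ULift.{u + 1} (ZMod n))) 0 ≃+ ZMod n :=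
    (Sga4B.HTools.HCongr (constIso X (ZMod n)) 0).symm.trans a
  let e2 : EtCoh.H X (G (fam ν) (ULift.{u + 1} (ZMod n))) 0 ≃+ ZMod n :=
    ((Sga4B.HTools.HCongr e 0).trans (HS (fam ν) (ZMod n) 0 0)).trans b
  have hfin : Finite (EtCoh.H X (G (fam ν) (ULift.{u + 1} (ZMod n))) 0) :=
    Finite.of_equiv _ e2.symm.toEquiv
  refine ⟨surjective_f hse (EtCoh.const X ℤ) 1
    (subsingleton_coker (fam ν) (ZMod n) D 1 one_pos), ?_⟩
  refine (card_ker hse (EtCoh.const X ℤ) hfin ?_).trans ?_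
  · exact Nat.card_congr (e1.trans e2.symm).toEquiv
  · exact card_H0_coker f ν n hn D z hD hz x y hx hy hxy hall

end K301.NodeCount
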