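import Groth.Agent.Models.H58.MCLoc
import Groth.Agent.Sga7.H598.Conduct
import Groth.Agent.CurvesB.NodeLike
import Groth.Agent.VarietyA.SmoothReg
import Mathlib.Algebra.Module.Torsion.Basic
import Mathlib.RingTheory.Ideal.GoingUp
import Mathlib.RingTheory.KrullDimension.LocalRing

/-!
# Exactly two points of the normalization lie over a node: algebra
-/

set_option autoImplicit false
universe u

open IsLocalRing

namespace K301.NodeFibAlg

open Groth.Agent Groth.Agent.Models.H73.NodeLocal2 Groth.Agent.Models.H73.NodeLocal4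
open Groth.Agent.Sga7.H598.SNDef Groth.Agent.Sga7.H598.Conduct

section

variable {O A : Type u} [CommRing O] [IsLocalRing O] [IsDomain O] [CommRing A] [IsDomain A]
  [Algebra O A]

/-- A finite birational extension has a nonzero conductor. -/
theorem exists_denom [Module.Finite O A] (hinj : Function.Injective (algebraMap O A))
    (hbir : ∀ a : A, ∃ s : O, s ≠ 0 ∧ ∃ o : O, algebraMap O A o = algebraMap O A s * a) :
    ∃ d : O, d ≠ 0 ∧ ∀ a : A, ∃ o : O, algebraMap O A o = algebraMap O A d * a := by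
  let M := A ⧸ LinearMap.range (Algebra.linearMap O A)
  have hT : Module.IsTorsion O M := by
    intro x
    obtain ⟨a, rfl⟩ := Submodule.Quotient.mk_surjective _ x
    obtain ⟨s, hs, o, ho⟩ := hbir a
    refine ⟨⟨s, mem_nonZeroDivisors_of_ne_zero hs⟩, ?_⟩
    have h1 : (Submodule.Quotient.mk (s • a) : M) = 0 := by
      rw [Submodule.Quotient.mk_eq_zero]
      exact ⟨o, by rw [Algebra.linearMap_apply, ho, Algebra.smul_def]⟩
    exact h1
  obtain ⟨d, hd, hd'⟩ := Submodule.annihilator_top_inter_nonZeroDivisors (M := M) hT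
  refine ⟨d, nonZeroDivisors.ne_zero hd', fun a => ?_⟩
  have h1 : (Submodule.Quotient.mk (d • a) : M) = 0 :=
    (Submodule.mem_annihilator.1 hd) (Submodule.Quotient.mk a : M) trivial
  rw [Submodule.Quotient.mk_eq_zero] at h1
  obtain ⟨o, ho⟩ := h1
  exact ⟨o, by rw [← Algebra.smul_def]; exact ho⟩

/-- Over a seminormal local domain of dimension one, the Jacobson radical of a finite birational
extension is contained in the ring. -/
theorem rad_of_SN [Module.Finite O A] (hinj : Function.Injective (algebraMap O A))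
    (hSN : SN O) (hdim : ∀ P : Ideal A, P.IsPrime → P ≠ ⊥ → P.IsMaximal)
    (hbir : ∀ a : A, ∃ s : O, s ≠ 0 ∧ ∃ o : O, algebraMap O A o = algebraMap O A s * a)
    (a : A) (ha : ∀ P : Ideal A, P.IsMaximal → a ∈ P) : ∃ o : O, algebraMap O A o = a := by
  obtain ⟨d, hd, hd'⟩ := exists_denom hinj hbir
  have hrad := isRadical_cond (R := O) (B := A) hinj hSN
  have hdc : algebraMap O A d ∈ cond O A := by
    intro t
    obtain ⟨o, ho⟩ := hd' t
    exact ⟨o, ho⟩
  have hne : algebraMap O A d ≠ 0 := by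
    rw [Ne, map_eq_zero_iff _ hinj]
    exact hd
  have h1 : a ∈ (cond O A).radical := by
    rw [Ideal.radical_eq_sInf, Ideal.mem_sInf]
    rintro P ⟨hP1, hP2⟩
    apply ha
    apply hdim P hP2
    rintro rfl
    exact hne (hP1 hdc)
  rw [hrad.radical] at h1
  obtain ⟨o, ho⟩ := h1 1
  exact ⟨o, by rw [ho, mul_one]⟩

/-- Nonzero primes of an integral extension of a local domain of dimension one are maximal. -/
theorem isMaximal_of_ne_bot [Algebra.IsIntegral O A] (hinj : Function.Injective (algebraMap O A))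
    (hdim : ringKrullDim O ≤ 1) (P : Ideal A) (hP : P.IsPrime) (hP0 : P ≠ ⊥) : P.IsMaximal := by
  have h1 : P.comap (algebraMap O A) ≠ ⊥ := by
    intro h
    apply hP0
    exact Ideal.eq_bot_of_comap_eq_bot h
  have : Ring.KrullDimLE 1 O := Ring.krullDimLE_iff.mpr hdim
  have h2 := Ring.krullDimLE_one_iff_of_isPrime_bot.mp this (P.comap (algebraMap O A)) h1
    (Ideal.comap_isPrime _ _)
  exact Ideal.isMaximal_of_isIntegral_of_isMaximal_comap P h2

end

theorem not_isRegularLocalRing {O : Type u} [CommRing O] [IsLocalRing O] [IsDomain O]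
    (hdim : ringKrullDim O ≤ 1) (h : ¬ (maximalIdeal O).IsPrincipal) : ¬ IsRegularLocalRing O := by
  intro hreg
  rcases eq_or_ne (maximalIdeal O) ⊥ with h0 | h0
  · apply h
    rw [h0]
    exact bot_isPrincipal
  · have h1 : (1 : WithBot ℕ∞) ≤ ringKrullDim O := by
      by_contra hlt
      have h2 : ringKrullDim O ≤ 0 := by
        have h3 : ringKrullDim O < ((0 : ℕ) : WithBot ℕ∞) + 1 := by
          rw [Nat.cast_zero, zero_add]
          exact not_le.1 hlt
        exact ENat.WithBot.lt_add_one_iff.1 h3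
      have : Ring.KrullDimLE 0 O := Ring.krullDimLE_iff.2 h2
      have h4 : IsField O := Ring.KrullDimLE.isField_of_isDomain
      exact h0 (IsLocalRing.isField_iff_maximalIdeal_eq.1 h4)
    have := VarietyA.SmoothReg.isDiscreteValuationRing_of_isRegularLocalRing O
      (le_antisymm hdim h1)
    exact h (IsPrincipalIdealRing.principal _)

/-- **Exactly two primes lie over the maximal ideal of a nodal point.** -/
theorem exists_two {A₀ B₀ O : Type u} [CommRing A₀] [CommRing B₀] [CommRing O] [IsLocalRing O]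
    [IsDomain O] [IsDomain B₀]
    [IsNoetherianRing A₀] [IsNoetherianRing O] [Algebra A₀ B₀] [Module.Finite A₀ B₀] [Algebra A₀ O]
    (p : Ideal A₀) [hp : p.IsMaximal] [IsLocalization.AtPrime O p]
    (hinj : Function.Injective (algebraMap A₀ B₀))
    (hres : ∀ q : Ideal B₀, q.IsPrime → q.comap (algebraMap A₀ B₀) = p → ∀ b : B₀, ∃ a : A₀,
      b - algebraMap A₀ B₀ a ∈ q)
    (hbir : ∀ b : B₀, ∃ s : A₀, s ≠ 0 ∧ ∃ a : A₀, algebraMap A₀ B₀ a = algebraMap A₀ B₀ s * b)
    (hdvr : ∀ (q : Ideal B₀) (_ : q.IsPrime), q.comap (algebraMap A₀ B₀) = p →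
      ∃ (_ : IsDomain (Localization.AtPrime q)), IsDiscreteValuationRing (Localization.AtPrime q))
    (hG : LocCoh.IsGorensteinLocalRing O) (hdim : ringKrullDim O ≤ 1) (hSN : SN O)
    (hnp : ¬ (maximalIdeal O).IsPrincipal) :
    ∃ q₁ q₂ : Ideal B₀, q₁.IsPrime ∧ q₂.IsPrime ∧ q₁.comap (algebraMap A₀ B₀) = p ∧
      q₂.comap (algebraMap A₀ B₀) = p ∧ q₁ ≠ q₂ ∧
      ∀ q : Ideal B₀, q.IsPrime → q.comap (algebraMap A₀ B₀) = p → q = q₁ ∨ q = q₂ := by
  let A := Localization (Algebra.algebraMapSubmonoid B₀ p.primeCompl)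
  letI : Algebra O A := localizationAlgebra p.primeCompl B₀
  haveI : IsScalarTower A₀ O A := isScalarTower_localizationAlgebra p.primeCompl B₀
  haveI : Module.Finite O A := Module.Finite.of_isLocalization A₀ B₀ p.primeCompl
  have hle : Algebra.algebraMapSubmonoid B₀ p.primeCompl ≤ nonZeroDivisors B₀ := by
    rintro _ ⟨s, hs, rfl⟩
    apply mem_nonZeroDivisors_of_ne_zero
    intro h0
    have : s = 0 := hinj (by rw [h0, map_zero])
    exact hs (this ▸ p.zero_mem)
  have hdA : IsDomain A := IsLocalization.isDomain_of_le_nonZeroDivisors A hle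
  have hinjBA : Function.Injective (algebraMap B₀ A) := IsLocalization.injective A hle
  have hinjOA : Function.Injective (algebraMap O A) := Models.H58.MCLoc.injective_of p hinj
  have hinjAO : Function.Injective (algebraMap A₀ O) := by
    have h1 : Function.Injective (algebraMap A₀ A) := by
      rw [IsScalarTower.algebraMap_eq A₀ B₀ A]
      exact hinjBA.comp hinj
    rw [IsScalarTower.algebraMap_eq A₀ O A, RingHom.coe_comp] at h1
    exact h1.of_comp
  have hbirOA : ∀ a : A, ∃ s : O, s ≠ 0 ∧ ∃ o : O, algebraMap O A o = algebraMap O A s * a := by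
    intro a
    obtain ⟨b, s, hs, hb⟩ := Models.H58.MCLoc.exists_frac (B₀ := B₀) p a
    obtain ⟨t, ht, a', ha'⟩ := hbir b
    have hs0 : s ≠ 0 := fun h => hs (h ▸ p.zero_mem)
    have hdA₀ : IsDomain A₀ := hinj.isDomain (algebraMap A₀ B₀)
    refine ⟨algebraMap A₀ O (t * s), ?_, algebraMap A₀ O a', ?_⟩
    · rw [Ne, map_eq_zero_iff _ hinjAO]
      exact mul_ne_zero ht hs0
    · rw [← IsScalarTower.algebraMap_apply A₀ O A, ← IsScalarTower.algebraMap_apply A₀ O A,
        map_mul, IsScalarTower.algebraMap_apply A₀ B₀ A a', ha', map_mul,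
        ← IsScalarTower.algebraMap_apply A₀ B₀ A, ← hb]
      ring
  have hmaxA : ∀ P : Ideal A, P.IsPrime → P ≠ ⊥ → P.IsMaximal :=
    isMaximal_of_ne_bot hinjOA hdim
  have hrad : ∀ b : B₀, (∀ q : Ideal B₀, q.IsPrime → q.comap (algebraMap A₀ B₀) = p → b ∈ q) →
      ∃ (a : A₀) (s : A₀), s ∉ p ∧ algebraMap A₀ B₀ s * b = algebraMap A₀ B₀ a := by
    intro b hb
    obtain ⟨o, ho⟩ := rad_of_SN hinjOA hSN hmaxA hbirOA (algebraMap B₀ A b) (by
      intro P hP
      have h1 := hb (P.comap (algebraMap B₀ A)) (Ideal.comap_isPrime _ _)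
        (Models.H58.MCLoc.comap_comap_max (O := O) p P (Models.H58.MCLoc.comap_max p P hP))
      exact h1)
    obtain ⟨⟨a, s⟩, hs⟩ := IsLocalization.surj (M := p.primeCompl) o
    refine ⟨a, s.1, s.2, hinjBA ?_⟩
    have h2 := congrArg (algebraMap O A) hs
    rw [map_mul, ho, ← IsScalarTower.algebraMap_apply A₀ O A,
      ← IsScalarTower.algebraMap_apply A₀ O A, IsScalarTower.algebraMap_apply A₀ B₀ A,
      IsScalarTower.algebraMap_apply A₀ B₀ A] at h2
    rw [map_mul, mul_comm]
    exact h2
  have h := Models.H58.MCLoc.mc_of (O := O) (A := A) p hinj hres hrad hdvr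
  have hne : ¬ Function.Surjective (algebraMap O A) := fun hs =>
    not_isRegularLocalRing hdim hnp (regular_of_surjective h hs)
  obtain ⟨f, hf, hf0⟩ : ∃ f ∈ maximalIdeal O, f ≠ 0 := by
    by_contra! hcon
    apply hnp
    have : maximalIdeal O = ⊥ := by
      rw [eq_bot_iff]
      intro x hx
      exact hcon x hx
    rw [this]
    exact bot_isPrincipal
  have hfA : ∀ a : A, f • a = 0 → a = 0 := by
    intro a ha
    rw [Algebra.smul_def, mul_eq_zero] at ha
    refine ha.resolve_left ?_
    rw [map_eq_zero_iff _ hinjOA]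
    exact hf0
  obtain ⟨P, Q, -, hP, hQ, hall, hPQ, -⟩ := h.exists_two hG hdim hf hfA hne
  have hcomap : ∀ P : Ideal A, P.IsMaximal →
      (P.comap (algebraMap B₀ A)).comap (algebraMap A₀ B₀) = p := fun P hP =>
    Models.H58.MCLoc.comap_comap_max (O := O) p P (Models.H58.MCLoc.comap_max p P hP)
  have hmc : ∀ P : Ideal A, (P.comap (algebraMap B₀ A)).map (algebraMap B₀ A) = P := fun P =>
    IsLocalization.map_comap (Algebra.algebraMapSubmonoid B₀ p.primeCompl) A P
  refine ⟨P.comap (algebraMap B₀ A), Q.comap (algebraMap B₀ A), Ideal.comap_isPrime _ _,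
    Ideal.comap_isPrime _ _, hcomap P hP, hcomap Q hQ, ?_, ?_⟩
  · intro e
    apply hPQ
    rw [← hmc P, e, hmc Q]
  · intro q hq hqp
    have hdisj : Disjoint (Algebra.algebraMapSubmonoid B₀ p.primeCompl : Set B₀) q := by
      rw [Set.disjoint_left]
      rintro _ ⟨x, hx, rfl⟩ hxq
      apply hx
      rw [← hqp]
      exact hxq
    have hP' := IsLocalization.isPrime_of_isPrime_disjoint _ A q hq hdisj
    have hPc : Ideal.comap (algebraMap B₀ A) (Ideal.map (algebraMap B₀ A) q) = q :=
      IsLocalization.under_map_of_isPrime_disjoint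
        (Algebra.algebraMapSubmonoid B₀ p.primeCompl) A hq hdisj
    have hPO : (q.map (algebraMap B₀ A)).comap (algebraMap O A) = maximalIdeal O := by
      apply le_antisymm
      · exact IsLocalRing.le_maximalIdeal (Ideal.comap_isPrime _ _).ne_top
      · rw [← IsLocalization.AtPrime.map_eq_maximalIdeal p O, Ideal.map_le_iff_le_comap]
        intro x hx
        rw [Ideal.mem_comap, Ideal.mem_comap, ← IsScalarTower.algebraMap_apply A₀ O A,
          IsScalarTower.algebraMap_apply A₀ B₀ A]
        apply Ideal.mem_map_of_mem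
        rw [← hqp] at hx
        exact hx
    have hPm : (q.map (algebraMap B₀ A)).IsMaximal :=
      Ideal.isMaximal_of_isIntegral_of_isMaximal_comap _ (by rw [hPO]; infer_instance)
    rcases hall _ hPm with e | e
    · left
      rw [← hPc, e]
    · right
      rw [← hPc, e]

end K301.NodeFibAlg
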