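import Groth.Agent.EtCore.K301.HpullFac
import Groth.Agent.Models.H73.CurveCount
import Groth.Agent.Models.H58.NodalGlueGeo
import Groth.Agent.S14625
import Groth.Agent.Sga7.H274.FieldPts

/-!
# `H^q(X, μ_n) → H^q(X', μ_n)` for a finite birational `X' ⟶ X`, `X` a curve over an algebraically closed field
-/

set_option autoImplicit false
universe u

open CategoryTheory CategoryTheory.Limits AlgebraicGeometry Opposite CategoryTheory.Abelian TopologicalSpace

namespace K301.NormCurve

open Groth.Agent Groth.Agent.Sga4B.ConstLC Groth.Agent.Etcore.CompSES Groth.Agent.Etcore.CompH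
open Groth.Agent.Models.H73.StalkCount HpullFac

variable {k : Type u} [Field k] [IsAlgClosed k] {X X' : Scheme.{u}} (f : X ⟶ Spec (CommRingCat.of k))
  [LocallyOfFiniteType f] [QuasiCompact f] [IrreducibleSpace X]
  (hdim : topologicalKrullDim X ≤ 1) (ν : X' ⟶ X) [IsFinite ν]

include f hdim in
/-- The exceptional set of a finite birational morphism to an irreducible curve. -/
theorem exists_data (U : X.Opens) (hU : (U : Set X).Nonempty) [IsIso (ν ∣_ U)] :
    ∃ D : Data (fam ν), (D.T : Set X) = (U : Set X)ᶜ := by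
  have hN : AlgebraicGeometry.IsNoetherian X := Models.H58.NodalGlueGeo.isNoetherian f
  have hd : Dense (U : Set X) := U.isOpen.dense hU
  have h1 : ∀ x ∉ U, IsClosed ({x} : Set X) := fun x hx =>
    Models.H58.NodalGlueGeo.isClosed_of_notMem hdim U hd x hx
  have h2 : IsDominant ν := Models.H58.NodalGlueGeo.isDominant ν U hd
  have h3 := ν.isClosedMap.isClosed_range
  have h4 : Surjective ν :=
    ⟨Set.range_eq_univ.1 (h3.closure_eq.symm.trans ν.denseRange.closure_eq)⟩
  have h5 : ((U : Set X)ᶜ).Finite :=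
    Models.H58.NodalGlueGeo.finite_of_isClosed_singleton U.isOpen.isClosed_compl (fun x hx => h1 x hx)
  exact Models.H73.CurveCount.exists_data f ν U h5 h1

omit [IsFinite ν] [IrreducibleSpace X] in
theorem HE_φ (M : Type) [AddCommGroup M] (q : ℕ) :
    HE (HM (LCres ν (ULift.{u + 1} M)) q) (HM (φ (fam ν) (ULift.{u + 1} M)) q) := by
  let e : G (fam ν) (ULift.{u + 1} M) ≅ (EtCoh.push ν).obj (LC X' (ULift.{u + 1} M)) :=
    { hom := biproduct.π (S (fam ν) (ULift.{u + 1} M)) 0
      inv := biproduct.ι (S (fam ν) (ULift.{u + 1} M)) 0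
      hom_inv_id := by
        have h := biproduct.total (f := S (fam ν) (ULift.{u + 1} M))
        rw [Fintype.sum_unique] at h
        exact h
      inv_hom_id := biproduct.ι_π_self _ _ }
  refine HE_HM _ _ (Iso.refl _) e.symm ?_ q
  rw [Iso.refl_hom, Category.id_comp, Iso.symm_hom, Iso.comp_inv_eq]
  exact (φ_π (fam ν) (ULift.{u + 1} M) 0).symm

include f in
omit [LocallyOfFiniteType f] [QuasiCompact f] [IrreducibleSpace X] in
theorem HE_mu [PreservesFiniteLimits (EtCoh.pull ν)] (n : ℕ) (hn : 1 ≤ n) (hnk : (n : k) ≠ 0)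
    (q : ℕ) :
    HE (EtCore.Hpull ν (EtCoh.mu X n) q) (HM (φ (fam ν) (ULift.{u + 1} (ZMod n))) q) := by
  obtain ⟨e⟩ := Groth.Agent.S14625.result k
    (Sga7.H274.FieldPts.isStrictlyHenselianLocalRing_field k) n hn (isUnit_iff_ne_zero.2 hnk) X f
  exact (HE_Hpull ν e q).trans ((HE_Hpull_const ν (ZMod n) q).trans (HE_φ ν (ZMod n) q))

end K301.NormCurve
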