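import Mathlib.CategoryTheory.Comma.Basic
import Mathlib.CategoryTheory.Adjunction.Basic
import Mathlib.CategoryTheory.Limits.Preserves.Shapes.Pullbacks
import Mathlib.CategoryTheory.Limits.Shapes.Pullback.IsPullback.Basic
import Mathlib.CategoryTheory.Limits.Shapes.IsTerminal

/-!
# Abstract gluing (recollement) along an "open" and a "closed" part

`isEquivalence`: let `iS ⊣ iP`, `jS ⊣ jP` be adjunctions with invertible counits, `iS`, `jS` preserving pullbacks and
jointly reflecting isomorphisms, and `jS (iP M)` terminal for all `M`.  Then `F ↦ (iS F, jS F, iS(F ⟶ jP jS F))` is an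
equivalence to the comma category.
-/

set_option autoImplicit false
universe v₁ v₂ v₃ u₁ u₂ u₃

open CategoryTheory CategoryTheory.Limits

namespace K301.Recoll

variable {B : Type u₁} [Category.{v₁} B] {A : Type u₂} [Category.{v₂} A] {C : Type u₃} [Category.{v₃} C]
  [HasPullbacks B] {iS : B ⥤ A} {iP : A ⥤ B} (adjI : iS ⊣ iP) {jS : B ⥤ C} {jP : C ⥤ B} (adjJ : jS ⊣ jP)

/-- The gluing functor. -/
@[simps]
def glue (adjJ : jS ⊣ jP) (iS : B ⥤ A) : B ⥤ Comma (𝟭 A) (jP ⋙ iS) where
  obj F :=
    { left := iS.obj F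
      right := jS.obj F
      hom := iS.map (adjJ.unit.app F) }
  map {F G} φ :=
    { left := iS.map φ
      right := jS.map φ
      w := by
        dsimp
        rw [← Functor.map_comp, ← Functor.map_comp]
        congr 1
        exact (adjJ.unit.naturality φ) }

section Obj

variable {M : A} {N : C} (φ : M ⟶ iS.obj (jP.obj N))

/-- The glued object. -/
noncomputable abbrev P : B := pullback (iP.map φ) (adjI.unit.app (jP.obj N))

noncomputable abbrev p : P adjI φ ⟶ iP.obj M := pullback.fst _ _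

noncomputable abbrev q : P adjI φ ⟶ jP.obj N := pullback.snd _ _

theorem cond : p adjI φ ≫ iP.map φ = q adjI φ ≫ adjI.unit.app (jP.obj N) := pullback.condition

theorem isIso_iS_unit [∀ M, IsIso (adjI.counit.app M)] (F : B) : IsIso (iS.map (adjI.unit.app F)) := by
  have h := adjI.left_triangle_components F
  exact isIso_of_comp_hom_eq_id _ h

theorem isIso_jS_unit [∀ N, IsIso (adjJ.counit.app N)] (F : B) : IsIso (jS.map (adjJ.unit.app F)) := by
  have h := adjJ.left_triangle_components F
  exact isIso_of_comp_hom_eq_id _ h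

theorem isIso_iS_p [∀ M, IsIso (adjI.counit.app M)] [∀ {X Y Z : B} (f : X ⟶ Z) (g : Y ⟶ Z), PreservesLimit (cospan f g) iS] :
    IsIso (iS.map (p adjI φ)) := by
  have h := (IsPullback.of_hasPullback (iP.map φ) (adjI.unit.app (jP.obj N))).map iS
  have := isIso_iS_unit adjI (jP.obj N)
  exact h.isIso_fst_of_isIso

theorem isIso_jS_q (hz : ∀ M : A, Nonempty (IsTerminal (jS.obj (iP.obj M))))
    [∀ {X Y Z : B} (f : X ⟶ Z) (g : Y ⟶ Z), PreservesLimit (cospan f g) jS] :
    IsIso (jS.map (q adjI φ)) := by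
  have h := (IsPullback.of_hasPullback (iP.map φ) (adjI.unit.app (jP.obj N))).map jS
  obtain ⟨h1⟩ := hz M
  obtain ⟨h2⟩ := hz (iS.obj (jP.obj N))
  have : IsIso (jS.map (iP.map φ)) := isIso_of_isTerminal h1 h2 _
  exact h.isIso_snd_of_isIso

end Obj

variable (hz : ∀ M : A, Nonempty (IsTerminal (jS.obj (iP.obj M))))
  (hc : ∀ {F G : B} (f : F ⟶ G), IsIso (iS.map f) → IsIso (jS.map f) → IsIso f)
  [∀ M, IsIso (adjI.counit.app M)] [∀ N, IsIso (adjJ.counit.app N)]
  [∀ {X Y Z : B} (f : X ⟶ Z) (g : Y ⟶ Z), PreservesLimit (cospan f g) iS]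
  [∀ {X Y Z : B} (f : X ⟶ Z) (g : Y ⟶ Z), PreservesLimit (cospan f g) jS]

/-- The comparison of an object with the glued object. -/
noncomputable def comp (F : B) : F ⟶ P adjI (iS.map (adjJ.unit.app F)) :=
  pullback.lift (adjI.unit.app F) (adjJ.unit.app F) (adjI.unit.naturality (adjJ.unit.app F)).symm

omit [∀ M, IsIso (adjI.counit.app M)] [∀ N, IsIso (adjJ.counit.app N)]
  [∀ {X Y Z : B} (f : X ⟶ Z) (g : Y ⟶ Z), PreservesLimit (cospan f g) iS]
  [∀ {X Y Z : B} (f : X ⟶ Z) (g : Y ⟶ Z), PreservesLimit (cospan f g) jS] in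
@[reassoc] theorem comp_p (F : B) : comp adjI adjJ F ≫ p adjI _ = adjI.unit.app F := pullback.lift_fst _ _ _

omit [∀ M, IsIso (adjI.counit.app M)] [∀ N, IsIso (adjJ.counit.app N)]
  [∀ {X Y Z : B} (f : X ⟶ Z) (g : Y ⟶ Z), PreservesLimit (cospan f g) iS]
  [∀ {X Y Z : B} (f : X ⟶ Z) (g : Y ⟶ Z), PreservesLimit (cospan f g) jS] in
@[reassoc] theorem comp_q (F : B) : comp adjI adjJ F ≫ q adjI _ = adjJ.unit.app F := pullback.lift_snd _ _ _

include hz hc in
theorem isIso_comp (F : B) : IsIso (comp adjI adjJ F) := by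
  apply hc
  · have h1 : iS.map (comp adjI adjJ F) ≫ iS.map (p adjI (iS.map (adjJ.unit.app F))) = iS.map (adjI.unit.app F) := by
      rw [← iS.map_comp, comp_p]
    have := isIso_iS_p adjI (iS.map (adjJ.unit.app F))
    have h2 := isIso_iS_unit adjI F
    rw [← h1] at h2
    exact IsIso.of_isIso_comp_right _ (iS.map (p adjI (iS.map (adjJ.unit.app F))))
  · have h1 : jS.map (comp adjI adjJ F) ≫ jS.map (q adjI (iS.map (adjJ.unit.app F))) = jS.map (adjJ.unit.app F) := by
      rw [← jS.map_comp, comp_q]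
    have : IsIso (jS.map (q adjI (iS.map (adjJ.unit.app F)))) :=
      isIso_jS_q (jS := jS) (jP := jP) adjI (N := jS.obj F) (iS.map (adjJ.unit.app F)) hz
    have h2 := isIso_jS_unit adjJ F
    rw [← h1] at h2
    exact IsIso.of_isIso_comp_right _ (jS.map (q adjI (iS.map (adjJ.unit.app F))))

omit [HasPullbacks B] [∀ M, IsIso (adjI.counit.app M)]
  [∀ {X Y Z : B} (f : X ⟶ Z) (g : Y ⟶ Z), PreservesLimit (cospan f g) iS] in
theorem eq_of_unit_comp {F G : B} (f : F ⟶ G) (a : iS.obj F ⟶ iS.obj G)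
    (h : f ≫ adjI.unit.app G = adjI.unit.app F ≫ iP.map a) : iS.map f = a := by
  apply (adjI.homEquiv _ _).injective
  rw [adjI.homEquiv_unit, adjI.homEquiv_unit, ← h]
  exact (adjI.unit.naturality f).symm

include adjI hz hc in
theorem faithful : (glue adjJ iS).Faithful where
  map_injective {F G f g} h := by
    have := isIso_comp adjI adjJ hz hc G
    rw [← cancel_mono (comp adjI adjJ G)]
    have h1 : iS.map f = iS.map g := congrArg CommaMorphism.left h
    have h2 : jS.map f = jS.map g := congrArg CommaMorphism.right h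
    apply pullback.hom_ext
    · rw [Category.assoc, Category.assoc]
      erw [comp_p]
      have e1 := adjI.unit.naturality f
      have e2 := adjI.unit.naturality g
      dsimp at e1 e2
      rw [e1, e2, h1]
    · rw [Category.assoc, Category.assoc]
      erw [comp_q]
      have e1 := adjJ.unit.naturality f
      have e2 := adjJ.unit.naturality g
      dsimp at e1 e2
      rw [e1, e2, h2]

include adjI hz hc in
theorem exists_hom {F G : B} (a : iS.obj F ⟶ iS.obj G) (b : jS.obj F ⟶ jS.obj G)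
    (hw : a ≫ iS.map (adjJ.unit.app G) = iS.map (adjJ.unit.app F) ≫ iS.map (jP.map b)) :
    ∃ f : F ⟶ G, iS.map f = a ∧ jS.map f = b := by
  have := isIso_comp adjI adjJ hz hc G
  have n1 : adjJ.unit.app F ≫ adjI.unit.app (jP.obj (jS.obj F)) =
    adjI.unit.app F ≫ iP.map (iS.map (adjJ.unit.app F)) := adjI.unit.naturality (adjJ.unit.app F)
  have n2 : jP.map b ≫ adjI.unit.app (jP.obj (jS.obj G)) =
    adjI.unit.app (jP.obj (jS.obj F)) ≫ iP.map (iS.map (jP.map b)) := adjI.unit.naturality (jP.map b)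
  have hcond : (adjI.unit.app F ≫ iP.map a) ≫ iP.map (iS.map (adjJ.unit.app G)) =
      (adjJ.unit.app F ≫ jP.map b) ≫ adjI.unit.app (jP.obj (jS.obj G)) := by
    rw [Category.assoc, ← iP.map_comp, hw, iP.map_comp, Category.assoc, n2, ← Category.assoc,
      ← n1, Category.assoc]
  let l : F ⟶ P adjI (iS.map (adjJ.unit.app G)) :=
    pullback.lift (adjI.unit.app F ≫ iP.map a) (adjJ.unit.app F ≫ jP.map b) hcond
  have l1 : l ≫ p adjI _ = adjI.unit.app F ≫ iP.map a := pullback.lift_fst _ _ _
  have l2 : l ≫ q adjI _ = adjJ.unit.app F ≫ jP.map b := pullback.lift_snd _ _ _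
  have f1 : (l ≫ inv (comp adjI adjJ G)) ≫ adjI.unit.app G = adjI.unit.app F ≫ iP.map a := by
    have h := comp_p adjI adjJ G
    rw [← h, Category.assoc, IsIso.inv_hom_id_assoc, l1]
  have f2 : (l ≫ inv (comp adjI adjJ G)) ≫ adjJ.unit.app G = adjJ.unit.app F ≫ jP.map b := by
    have h := comp_q adjI adjJ G
    have h' : (l ≫ inv (comp adjI adjJ G)) ≫ comp adjI adjJ G ≫ q adjI _ =
        adjJ.unit.app F ≫ jP.map b := by
      rw [Category.assoc, IsIso.inv_hom_id_assoc, l2]
    exact (congrArg (fun k => (l ≫ inv (comp adjI adjJ G)) ≫ k) h).symm.trans h'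
  exact ⟨l ≫ inv (comp adjI adjJ G), eq_of_unit_comp adjI _ _ f1, eq_of_unit_comp adjJ _ _ f2⟩

include adjI hz hc in
theorem full : (glue adjJ iS).Full where
  map_surjective {F G} c := by
    obtain ⟨f, h1, h2⟩ := exists_hom adjI adjJ hz hc (F := F) (G := G) c.left c.right c.w
    exact ⟨f, CommaMorphism.ext h1 h2⟩

include adjI hz in
theorem essSurj : (glue adjJ iS).EssSurj where
  mem_essImage c := by
    let φ : c.left ⟶ iS.obj (jP.obj c.right) := c.hom
    have h1 := isIso_iS_p adjI φ
    have h2 := isIso_jS_q adjI φ hz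
    let e1 : iS.obj (P adjI φ) ≅ c.left :=
      asIso (iS.map (p adjI φ)) ≪≫ asIso (adjI.counit.app c.left)
    let e2 : jS.obj (P adjI φ) ≅ c.right :=
      asIso (jS.map (q adjI φ)) ≪≫ asIso (adjJ.counit.app c.right)
    have he1 : e1.hom = iS.map (p adjI φ) ≫ adjI.counit.app c.left := rfl
    have he2 : e2.hom = jS.map (q adjI φ) ≫ adjJ.counit.app c.right := rfl
    refine ⟨P adjI φ, ⟨Comma.isoMk e1 e2 ?_⟩⟩
    have f1 : adjJ.unit.app (P adjI φ) ≫ jP.map e2.hom = q adjI φ := by
      rw [he2, jP.map_comp, ← Category.assoc]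
      have := adjJ.unit.naturality (q adjI φ)
      dsimp at this
      rw [← this, Category.assoc, adjJ.right_triangle_components, Category.comp_id]
    have f2 : e1.hom ≫ φ = iS.map (q adjI φ) := by
      rw [he1, Category.assoc]
      have n := adjI.counit.naturality φ
      dsimp at n
      rw [← n, ← Category.assoc, ← iS.map_comp, cond, iS.map_comp, Category.assoc,
        adjI.left_triangle_components, Category.comp_id]
    change e1.hom ≫ φ = iS.map (adjJ.unit.app (P adjI φ)) ≫ iS.map (jP.map e2.hom)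
    rw [← iS.map_comp, f1, f2]

include adjI hz hc in
/-- The gluing functor is an equivalence. -/
theorem isEquivalence : (glue adjJ iS).IsEquivalence where
  faithful := faithful adjI adjJ hz hc
  full := full adjI adjJ hz hc
  essSurj := essSurj adjI adjJ hz

end K301.Recoll
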