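import Groth.Agent.Etbase.EtSigma
import Mathlib.AlgebraicGeometry.Limits

/-!
# Étale sheaves of sets on the small étale site: Zariski sheaves with descent along affine surjective maps
-/

set_option autoImplicit false
universe v u w

open CategoryTheory CategoryTheory.Limits AlgebraicGeometry Opposite
open Groth.Agent.Etbase Groth.Agent.Etbase.EtRep Groth.Agent.Etbase.EtSigma

namespace K301.ZarCrit

variable {X : Scheme.{u}}

/-- the small Zariski topology on the category of étale `X`-schemes -/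
abbrev zar (X : Scheme.{u}) : GrothendieckTopology X.Etale :=
  X.smallGrothendieckTopology (P := @IsOpenImmersion)

theorem mem_zar_iff (U : X.Etale) (R : Sieve U) :
    R ∈ zar X U ↔
      ∀ x : U.left, ∃ (V : X.Etale) (g : V ⟶ U) (v : V.left), R g ∧ IsOpenImmersion g.left ∧
        g.left v = x := by
  have eX : zar X = (X.smallPretopology (P := @IsOpenImmersion) (Q := EtCoh.etaleMP)).toGrothendieck :=
    Scheme.smallGrothendieckTopology_eq_toGrothendieck_smallPretopology X
      (fun _ _ f hf => by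
        have : IsOpenImmersion f := hf
        exact (inferInstance : Etale f))
  rw [eX]
  exact Scheme.mem_toGrothendieck_smallPretopology U R

variable {F : (X.Etale)ᵒᵖ ⥤ Type w}

/-- elementwise Zariski sheaf condition -/
theorem zar_glue (hF : Presieve.IsSheaf (zar X) F) {W : X.Etale} {ι : Type v}
    {U : ι → X.Etale} (f : ∀ i, U i ⟶ W) (ho : ∀ i, IsOpenImmersion (f i).left)
    (hf : ∀ t : W.left, ∃ (i : ι) (t' : (U i).left), (f i).left t' = t) (s : ∀ i, F.obj (op (U i)))
    (hs : ∀ (i j : ι) (Z : X.Etale) (gi : Z ⟶ U i) (gj : Z ⟶ U j), gi ≫ f i = gj ≫ f j →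
      F.map gi.op (s i) = F.map gj.op (s j)) :
    ∃! t : F.obj (op W), ∀ i, F.map (f i).op t = s i := by
  have h := hF (Sieve.ofArrows U f) ((mem_zar_iff _ _).2 (fun t => by
      obtain ⟨i, t', h⟩ := hf t
      exact ⟨U i, f i, t', Sieve.ofArrows_mk _ _ i, ho i, h⟩))
  rw [Sieve.ofArrows, ← Presieve.isSheafFor_iff_generate, Presieve.isSheafFor_arrows_iff] at h
  exact h s (fun i j Z gi gj hg => hs i j Z gi gj hg)

/-- elements which agree Zariski locally are equal -/
theorem zar_ext (hF : Presieve.IsSheaf (zar X) F) {T : X.Etale} (a b : F.obj (op T))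
    (h : ∀ t : T.left, ∃ (U : X.Etale) (f : U ⟶ T) (t' : U.left), IsOpenImmersion f.left ∧
      f.left t' = t ∧ F.map f.op a = F.map f.op b) : a = b := by
  choose U f t' ho ht' hab using h
  exact (zar_glue hF f ho (fun t => ⟨t, t' t, ht' t⟩) (fun t => F.map (f t).op b)
    (by
      intro i j Z gi gj hg
      rw [map_map, map_map, hg])).unique (fun i => hab i) (fun i => rfl)

/-- An affine open neighbourhood in the small étale site. -/
theorem exists_affine_nhd (U : X.Etale) (x : U.left) :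
    ∃ (Y : X.Etale) (g : Y ⟶ U) (y : Y.left), IsAffine Y.left ∧ IsOpenImmersion g.left ∧
      g.left y = x := by
  obtain ⟨W, hW, hyW, -⟩ := exists_isAffineOpen_mem_and_subset (U := (⊤ : U.left.Opens)) (x := x)
    trivial
  have : IsAffine (W : Scheme.{u}) := hW
  have hYe : Etale U.hom := U.prop
  let Y' : X.Etale := Scheme.Etale.mk (W.ι ≫ U.hom)
  let k : Y' ⟶ U := MorphismProperty.Over.homMk W.ι rfl
  exact ⟨Y', k, (⟨x, hyW⟩ : W), this, inferInstanceAs (IsOpenImmersion W.ι), rfl⟩

/-- A covering sieve of an affine object contains a finite jointly surjective family of affine objects. -/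
theorem exists_affine_cover {U : X.Etale} [IsAffine U.left] {R : Sieve U}
    (hR : R ∈ X.smallEtaleTopology U) :
    ∃ (T : Type u) (_ : Finite T) (Y : T → X.Etale) (g : ∀ i, Y i ⟶ U), (∀ i, R (g i)) ∧
      (∀ i, IsAffine (Y i).left) ∧ ∀ x : U.left, ∃ (i : T) (y : (Y i).left), (g i).left y = x := by
  rw [EtSite.mem_iff] at hR
  have h1 : ∀ x : U.left, ∃ (V : X.Etale) (g : V ⟶ U) (v : V.left), R g ∧ IsAffine V.left ∧
      g.left v = x := by
    intro x
    obtain ⟨V, g, v, hg, hv⟩ := hR x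
    obtain ⟨Y, k, y, hY, -, hy⟩ := exists_affine_nhd V v
    refine ⟨Y, k ≫ g, y, R.downward_closed hg k, hY, ?_⟩
    rw [← hv, ← hy]
    rfl
  choose Y g y hg hY hy using h1
  have hopen : ∀ x, IsOpen (Set.range (g x).left) := by
    intro x
    have : Etale (g x).left := inferInstance
    exact (g x).left.isOpenMap.isOpen_range
  have hcov : (⋃ x : U.left, Set.range (g x).left) = Set.univ := by
    ext x
    simp only [Set.mem_iUnion, Set.mem_univ, iff_true]
    exact ⟨x, y x, hy x⟩
  obtain ⟨T, hT⟩ := isCompact_univ.elim_finite_subcover (fun x : U.left => Set.range (g x).left)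
    hopen hcov.ge
  refine ⟨ULift.{u} T, inferInstance, fun x => Y x.down, fun x => g x.down, fun x => hg _,
    fun x => hY _, fun x => ?_⟩
  obtain ⟨x', hx', z, hz⟩ : ∃ x' ∈ T, x ∈ Set.range (g x').left := by
    have := hT (Set.mem_univ x)
    simpa using this
  exact ⟨⟨⟨x', hx'⟩⟩, z, hz⟩

/-- pulling back an open immersion in the small étale site -/
theorem exists_open_lift {Z V Y : X.Etale} (p : Z ⟶ V) (k : Y ⟶ V) [IsOpenImmersion k.left]
    (z : Z.left) (y : Y.left) (h : p.left z = k.left y) :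
    ∃ (Z' : X.Etale) (e : Z' ⟶ Z) (q : Z' ⟶ Y) (z' : Z'.left), IsOpenImmersion e.left ∧
      e.left z' = z ∧ e ≫ p = q ≫ k := by
  have : HasPullback p k := inferInstance
  have hp : IsPullback ((Scheme.Etale.forget X).map (pullback.fst p k))
      ((Scheme.Etale.forget X).map (pullback.snd p k))
      ((Scheme.Etale.forget X).map p) ((Scheme.Etale.forget X).map k) :=
    (IsPullback.of_hasPullback p k).map _
  have hp2 : IsPullback (pullback.fst p k).left (pullback.snd p k).left p.left k.left :=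
    hp.map (Over.forget X)
  obtain ⟨x, hx1, -⟩ := Scheme.exists_preimage_of_isPullback hp2 z y h
  exact ⟨pullback p k, pullback.fst p k, pullback.snd p k, x,
    MorphismProperty.of_isPullback hp2.flip ‹_›, hx1, pullback.condition⟩

section

variable (hZ : Presieve.IsSheaf (zar X) F)
  (hA : ∀ (U V : X.Etale) [IsAffine U.left] [IsAffine V.left] (f : V ⟶ U) [Surjective f.left],
    Presieve.IsSheafFor F (Presieve.singleton f))

include hZ

theorem subsingleton_of_isEmpty' (T : X.Etale)
    (h : IsEmpty T.left) : Subsingleton (F.obj (op T)) :=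
  ⟨fun a b => zar_ext hZ a b (fun t => (h.false t).elim)⟩

theorem exists_sect' {ι : Type u} (U : ι → X.Etale)
    (s : ∀ i, F.obj (op (U i))) : ∃ t : F.obj (op (sig U)), ∀ i, F.map (sin U i).op t = s i := by
  obtain ⟨t, ht, -⟩ := zar_glue hZ (sin U) (fun i => inferInstance) (cover U) s (by
    intro i j Z gi gj hg
    by_cases hZe : IsEmpty Z.left
    · exact (subsingleton_of_isEmpty' hZ Z hZe).elim _ _
    · rw [not_isEmpty_iff] at hZe
      obtain ⟨z⟩ := hZe
      have h1 : (sin U i).left (gi.left z) = (sin U j).left (gj.left z) :=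
        congrArg (fun k : Z.left ⟶ (sig U).left => k z) (congrArg (fun k => k.left) hg)
      obtain rfl := eq_of_eq U h1
      rw [cancel_mono] at hg
      rw [hg])
  exact ⟨t, ht⟩

theorem ext_sect' {ι : Type u} (U : ι → X.Etale) (a b : F.obj (op (sig U)))
    (h : ∀ i, F.map (sin U i).op a = F.map (sin U i).op b) : a = b :=
  zar_ext hZ a b (fun t => by
    obtain ⟨i, t', ht⟩ := cover U t
    exact ⟨U i, sin U i, t', inferInstance, ht, h i⟩)

include hA

omit hZ hA in
theorem isAffine_sig {T : Type u} [Finite T] (Y : T → X.Etale) (hY : ∀ i, IsAffine (Y i).left) :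
    IsAffine (sig Y).left := by
  change IsAffine (∐ fun i => (Y i).left)
  infer_instance

omit hZ hA in
theorem surjective_sdesc {T : Type u} {U : X.Etale} (Y : T → X.Etale) (g : ∀ i, Y i ⟶ U)
    (h : ∀ x : U.left, ∃ (i : T) (y : (Y i).left), (g i).left y = x) :
    Surjective (sdesc Y g).left := by
  refine ⟨fun x => ?_⟩
  obtain ⟨i, y, hy⟩ := h x
  refine ⟨(sin Y i).left y, ?_⟩
  rw [← hy, ← Scheme.Hom.comp_apply]
  change (sin Y i ≫ sdesc Y g).left y = _
  rw [sin_sdesc]

theorem sep_affine {U : X.Etale} [IsAffine U.left] {R : Sieve U} (hR : R ∈ X.smallEtaleTopology U)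
    (a b : F.obj (op U)) (h : ∀ (V : X.Etale) (g : V ⟶ U), R g → F.map g.op a = F.map g.op b) :
    a = b := by
  obtain ⟨T, hT, Y, g, hg, hY, hs⟩ := exists_affine_cover hR
  have h1 := isAffine_sig Y hY
  have h2 := surjective_sdesc Y g hs
  have h3 := Presieve.isSeparatedFor_singleton.1 (hA U (sig Y) (sdesc Y g)).isSeparatedFor
  apply h3
  apply ext_sect' hZ
  intro i
  rw [map_map, map_map, sin_sdesc]
  exact h _ _ (hg i)

theorem sep {U : X.Etale} {R : Sieve U} (hR : R ∈ X.smallEtaleTopology U)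
    (a b : F.obj (op U)) (h : ∀ (V : X.Etale) (g : V ⟶ U), R g → F.map g.op a = F.map g.op b) :
    a = b := by
  apply zar_ext hZ
  intro t
  obtain ⟨Y, k, y, hY, ho, hy⟩ := exists_affine_nhd U t
  refine ⟨Y, k, y, ho, hy, ?_⟩
  refine sep_affine hZ hA (X.smallEtaleTopology.pullback_stable k hR) _ _ ?_
  intro V g hg
  rw [map_map, map_map]
  exact h _ _ hg

theorem exist_affine {U : X.Etale} [IsAffine U.left] {R : Sieve U}
    (hR : R ∈ X.smallEtaleTopology U) (x : Presieve.FamilyOfElements F R.arrows)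
    (hx : x.Compatible) :
    ∃ a : F.obj (op U), ∀ (V : X.Etale) (g : V ⟶ U) (hg : R g), F.map g.op a = x g hg := by
  obtain ⟨T, hT, Y, g, hg, hY, hs⟩ := exists_affine_cover hR
  have h1 := isAffine_sig Y hY
  have h2 := surjective_sdesc Y g hs
  obtain ⟨s, hsV⟩ := exists_sect' hZ Y (fun i => x (g i) (hg i))
  obtain ⟨a, ha, -⟩ := Presieve.isSheafFor_singleton.1 (hA U (sig Y) (sdesc Y g)) s (by
    intro Z p₁ p₂ hp
    apply zar_ext hZ
    intro z
    obtain ⟨i, y₁, hy₁⟩ := cover Y (p₁.left z)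
    obtain ⟨j, y₂, hy₂⟩ := cover Y (p₂.left z)
    obtain ⟨Z₁, e₁, q₁, z₁, ho₁, hz₁, hq₁⟩ := exists_open_lift p₁ (sin Y i) z y₁ hy₁.symm
    obtain ⟨Z₂, e₂, q₂, z₂, ho₂, hz₂, hq₂⟩ := exists_open_lift (e₁ ≫ p₂) (sin Y j) z₁ y₂ (by
      change p₂.left (e₁.left z₁) = _
      rw [hz₁, hy₂])
    refine ⟨Z₂, e₂ ≫ e₁, z₂, ?_, ?_, ?_⟩
    · exact inferInstanceAs (IsOpenImmersion (e₂.left ≫ e₁.left))
    · change e₁.left (e₂.left z₂) = _
      rw [hz₂, hz₁]
    · rw [map_map, map_map]
      have f1 : (e₂ ≫ e₁) ≫ p₁ = (e₂ ≫ q₁) ≫ sin Y i := by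
        rw [Category.assoc, hq₁, Category.assoc]
      have f2 : (e₂ ≫ e₁) ≫ p₂ = q₂ ≫ sin Y j := by
        rw [Category.assoc, hq₂]
      have g1 : F.map ((e₂ ≫ q₁) ≫ sin Y i).op s = F.map (e₂ ≫ q₁).op (x (g i) (hg i)) := by
        rw [← map_map (e₂ ≫ q₁) (sin Y i), hsV]
      have g2 : F.map (q₂ ≫ sin Y j).op s = F.map q₂.op (x (g j) (hg j)) := by
        rw [← map_map, hsV]
      rw [f1, f2, g1, g2]
      refine hx (e₂ ≫ q₁) q₂ (hg i) (hg j) ?_
      have f3 : (e₂ ≫ q₁) ≫ g i = ((e₂ ≫ e₁) ≫ p₁) ≫ sdesc Y g := by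
        rw [f1, Category.assoc, Category.assoc, sin_sdesc, Category.assoc]
      have f4 : q₂ ≫ g j = ((e₂ ≫ e₁) ≫ p₂) ≫ sdesc Y g := by
        rw [f2, Category.assoc, sin_sdesc]
      rw [f3, f4]
      simp only [Category.assoc, hp])
  have hai : ∀ i, F.map (g i).op a = x (g i) (hg i) := by
    intro i
    rw [← hsV i, ← ha, map_map, sin_sdesc]
  refine ⟨a, fun W k hk => ?_⟩
  let R' : Sieve W :=
    { arrows := fun V h => F.map h.op (F.map k.op a) = F.map h.op (x k hk)
      downward_closed := fun {V V' h} hh h' =>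
        (map_map h' h _).symm.trans ((congrArg (F.map h'.op) hh).trans (map_map h' h _)) }
  refine sep hZ hA (R := R') ?_ _ _ (fun V h hh => hh)
  rw [EtSite.mem_iff]
  intro w
  obtain ⟨i, y, hy⟩ := hs (k.left w)
  obtain ⟨P, a', b', p, hab, hp1, -⟩ := EtSite.exists_pullback k (g i) w y hy.symm
  refine ⟨P, a', p, ?_, hp1⟩
  change F.map a'.op (F.map k.op a) = F.map a'.op (x k hk)
  rw [map_map, hab, ← map_map, hai]
  exact (hx a' b' hk (hg i) hab).symm

theorem isSheaf : Presieve.IsSheaf X.smallEtaleTopology F := by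
  intro U R hR x hx
  choose Y k y hY ho hy using exists_affine_nhd U
  have hpb : ∀ u : U.left, ∃ a : F.obj (op (Y u)), ∀ (V : X.Etale) (g : V ⟶ Y u)
      (hg : R (g ≫ k u)), F.map g.op a = x (g ≫ k u) hg := by
    intro u
    have := hY u
    obtain ⟨a, ha⟩ := exist_affine hZ hA (X.smallEtaleTopology.pullback_stable (k u) hR)
      (x.pullback (k u)) (hx.pullback (k u))
    exact ⟨a, fun V g hg => ha V g hg⟩
  choose a ha using hpb
  obtain ⟨t, ht, -⟩ := zar_glue hZ k ho (fun u => ⟨u, y u, hy u⟩) a (by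
    intro i j Z gi gj hg
    refine sep hZ hA (X.smallEtaleTopology.pullback_stable (gi ≫ k i) hR) _ _ ?_
    intro V h hh
    have hh1 : R ((h ≫ gi) ≫ k i) := by rw [Category.assoc]; exact hh
    have hh2 : R ((h ≫ gj) ≫ k j) := by rw [Category.assoc, ← hg]; exact hh
    rw [map_map, map_map, ha i V (h ≫ gi) hh1, ha j V (h ≫ gj) hh2]
    congr 1
    rw [Category.assoc, Category.assoc, hg])
  have htR : ∀ (V : X.Etale) (g : V ⟶ U) (hg : R g), F.map g.op t = x g hg := by
    intro V g hg
    apply zar_ext hZ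
    intro v
    obtain ⟨Z, e, q, z, hoz, hz, heq⟩ := exists_open_lift g (k (g.left v)) v (y (g.left v))
      (hy _).symm
    refine ⟨Z, e, z, hoz, hz, ?_⟩
    have hq : R (q ≫ k (g.left v)) := by
      rw [← heq]; exact R.downward_closed hg e
    rw [map_map, heq, ← map_map, ht, ha _ _ q hq]
    have := hx (𝟙 Z) e hq hg (by rw [Category.id_comp, heq])
    rw [map_id'] at this
    exact this
  refine ⟨t, fun V g hg => htR V g hg, ?_⟩
  intro t' ht'
  refine sep hZ hA hR _ _ ?_
  intro V g hg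
  rw [htR V g hg]
  exact ht' g hg

end

/-- The characterization of étale sheaves. -/
theorem isSheaf_iff (F : (X.Etale)ᵒᵖ ⥤ Type w) :
    Presieve.IsSheaf X.smallEtaleTopology F ↔
      Presieve.IsSheaf (zar X) F ∧
        ∀ (U V : X.Etale) [IsAffine U.left] [IsAffine V.left] (f : V ⟶ U) [Surjective f.left],
          Presieve.IsSheafFor F (Presieve.singleton f) := by
  refine ⟨fun h => ⟨?_, ?_⟩, fun h => isSheaf h.1 h.2⟩
  · intro U R hR
    apply h
    rw [EtSite.mem_iff]
    intro x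
    obtain ⟨V, g, v, hg, -, hv⟩ := (mem_zar_iff U R).1 hR x
    exact ⟨V, g, v, hg, hv⟩
  · intro U V _ _ f hf
    rw [Presieve.isSheafFor_iff_generate]
    apply h
    rw [EtSite.mem_iff]
    intro x
    obtain ⟨v, hv⟩ := hf.surj x
    exact ⟨V, f, v, ⟨V, 𝟙 _, _, Presieve.singleton_self _, Category.id_comp _⟩, hv⟩

end K301.ZarCrit
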